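import Cfsg.Agent.Lib.Spor.McLThree.NAut
import Cfsg.Agent.Lib.Grp.Basic

/-!
Producing the three-local data from hypotheses on normalizers.
-/

set_option autoImplicit false
set_option linter.unusedSectionVars false

namespace Cfsg.Agent.Spor.McLThree

open Subgroup

universe u

variable {G : Type u} [Group G] [Finite G]

theorem orderOf_three_iff {g : G} : (∃ k : ℕ, orderOf g = 3 ^ k) ↔ ∃ k : ℕ, g ^ 3 ^ k = 1 := by
  constructor
  · rintro ⟨k, hk⟩
    exact ⟨k, hk ▸ pow_orderOf_eq_one g⟩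
  · rintro ⟨k, hk⟩
    obtain ⟨j, -, hj⟩ := (Nat.dvd_prime_pow Nat.prime_three).1 (orderOf_dvd_of_pow_eq_one hk)
    exact ⟨j, hj⟩

/-- An element of three-power order normalising a group of order three centralises it. -/
theorem three_fixes {z g : G} (hz : orderOf z = 3) (hg : g ∈ normalizer ((zpowers z : Subgroup G) : Set G)) {k : ℕ}
    (hk : g ^ 3 ^ k = 1) : g * z = z * g := by
  have hzz : g * z * g⁻¹ ∈ zpowers z := ((mem_normalizer_iff.1 hg) z).1 (mem_zpowers z)
  classical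
  obtain ⟨i, hi, hie⟩ := Finset.mem_image.1 ((mem_zpowers_iff_mem_range_orderOf).1 hzz)
  rw [Finset.mem_range, hz] at hi
  interval_cases i
  · rw [pow_zero] at hie
    have : z = 1 := conj_eq_one_iff.1 hie.symm
    rw [this, orderOf_one] at hz
    norm_num at hz
  · rw [pow_one] at hie
    exact mul_inv_eq_iff_eq_mul.1 hie.symm
  · have h2 : Commute (g * g) z := by
      refine mul_inv_eq_iff_eq_mul.1 ?_
      rw [show g * g * z * (g * g)⁻¹ = g * (g * z * g⁻¹) * g⁻¹ by group, ← hie,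
        show g * z ^ 2 * g⁻¹ = (g * z * g⁻¹) ^ 2 from conj_pow.symm, ← hie, ← pow_mul,
        pow_eq_pow_mod (2 * 2) (hz ▸ pow_orderOf_eq_one z), show 2 * 2 % 3 = 1 from rfl, pow_one]
    obtain ⟨m, hm⟩ : ∃ m, 3 ^ k = 2 * m + 1 := by
      obtain ⟨m, hm⟩ := (show Odd (3 ^ k) from Odd.pow (by decide))
      exact ⟨m, hm⟩
    have e : g = ((g * g) ^ m)⁻¹ := by
      refine eq_inv_of_mul_eq_one_right ?_
      rw [← sq, ← pow_mul, ← pow_succ, ← hm, hk]
    rw [e]
    exact ((h2.pow_left m).inv_left).eq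

/-- Facts on an extraspecial group with center generated by `z`. -/
theorem extra_facts {Q : Subgroup G} (hQ : Cfsg.IsExtraspecial 3 Q) {z : G} (hz : orderOf z = 3) (hzQ : z ∈ Q)
    (hc : ∀ a ∈ Q, z * a = a * z) :
    (∀ a ∈ Q, ∀ b ∈ Q, a * b * a⁻¹ * b⁻¹ ∈ zpowers z) ∧
      ∀ a ∈ Q, (∀ b ∈ Q, a * b = b * a) → a ∈ zpowers z := by
  obtain ⟨⟨-, -, hcomm⟩, hcard⟩ := hQ
  have hle : (zpowers z).subgroupOf Q ≤ center Q := fun a ha => mem_center_iff.2 fun b => Subtype.ext (by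
    obtain ⟨i, hi⟩ := mem_subgroupOf.1 ha
    show (b : G) * a = a * b
    rw [← show z ^ i = (a : G) from hi]
    exact ((show Commute z b from hc b b.2).zpow_left i).eq.symm)
  have heq := eq_of_le_of_card_ge hle (by
    rw [hcard, Nat.card_congr (subgroupOfEquivOfLe (zpowers_le.2 hzQ)).toEquiv, Nat.card_zpowers, hz])
  refine ⟨fun a ha b hb => ?_, fun a ha h => ?_⟩
  · have : (⟨a, ha⟩ : Q) * ⟨b, hb⟩ * (⟨a, ha⟩ : Q)⁻¹ * (⟨b, hb⟩ : Q)⁻¹ ∈ commutator Q :=
      commutator_mem_commutator (mem_top _) (mem_top _)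
    rw [hcomm, ← heq] at this
    exact mem_subgroupOf.1 this
  · have : (⟨a, ha⟩ : Q) ∈ center Q := mem_center_iff.2 fun b => Subtype.ext (h b b.2).symm
    rw [← heq] at this
    exact mem_subgroupOf.1 this

/-- In an extraspecial group of order `3⁵` abelian subgroups have order at most `27`. -/
theorem extra_abelian_le {Q : Subgroup G} {z : G} (hz : orderOf z = 3) (hzQ : z ∈ Q) (hQc : Nat.card Q = 243)
    (hcm : ∀ a ∈ Q, ∀ b ∈ Q, a * b * a⁻¹ * b⁻¹ ∈ zpowers z)
    (hcen : ∀ a ∈ Q, (∀ b ∈ Q, a * b = b * a) → a ∈ zpowers z) (hzc : ∀ a ∈ Q, z * a = a * z)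
    {A : Subgroup G} (hA : A ≤ Q) (hc : ∀ a ∈ A, ∀ b ∈ A, a * b = b * a) : Nat.card A ≤ 27 := by
  by_contra hlt
  push Not at hlt
  have hZ : Nat.card (zpowers z) = 3 := by rw [Nat.card_zpowers, hz]
  have hd : Nat.card A ∣ 3 ^ 5 := by
    have := card_dvd_of_le hA
    rwa [hQc] at this
  obtain ⟨n, hn, hAn⟩ := (Nat.dvd_prime_pow Nat.prime_three).1 hd
  rw [hAn] at hlt
  obtain rfl | rfl : n = 4 ∨ n = 5 := by
    interval_cases n <;> simp_all
  swap
  · have hQA : A = Q := eq_of_le_of_card_ge hA (by rw [hAn, hQc]; norm_num)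
    subst hQA
    have : A ≤ zpowers z := fun a ha => hcen a ha fun b hb => hc a ha b hb
    have := card_le_of_le this
    rw [hZ, hQc] at this
    omega
  obtain ⟨q, hqQ, hqA⟩ : ∃ q ∈ Q, q ∉ A := by
    by_contra h
    push Not at h
    have := card_le_of_le (show Q ≤ A from h)
    rw [hAn, hQc] at this
    norm_num at this
  let f : A →* zpowers z :=
    { toFun := fun a => ⟨q * a * q⁻¹ * (a : G)⁻¹, hcm q hqQ a (hA a.2)⟩
      map_one' := Subtype.ext (by simp)
      map_mul' := fun a b => Subtype.ext (by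
        obtain ⟨i, hi⟩ := hcm q hqQ b (hA b.2)
        have hz' : q * (b : G) * q⁻¹ * (b : G)⁻¹ * (a : G)⁻¹ = (a : G)⁻¹ * (q * (b : G) * q⁻¹ * (b : G)⁻¹) := by
          rw [← show z ^ i = q * (b : G) * q⁻¹ * (b : G)⁻¹ from hi]
          exact ((show Commute z (a : G)⁻¹ from hzc _ (hA (inv_mem a.2))).zpow_left i).eq
        show q * ((a : G) * (b : G)) * q⁻¹ * ((a : G) * (b : G))⁻¹ =
          q * (a : G) * q⁻¹ * (a : G)⁻¹ * (q * (b : G) * q⁻¹ * (b : G)⁻¹)
        calc q * ((a : G) * (b : G)) * q⁻¹ * ((a : G) * (b : G))⁻¹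
            = q * (a : G) * q⁻¹ * ((q * (b : G) * q⁻¹ * (b : G)⁻¹) * (a : G)⁻¹) := by group
          _ = _ := by rw [hz']; group) }
  have hker : ∀ a : A, a ∈ f.ker → (a : G) ∈ zpowers z := by
    intro a ha
    have hqa : q * a * q⁻¹ * (a : G)⁻¹ = 1 := congrArg Subtype.val (MonoidHom.mem_ker.1 ha)
    have hC : A ≤ centralizer ({(a : G)} : Set G) := fun b hb =>
      mem_centralizer_singleton_iff.2 (hc b hb a a.2)
    have hqC : q ∈ centralizer ({(a : G)} : Set G) :=
      mem_centralizer_singleton_iff.2 (mul_inv_eq_iff_eq_mul.1 (mul_inv_eq_one.1 hqa))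
    have hle : A ≤ centralizer ({(a : G)} : Set G) ⊓ Q := le_inf hC hA
    have hlt' : Nat.card A < Nat.card ↥(centralizer ({(a : G)} : Set G) ⊓ Q) := by
      by_contra h
      rw [eq_of_le_of_card_ge hle (not_lt.1 h)] at hqA
      exact hqA ⟨hqC, hqQ⟩
    have hd' : Nat.card ↥(centralizer ({(a : G)} : Set G) ⊓ Q) ∣ 3 ^ 5 := by
      have := card_dvd_of_le (inf_le_right : centralizer ({(a : G)} : Set G) ⊓ Q ≤ Q)
      rwa [hQc] at this
    obtain ⟨m, hm, hmc⟩ := (Nat.dvd_prime_pow Nat.prime_three).1 hd'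
    rw [hAn, hmc] at hlt'
    have hm5 : m = 5 := by
      have := (Nat.pow_lt_pow_iff_right (by norm_num : 1 < 3)).1 hlt'
      omega
    have heq := eq_of_le_of_card_ge (inf_le_right : centralizer ({(a : G)} : Set G) ⊓ Q ≤ Q)
      (by rw [hmc, hm5, hQc]; norm_num)
    exact hcen a (hA a.2) fun b hb => by
      have hb' : b ∈ centralizer ({(a : G)} : Set G) ⊓ Q := heq.symm ▸ hb
      exact (mem_centralizer_singleton_iff.1 hb'.1).symm
  have h1 : Nat.card f.ker ≤ 3 := by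
    rw [← hZ]
    exact Nat.card_le_card_of_injective (fun a : f.ker => (⟨_, hker a a.2⟩ : zpowers z))
      fun a b h => Subtype.ext (Subtype.ext (congrArg Subtype.val h :))
  have h2 := f.ker.card_mul_index
  have h3 : f.ker.index ≤ 3 := by
    rw [index_ker]
    exact (card_subgroup_dvd_card f.range |> Nat.le_of_dvd Nat.card_pos).trans hZ.le
  have : Nat.card A ≤ 9 := h2 ▸ Nat.mul_le_mul h1 h3
  rw [hAn] at this
  norm_num at this

/-- An abelian subgroup of order `81` of the Sylow subgroup contains the central element. -/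
theorem z_mem {Q S J : Subgroup G} {z : G} (hz : orderOf z = 3) (hzQ : z ∈ Q) (hQc : Nat.card Q = 243)
    (hQex : Cfsg.IsExtraspecial 3 Q) (hzc : ∀ a ∈ S, a * z = z * a) (hQS : Q ≤ S) (hS : Nat.card S = 729)
    (hn : S ≤ normalizer (Q : Set G)) (hJS : J ≤ S) (hJ : ∀ a ∈ J, ∀ b ∈ J, a * b = b * a)
    (hJc : Nat.card J = 81) : z ∈ J := by
  have hzq : ∀ a ∈ Q, z * a = a * z := fun a ha => (hzc a (hQS ha)).symm
  obtain ⟨hcm, hcen⟩ := extra_facts hQex hz hzQ hzq
  by_contra hzJ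
  set A := closure ((J : Set G) ∪ {z})
  have hJA : J ≤ A := fun a ha => subset_closure (Or.inl ha)
  have hAc : ∀ a ∈ A, ∀ b ∈ A, a * b = b * a := by
    haveI : IsMulCommutative A := isMulCommutative_closure (by
      rintro a (ha | rfl) b (hb | rfl)
      exacts [hJ a ha b hb, hzc a (hJS ha), (hzc b (hJS hb)).symm, rfl])
    exact fun a ha b hb => congrArg Subtype.val (IsMulCommutative.is_comm.comm (⟨a, ha⟩ : A) ⟨b, hb⟩)
  have hAS : A ≤ S := (closure_le _).2 (by
    rintro a (ha | rfl)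
    exacts [hJS ha, hQS hzQ])
  have hprod := Grp.card_sup_mul_card_inf (show A ≤ normalizer (Q : Set G) from hAS.trans hn)
  have hle : Nat.card ↥(A ⊔ Q) ≤ 729 := hS ▸ card_le_of_le (sup_le hAS hQS)
  have hinf : Nat.card ↥(A ⊓ Q) ≤ 27 :=
    extra_abelian_le hz hzQ hQc hcm hcen hzq inf_le_right fun a ha b hb => hAc a ha.1 b hb.1
  have hA81 : Nat.card A ≤ 81 := by
    rw [hQc] at hprod
    nlinarith
  exact hzJ ((eq_of_le_of_card_ge hJA (hJc ▸ hA81)).symm ▸ (subset_closure (Or.inr rfl) : z ∈ A))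

/-- The setting of the statements with normalizers. -/
theorem normalizer_setting
    (S : Sylow 3 G) (Z : Subgroup G) (hZ : Z = (S : Subgroup G) ⊓ Subgroup.centralizer ((S : Subgroup G) : Set G))
    (J : Subgroup G) (hJS : J ≤ S) (hJcomm : IsMulCommutative J) (hJexp : ∀ a ∈ J, a ^ 3 = 1)
    (hJcard : Nat.card J = 3 ^ 4)
    (M₀ : Subgroup G) (hM₀ : M₀ = Subgroup.closure {g : G | g ∈ Subgroup.normalizer (J : Set G) ∧ ∃ k : ℕ, orderOf g = 3 ^ k})
    [hJn : (J.subgroupOf M₀).Normal] (eM : M₀ ⧸ J.subgroupOf M₀ ≃* alternatingGroup (Fin 6))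
    (L₀ : Subgroup G) (hL₀ : L₀ = Subgroup.closure {g : G | g ∈ Subgroup.normalizer (Z : Set G) ∧ ∃ k : ℕ, orderOf g = 3 ^ k})
    (Q : Subgroup G) (hQ : Q = (Cfsg.pCore 3 (Subgroup.normalizer (Z : Set G))).map (Subgroup.normalizer (Z : Set G)).subtype)
    (hQex : Cfsg.IsExtraspecial 3 Q) (hQcard : Nat.card Q = 3 ^ 5) (hQexp : ∀ a ∈ Q, a ^ 3 = 1)
    (hQL : Q ≤ L₀) [hQn : (Q.subgroupOf L₀).Normal]
    (eL : L₀ ⧸ Q.subgroupOf L₀ ≃* Matrix.SpecialLinearGroup (Fin 2) (ZMod 5)) :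
    ∃ z : G, z ∈ J ∧ z ≠ 1 ∧ Subgroup.centralizer ({z} : Set G) = Subgroup.centralizer (Z : Set G) ∧
      (Cfsg.pCore 3 (Subgroup.centralizer (Z : Set G))).map (Subgroup.centralizer (Z : Set G)).subtype ≤ Q ∧
      ((∀ g : G, (∀ q ∈ Q, g * q = q * g) → g ∈ Q) → Nonempty (Hyp G)) := by
  haveI : Fact (Nat.Prime 3) := ⟨Nat.prime_three⟩
  set N := Subgroup.normalizer (Z : Set G) with hN
  have hcore := Grp.pCore_isPGroup (p := 3) (G := N)
  haveI hcoren := Grp.pCore_isNormal (p := 3) (G := N)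
  have hQN : Q ≤ N := hQ ▸ map_subtype_le _
  have hQnorm : ∀ n ∈ N, ∀ q ∈ Q, n * q * n⁻¹ ∈ Q := by
    rintro n hn q hq
    rw [hQ] at hq ⊢
    obtain ⟨q', hq', rfl⟩ := hq
    exact ⟨⟨n, hn⟩ * q' * ⟨n, hn⟩⁻¹, hcoren.conj_mem q' hq' _, rfl⟩
  have hSc : ∀ s ∈ (S : Subgroup G), ∀ z ∈ Z, s * z = z * s := fun s hs z hz => by
    rw [hZ] at hz
    exact mem_centralizer_iff.1 hz.2 s hs
  have hSN : (S : Subgroup G) ≤ N := fun s hs => mem_normalizer_iff.2 fun a => by
    have h1 : ∀ {x}, x ∈ (S : Subgroup G) → a ∈ Z → x * a * x⁻¹ = a := fun hx ha => by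
      rw [hSc _ hx a ha, mul_inv_cancel_right]
    refine ⟨fun ha => (h1 hs ha).symm ▸ ha, fun ha => ?_⟩
    have h2 := hSc _ hs _ ha
    rw [show a = s⁻¹ * (s * a * s⁻¹) * s by group, mul_assoc, ← h2, inv_mul_cancel_left]
    exact ha
  have hZS : Z ≤ S := hZ ▸ inf_le_left
  have hZN : Z ≤ N := le_normalizer
  have hQp : IsPGroup 3 Q := hQ ▸ hcore.map _
  have hQS : Q ≤ S := by
    have hn : (S : Subgroup G) ≤ normalizer (Q : Set G) := fun s hs =>
      mem_normalizer_fintype fun q hq => hQnorm s (hSN hs) q hq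
    have h := S.is_maximal' (S.isPGroup'.to_sup_of_normal_right' hQp hn) le_sup_left
    exact h ▸ le_sup_right
  have hZQ : Z ≤ Q := by
    rw [hQ]
    intro a ha
    refine ⟨⟨a, hZN ha⟩, ?_, rfl⟩
    have hn : (Z.subgroupOf N).Normal := ⟨fun b hb c => mem_subgroupOf.2
      (((mem_normalizer_iff.1 c.2) _).1 (mem_subgroupOf.1 hb))⟩
    have hp : IsPGroup 3 (Z.subgroupOf N) :=
      (S.isPGroup'.to_le hZS).comap_of_injective N.subtype N.subtype_injective
    exact (le_sSup (⟨hn, hp⟩ : Z.subgroupOf N ∈ {K : Subgroup N | K.Normal ∧ IsPGroup 3 K}) :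
      Z.subgroupOf N ≤ Cfsg.pCore 3 N) (mem_subgroupOf.2 ha)
  have hQ243 : Nat.card Q = 243 := by rw [hQcard]; norm_num
  have hZ3 : Nat.card Z = 3 := by
    have hinj : Nat.card Z ≤ Nat.card (center Q) := Nat.card_le_card_of_injective
      (fun a : Z => (⟨⟨a, hZQ a.2⟩, mem_center_iff.2 fun b => Subtype.ext (hSc b (hQS b.2) a a.2)⟩ : center Q))
      fun a b h => Subtype.ext (congrArg (fun x : center Q => ((x : Q) : G)) h)
    rw [hQex.2] at hinj
    haveI : Nontrivial (S : Subgroup G) := by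
      rw [← Finite.one_lt_card_iff_nontrivial]
      have := card_le_of_le hQS
      omega
    have hne : Z ≠ ⊥ := by
      obtain ⟨⟨⟨a, haS⟩, hac⟩, ha1⟩ := @exists_ne (center (S : Subgroup G)) S.isPGroup'.center_nontrivial 1
      intro h
      have : a ∈ Z := hZ ▸ ⟨haS, mem_centralizer_iff.2 fun b hb =>
        congrArg Subtype.val (mem_center_iff.1 hac ⟨b, hb⟩)⟩
      rw [h, mem_bot] at this
      exact ha1 (Subtype.ext (Subtype.ext this))
    obtain ⟨j, hj⟩ := IsPGroup.iff_card.1 (S.isPGroup'.to_le hZS)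
    rw [hj] at hinj ⊢
    rcases j with _ | _ | j
    · exact absurd (card_eq_one.1 (hj.trans (pow_zero 3))) hne
    · rfl
    · exact absurd hinj (by rw [pow_succ, pow_succ]; have := Nat.one_le_pow j 3 (by norm_num); omega)
  haveI : IsCyclic Z := isCyclic_of_prime_card hZ3
  obtain ⟨⟨z, hzZ⟩, hgen⟩ := IsCyclic.exists_ofOrder_eq_natCard (α := Z)
  rw [hZ3, ← Subgroup.orderOf_coe] at hgen
  have hz : orderOf z = 3 := hgen
  have hZz : Z = zpowers z := (eq_of_le_of_card_ge (zpowers_le.2 hzZ) (by rw [Nat.card_zpowers, hz, hZ3])).symm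
  have hCeq : Subgroup.centralizer ({z} : Set G) = Subgroup.centralizer (Z : Set G) := by
    refine le_antisymm (fun g hg => mem_centralizer_iff.2 fun a ha => ?_)
      (centralizer_le (Set.singleton_subset_iff.2 hzZ))
    rw [hZz] at ha
    obtain ⟨i, rfl⟩ := ha
    exact (((show Commute g z from mem_centralizer_singleton_iff.1 hg)).zpow_right i).eq.symm
  have hcentN : ∀ g : G, g * z = z * g → g ∈ N := fun g hg => by
    rw [hN, hZz]
    refine mem_normalizer_fintype fun a ha => ?_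
    obtain ⟨i, rfl⟩ := ha
    rw [((show Commute g z from hg).zpow_right i).eq, mul_inv_cancel_right]
    exact zpow_mem (mem_zpowers z) i
  have hzQ : z ∈ Q := hZQ hzZ
  have hzS : ∀ s ∈ (S : Subgroup G), s * z = z * s := fun s hs => hSc s hs z hzZ
  obtain ⟨hcm, hcen⟩ := extra_facts hQex hz hzQ fun a ha => (hzS a (hQS ha)).symm
  -- the order of the Sylow subgroup
  have hcardL : Nat.card L₀ = 29160 := by
    rw [← (Q.subgroupOf L₀).card_mul_index, Nat.card_congr (subgroupOfEquivOfLe hQL).toEquiv, hQ243,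
      index_eq_card, Nat.card_congr eL.toEquiv, Nat.card_eq_fintype_card, sl5_card]
  have hSL : (S : Subgroup G) ≤ L₀ := fun s hs => by
    obtain ⟨k, hk⟩ := S.isPGroup' ⟨s, hs⟩
    exact hL₀ ▸ subset_closure ⟨hSN hs, orderOf_three_iff.2 ⟨k, by simpa using congrArg Subtype.val hk⟩⟩
  have hS729 : Nat.card (S : Subgroup G) = 729 := by
    obtain ⟨j, hj⟩ := IsPGroup.iff_card.1 S.isPGroup'
    have hd := card_dvd_of_le hSL
    rw [hcardL, hj] at hd
    have hj6 : j ≤ 6 := by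
      by_contra hlt
      exact absurd ((pow_dvd_pow 3 (show 7 ≤ j by omega)).trans hd) (by norm_num)
    obtain ⟨P, hP⟩ := Sylow.exists_subgroup_card_pow_prime 3 (G := L₀) (n := 6) (by rw [hcardL]; norm_num)
    obtain ⟨T, hT⟩ := ((IsPGroup.of_card hP).map L₀.subtype).exists_le_sylow
    have h6 : 3 ^ 6 ≤ 3 ^ j := by
      rw [← hj, ← hP, Sylow.card_eq_multiplicity S, ← Sylow.card_eq_multiplicity T,
        Nat.card_congr (equivMapOfInjective P _ L₀.subtype_injective).toEquiv]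
      exact card_le_of_le hT
    rw [hj, show j = 6 from le_antisymm hj6 ((Nat.pow_le_pow_iff_right (by norm_num)).1 h6)]
    norm_num
  have hzJ : z ∈ J := z_mem hz hzQ hQ243 hQex hzS hQS hS729
    (fun s hs => mem_normalizer_fintype fun q hq => hQnorm s (hSN hs) q hq) hJS
    (fun a ha b hb => congrArg Subtype.val (hJcomm.is_comm.comm (⟨a, ha⟩ : J) ⟨b, hb⟩))
    (by rw [hJcard]; norm_num)
  refine ⟨z, hzJ, fun h => by rw [h, orderOf_one] at hz; norm_num at hz, hCeq, ?_, fun hcent => ⟨{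
    z := z
    Q := Q
    J := J
    S := S
    L := L₀
    M := M₀
    ψ := eL.toMonoidHom.comp (QuotientGroup.mk' _)
    φ := eM.toMonoidHom.comp (QuotientGroup.mk' _)
    z_order := hz
    z_Q := hzQ
    Q_card := hQ243
    Q_cube := hQexp
    z_cen := fun a ha => (hzS a (hQS ha)).symm
    Q_comm := hcm
    Q_cen := hcen
    cent_Q := hcent
    norm_Q := fun g hg => hQnorm g (hcentN g hg)
    L_def := ?_
    ψ_surj := eL.surjective.comp (QuotientGroup.mk'_surjective _)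
    ψ_ker := fun g => by
      rw [MonoidHom.comp_apply, MulEquiv.coe_toMonoidHom, MulEquiv.map_eq_one_iff, QuotientGroup.mk'_apply,
        QuotientGroup.eq_one_iff, mem_subgroupOf]
    S_card := hS729
    S_cz := hzS
    S_max := fun P hP => by
      obtain ⟨T, hT⟩ := hP.exists_le_sylow
      exact (card_le_of_le hT).trans (le_of_eq (((Sylow.card_eq_multiplicity T).trans
        (Sylow.card_eq_multiplicity S).symm).trans hS729))
    J_le_S := hJS
    J_card := by rw [hJcard]; norm_num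
    J_cube := hJexp
    J_comm := fun a ha b hb => congrArg Subtype.val (hJcomm.is_comm.comm (⟨a, ha⟩ : J) ⟨b, hb⟩)
    M_def := ?_
    φ_surj := eM.surjective.comp (QuotientGroup.mk'_surjective _)
    φ_ker := fun g => by
      rw [MonoidHom.comp_apply, MulEquiv.coe_toMonoidHom, MulEquiv.map_eq_one_iff, QuotientGroup.mk'_apply,
        QuotientGroup.eq_one_iff, mem_subgroupOf] }⟩⟩
  · rintro _ ⟨a, ha, rfl⟩
    have hCN : Subgroup.centralizer (Z : Set G) ≤ N := fun g hg =>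
      hcentN g (mem_centralizer_singleton_iff.1 (hCeq.symm ▸ hg))
    haveI hn := Grp.pCore_isNormal (p := 3) (G := Subgroup.centralizer (Z : Set G))
    set X := (Cfsg.pCore 3 (Subgroup.centralizer (Z : Set G))).map (Subgroup.centralizer (Z : Set G)).subtype with hX
    have hnormal : (X.subgroupOf N).Normal := by
      refine ⟨fun b hb n => mem_subgroupOf.2 ?_⟩
      have hconj : ∀ g ∈ N, ∀ c ∈ Subgroup.centralizer (Z : Set G), g * c * g⁻¹ ∈ Subgroup.centralizer (Z : Set G) :=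
        fun g hg c hc => mem_centralizer_iff.2 fun d hd => by
          have h := mem_centralizer_iff.1 hc _ (((mem_normalizer_iff''.1 hg) d).1 hd)
          calc d * (g * c * g⁻¹) = g * ((g⁻¹ * d * g) * c) * g⁻¹ := by group
            _ = _ := by rw [h]; group
      let φ : Subgroup.centralizer (Z : Set G) →* Subgroup.centralizer (Z : Set G) :=
        { toFun := fun c => ⟨(n : G) * c * (n : G)⁻¹, hconj n n.2 c c.2⟩
          map_one' := Subtype.ext (by simp)
          map_mul' := fun c d => Subtype.ext (by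
            show (n : G) * ((c : G) * d) * (n : G)⁻¹ = (n : G) * c * (n : G)⁻¹ * ((n : G) * d * (n : G)⁻¹)
            group) }
      have hmap : (Cfsg.pCore 3 (Subgroup.centralizer (Z : Set G))).map φ ≤
          Cfsg.pCore 3 (Subgroup.centralizer (Z : Set G)) := by
        refine le_sSup ⟨⟨fun c hc d => ?_⟩, Grp.pCore_isPGroup.map φ⟩
        obtain ⟨c', hc', rfl⟩ := hc
        refine ⟨⟨(n : G)⁻¹ * d * n, by simpa using hconj _ (inv_mem n.2) d d.2⟩ * c' *
          ⟨(n : G)⁻¹ * d * n, by simpa using hconj _ (inv_mem n.2) d d.2⟩⁻¹, hn.conj_mem _ hc' _, Subtype.ext ?_⟩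
        show (n : G) * ((n : G)⁻¹ * d * n * c' * ((n : G)⁻¹ * d * n)⁻¹) * (n : G)⁻¹ =
          (d : G) * ((n : G) * c' * (n : G)⁻¹) * (d : G)⁻¹
        group
      obtain ⟨b', hb', hbe⟩ := mem_subgroupOf.1 hb
      exact ⟨φ b', hmap ⟨b', hb', rfl⟩, by
        show (n : G) * (b' : G) * (n : G)⁻¹ = (n : G) * (b : G) * (n : G)⁻¹
        rw [← hbe]; rfl⟩
    have hp : IsPGroup 3 (X.subgroupOf N) :=
      (Grp.pCore_isPGroup.map _).comap_of_injective N.subtype N.subtype_injective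
    rw [hQ]
    exact ⟨⟨a, hCN a.2⟩, (le_sSup (⟨hnormal, hp⟩ : X.subgroupOf N ∈ {K : Subgroup N | K.Normal ∧ IsPGroup 3 K}) :
      X.subgroupOf N ≤ Cfsg.pCore 3 N) (mem_subgroupOf.2 ⟨a, ha, rfl⟩), rfl⟩
  · rw [hL₀]
    congr 1
    ext g
    refine ⟨fun ⟨hg, hk⟩ => ?_, fun ⟨hg, hk⟩ => ⟨hcentN g hg, orderOf_three_iff.2 hk⟩⟩
    obtain ⟨k, hk'⟩ := orderOf_three_iff.1 hk
    exact ⟨three_fixes hz (hZz ▸ hg) hk', k, hk'⟩
  · rw [hM₀]
    congr 1
    ext g
    exact and_congr_right fun _ => orderOf_three_iff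

end Cfsg.Agent.Spor.McLThree
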