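import Cfsg.Agent.Lib.Spor.McLThree.TClass

/-!
With the extension there is a normal subgroup of index two: transfer of an involution with anisotropic fixed plane.
-/

set_option autoImplicit false
set_option maxRecDepth 100000
set_option synthInstance.maxSize 4096
set_option linter.unusedSectionVars false

namespace Cfsg.Agent.Spor.McLThree

open Subgroup Cfsg.Agent.Spor.UFourType

universe u

/-- The matrix of the outer involution. -/
def mU : ℕ := mM mR mW0

/-- The vectors it fixes. -/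
def fixU : List ℕ := (List.range 81).filter fun v => Nat.beq (ap mU v) v

theorem mU_spec : mM mU mU = mI ∧ mM mI mU = mU ∧ mU ≠ mI ∧ fixU.Nodup ∧ fixU.length = 9 ∧
    (∀ v ∈ fixU, v < 81 ∧ ap mU v = v ∧ sngP v = false) ∧ sngP 4 = true := by
  decide +kernel

variable {G : Type u} [Group G] [Finite G]

/-- An involution not conjugate into a subgroup of index twice an odd number is outside a subgroup of index two. -/
theorem transfer_two (Q : Subgroup G) (m : ℕ) (hm : Odd m) (hQ : Q.index = 2 * m) (u : G) (hu : u * u = 1)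
    (hex : ∀ g : G, g * u * g⁻¹ ∉ Q) : ∃ M : Subgroup G, M.Normal ∧ M.index = 2 ∧ u ∉ M := by
  classical
  haveI : Fintype (G ⧸ Q) := Fintype.ofFinite _
  let f : G →* Equiv.Perm (G ⧸ Q) := MulAction.toPermHom G (G ⧸ Q)
  have hfix : ∀ c : G ⧸ Q, f u c ≠ c := by
    intro c
    induction c using QuotientGroup.induction_on with
    | H g =>
      intro hc
      refine hex g⁻¹ ?_
      have h1 : ((u * g : G) : G ⧸ Q) = (g : G ⧸ Q) := hc
      have h2 := inv_mem (QuotientGroup.eq.1 h1.symm)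
      rw [mul_inv_rev, mul_inv_rev, inv_inv, inv_eq_of_mul_eq_one_right hu] at h2
      rwa [inv_inv]
  have hσ : f u * f u = 1 := by rw [← map_mul, hu, map_one]
  have hct : ∀ k ∈ (f u).cycleType, k = 2 := fun k hk => le_antisymm
    (Nat.le_of_dvd (by norm_num) ((Equiv.Perm.dvd_of_mem_cycleType hk).trans (orderOf_dvd_of_pow_eq_one (by rw [sq, hσ]))))
    (Equiv.Perm.two_le_of_mem_cycleType hk)
  have hsum : (f u).cycleType.sum = 2 * Multiset.card (f u).cycleType := by
    conv_lhs => rw [Multiset.eq_replicate_card.2 hct]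
    rw [Multiset.sum_replicate, smul_eq_mul, mul_comm]
  have hall : (f u).cycleType.sum = 2 * m := by
    rw [Equiv.Perm.sum_cycleType, show (f u).support = Finset.univ by ext c; simp [Equiv.Perm.mem_support, hfix c],
      Finset.card_univ, ← Nat.card_eq_fintype_card, ← Subgroup.index_eq_card, hQ]
  let χ : G →* ℤˣ := Equiv.Perm.sign.comp f
  have hχu : χ u = -1 := by
    show Equiv.Perm.sign (f u) = -1
    rw [Equiv.Perm.sign_of_cycleType, hsum, show Multiset.card (f u).cycleType = m by omega]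
    exact Odd.neg_one_pow (by obtain ⟨j, hj⟩ := hm; exact ⟨3 * j + 1, by omega⟩)
  refine ⟨χ.ker, inferInstance, ?_, fun h => absurd ((MonoidHom.mem_ker.1 h).symm.trans hχu) (by decide)⟩
  have hs : Function.Surjective χ := fun z => by
    rcases Int.units_eq_one_or z with rfl | rfl
    exacts [⟨1, map_one _⟩, ⟨u, hχu⟩]
  rw [Subgroup.index_ker, MonoidHom.range_eq_top.2 hs, card_top, Nat.card_eq_fintype_card]
  rfl

variable {H : Hyp G}

namespace Co

variable {C : Sec H} {T : Tt C} {S : Swap T} (O : Co S)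

/-- The lifts of the Sylow two-subgroup. -/
noncomputable def Two : Subgroup G := (P8.two.comap O.π).map T.K.subtype

theorem mem_Two {g : G} (hg : g ∈ T.K) (h : O.π ⟨g, hg⟩ ∈ P8.two) : g ∈ O.Two := ⟨⟨g, hg⟩, h, rfl⟩

theorem Two_isPGroup : IsPGroup 2 O.Two := by
  rintro ⟨_, ⟨g, hg⟩, h, rfl⟩
  refine ⟨4, Subtype.ext ?_⟩
  show g ^ 2 ^ 4 = 1
  have h8 : O.π (⟨g, hg⟩ ^ 8) = 1 := by rw [map_pow, P8.two_pow h]
  rw [show (2 : ℕ) ^ 4 = 8 * 2 from rfl, pow_mul, sq]
  rcases (O.ker _).1 h8 with e | e <;> rw [coe_pow] at e <;> rw [e]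
  exacts [one_mul 1, T.t_sq]

include O in
/-- The centralizer of the involution has odd index. -/
theorem index_K (hE : C.Ext) : Odd T.K.index := by
  haveI : Fact (Nat.Prime 2) := ⟨Nat.prime_two⟩
  obtain ⟨R, hR⟩ := O.Two_isPGroup.exists_le_sylow
  obtain ⟨hg1, hg2, hg3, hgv⟩ := P8.g_two
  have hl : ∀ σ ∈ P8.two, ∃ g, ∃ hg : g ∈ T.K, O.π ⟨g, hg⟩ = σ ∧ g ∈ (R : Subgroup G) := fun σ hσ => by
    obtain ⟨⟨g, hg⟩, h⟩ := O.caseE hE σ
    exact ⟨g, hg, h, hR (O.mem_Two hg (h ▸ hσ))⟩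
  have htR : T.t ∈ (R : Subgroup G) := hR (O.mem_Two T.t_K (O.π_t ▸ one_mem _))
  haveI : Nontrivial (R : Subgroup G) := ⟨⟨T.t, htR⟩, 1, fun h => T.t_ne (congrArg Subtype.val h)⟩
  haveI := R.isPGroup'.center_nontrivial
  obtain ⟨k, hk⟩ := IsPGroup.iff_card.1 (R.isPGroup'.to_subgroup (center (R : Subgroup G)))
  have h2 : 2 ∣ Nat.card (center (R : Subgroup G)) := by
    have h1 := Finite.one_lt_card (α := center (R : Subgroup G))
    rw [hk] at h1 ⊢
    exact dvd_pow_self 2 (by rintro rfl; simp at h1)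
  obtain ⟨⟨⟨x0, hx0R⟩, hx0C⟩, hx0o⟩ := exists_prime_orderOf_dvd_card' 2 h2
  have hcomm : ∀ r ∈ (R : Subgroup G), r * x0 = x0 * r := fun r hr =>
    congrArg Subtype.val (mem_center_iff.1 hx0C ⟨r, hr⟩)
  have hx0K : x0 ∈ T.K := T.mem_K.2 (hcomm _ htR).symm
  have hx0ne : x0 ≠ 1 := fun h => by
    have h1 : (⟨⟨x0, hx0R⟩, hx0C⟩ : center (R : Subgroup G)) = 1 := Subtype.ext (Subtype.ext h)
    rw [h1, orderOf_one] at hx0o
    exact absurd hx0o (by norm_num)
  have hπc : ∀ σ ∈ P8.two, O.π ⟨x0, hx0K⟩ * σ = σ * O.π ⟨x0, hx0K⟩ := fun σ hσ => by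
    obtain ⟨g, hg, rfl, hgR⟩ := hl σ hσ
    rw [← map_mul, ← map_mul]
    exact congrArg O.π (Subtype.ext (hcomm g hgR).symm)
  have hxt : x0 = T.t := by
    rcases P8.two_center (hπc _ hg1) (hπc _ hg2) (hπc _ hg3) with h | h
    · exact ((O.ker _).1 h).resolve_left hx0ne
    exfalso
    obtain ⟨v, hv, hπv, hflip⟩ := O.flip
    have hvR : v ∈ (R : Subgroup G) := hR (O.mem_Two hv (hπv ▸ hgv))
    have hvx := hcomm v hvR
    have hvS : v * S.x = S.x * v := by
      rcases O.fibre (g := ⟨S.x, S.x_K⟩) (g' := ⟨x0, hx0K⟩) (O.px_A.trans h.symm) with e | e <;>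
        rw [show x0 = _ from e] at hvx
      · exact hvx
      · rw [← mul_assoc, mul_assoc S.x T.t v, (t_cen hv).eq, ← mul_assoc] at hvx
        exact mul_right_cancel hvx
    rw [hvS] at hflip
    exact T.t_ne (mul_eq_right.1 hflip.symm)
  have hRK : (R : Subgroup G) ≤ T.K := fun r hr => T.mem_K.2 (hxt ▸ hcomm r hr)
  exact Nat.not_even_iff_odd.1 fun he => R.not_dvd_index (he.two_dvd.trans (index_dvd_of_le hRK))

/-- The even part. -/
noncomputable def Kev : Subgroup G := (Equiv.Perm.sign.comp O.π).ker.map T.K.subtype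

theorem index_Kev (hE : C.Ext) : O.Kev.index = 2 * T.K.index := by
  rw [← relIndex_mul_index (show O.Kev ≤ T.K from map_subtype_le _)]
  congr 1
  rw [relIndex, Kev, subgroupOf, comap_map_eq_self_of_injective T.K.subtype_injective, index_ker,
    MonoidHom.range_eq_top.2 (show Function.Surjective (Equiv.Perm.sign.comp O.π) from fun s => by
      obtain ⟨σ, hσ⟩ := Equiv.Perm.sign_surjective (Fin 8) s
      obtain ⟨g, hg⟩ := O.caseE hE σ
      exact ⟨g, by rw [MonoidHom.comp_apply, hg, hσ]⟩), card_top,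
    Nat.card_eq_fintype_card]
  rfl

include O in
/-- The normal subgroup of index two. -/
theorem exists_index_two (hE : C.Ext) : ∃ M : Subgroup G, M.Normal ∧ M.index = 2 ∧
    ∀ g ∈ normalizer (H.J : Set G), g * H.z = H.z * g → ActB C.ev g mR → g ∉ M := by
  haveI : Fact (Nat.Prime 3) := ⟨Nat.prime_three⟩
  obtain ⟨d, hd, hdN, hdA⟩ := T.exists_d hE
  obtain ⟨hUU, hIU, hUne, hnd, hlen, hfix, h4s⟩ := mU_spec
  set g0 := d * S.x with hg0
  have hg0A : ActB C.ev g0 mU := C.nact_mul hdA S.x_act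
  have hg0K : g0 ∈ T.K := T.K.mul_mem hd.1 S.x_K
  have hg0J : g0 * g0 ∈ H.J := C.act_mI_mem (hUU ▸ C.nact_mul hg0A hg0A)
  set τ := g0 * g0 * g0 with hτ
  have hτA : ActB C.ev τ mU := hIU ▸ C.nact_mul (C.nact_J hg0J) hg0A
  have hτ2 : τ * τ = 1 := by
    rw [hτ, ← H.J_cube _ hg0J, pow_succ, sq]; group
  have hτK : τ ∈ T.K := T.K.mul_mem (T.K.mul_mem hg0K hg0K) hg0K
  have hτne : τ ≠ 1 := fun h => hUne (C.nact_unique (h ▸ hτA) (C.nact_J (one_mem _)))
  have hno : ∀ k : G, k * τ * k⁻¹ ≠ T.t := by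
    intro k hk
    classical
    obtain ⟨S0, hS0⟩ := (IsPGroup.of_card (n := 2) (by
      rw [Nat.card_congr (subgroupOfEquivOfLe (inf_le_right : T.P ≤ T.K)).toEquiv, T.card_P]; norm_num) :
        IsPGroup 3 (T.P.subgroupOf T.K)).exists_le_sylow
    have hS0P : (S0 : Subgroup T.K).map T.K.subtype = T.P :=
      T.P_sylow (S0.isPGroup'.map T.K.subtype) (map_subtype_le _) (fun a ha =>
        ⟨⟨a, ha.2⟩, hS0 (mem_subgroupOf.2 ha), rfl⟩)
    set A : Subgroup G := H.J ⊓ centralizer ({τ} : Set G)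
    have hAK : ∀ a ∈ A, k * a * k⁻¹ ∈ T.K := fun a ha => T.mem_K.2 (by
      rw [← hk, show k * a * k⁻¹ * (k * τ * k⁻¹) = k * (a * τ) * k⁻¹ by group, mem_centralizer_singleton_iff.1 ha.2]
      group)
    let e : A →* T.K := ((MulAut.conj k).toMonoidHom.comp A.subtype).codRestrict T.K fun a => hAK a a.2
    have hA3 : IsPGroup 3 A := fun a => ⟨1, Subtype.ext (by simpa using H.J_cube _ a.2.1)⟩
    obtain ⟨S1, hS1⟩ := ((hA3.to_subgroup ⊤).map e).exists_le_sylow
    obtain ⟨h, hh⟩ := MulAction.exists_smul_eq T.K S1 S0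
    have hin : ∀ a : A, (h : G) * (k * a * k⁻¹) * (h : G)⁻¹ ∈ T.P := fun a => by
      rw [← hS0P, ← hh]
      exact ⟨h * e a * h⁻¹, ⟨e a, hS1 ⟨a, mem_top _, rfl⟩, rfl⟩, rfl⟩
    let F : A → T.P := fun a => ⟨_, hin a⟩
    have hinj : Function.Injective F := fun a b hab => by
      have h1 : (h : G) * (k * a * k⁻¹) * (h : G)⁻¹ = (h : G) * (k * b * k⁻¹) * (h : G)⁻¹ := congrArg Subtype.val hab
      exact Subtype.ext (mul_left_cancel (mul_right_cancel (mul_left_cancel (mul_right_cancel h1))))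
    have hA9 : 9 ≤ Nat.card A := by
      let f : {v // v ∈ fixU} → A := fun v => ⟨C.ev v, C.ev_J v, mem_centralizer_singleton_iff.2 (by
        have h := hτA.2 v (hfix v v.2).1
        rw [(hfix v v.2).2.1] at h
        exact (mul_inv_eq_iff_eq_mul.1 h).symm)⟩
      have := Nat.card_le_card_of_injective f fun v w e => Subtype.ext (C.ev_inj (hfix v v.2).1 (hfix w w.2).1
        (congrArg Subtype.val e :))
      rwa [Nat.card_congr (Equiv.subtypeEquivRight fun v => (List.mem_toFinset (l := fixU)).symm), Nat.card_eq_finsetCard,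
        List.toFinset_card_of_nodup hnd, hlen] at this
    have hbij : Function.Bijective F := (Nat.bijective_iff_injective_and_card F).2 ⟨hinj,
      le_antisymm (Nat.card_le_card_of_injective F hinj) (T.card_P ▸ hA9)⟩
    obtain ⟨⟨a, haJ, haC⟩, ha⟩ := hbij.2 ⟨H.z, T.z_P⟩
    obtain ⟨v, hv, rfl⟩ := C.ev_surj haJ
    have ha' : (h : G) * (k * C.ev v * k⁻¹) * (h : G)⁻¹ = H.z := congrArg Subtype.val ha
    have hfv : v ∈ fixU := List.mem_filter.2 ⟨List.mem_range.2 hv, by
      have h1 := hτA.2 v hv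
      rw [← mem_centralizer_singleton_iff.1 haC, mul_inv_cancel_right] at h1
      rw [← C.ev_inj hv (ap_lt _ _) h1]
      exact Nat.beq_refl _⟩
    have := C.fusion_sng (g := ((h : G) * k)⁻¹) (u := 4) (by norm_num) hv (by
      rw [C.ev_basis.1, ← ha']; group) h4s
    rw [(hfix v hfv).2.2] at this
    exact Bool.false_ne_true this
  obtain ⟨M, hMn, hM2, hτM⟩ := transfer_two O.Kev T.K.index (O.index_K hE) (O.index_Kev hE) τ hτ2 (by
    intro k hkτ
    obtain ⟨⟨g, hgK⟩, hgev, hge⟩ := hkτ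
    have hge' : g = k * τ * k⁻¹ := hge
    obtain ⟨m, hm⟩ := O.even_invol (g := ⟨g, hgK⟩)
      (by
        show g * g = 1
        rw [hge', show k * τ * k⁻¹ * (k * τ * k⁻¹) = k * (τ * τ) * k⁻¹ by group, hτ2]; group)
      (fun h => hτne (conj_eq_one_iff.1 (hge'.symm.trans h)))
      hgev
    exact hno (m⁻¹ * k) (by
      rw [show m⁻¹ * k * τ * (m⁻¹ * k)⁻¹ = m⁻¹ * (k * τ * k⁻¹) * m by group, ← hge',
        show g = m * T.t * m⁻¹ from hm.symm]
      group))
  refine ⟨M, hMn, hM2, fun g hg hgz hgA hgM => hτM ?_⟩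
  have h3 : ∀ {x : G}, x ^ 3 = 1 → x ∈ M := fun {x} hx => by
    have h2 := Subgroup.mul_self_mem_of_index_two hM2 x
    have h := inv_mem h2
    rwa [show (x * x)⁻¹ = x from inv_eq_of_mul_eq_one_right (by rw [← hx, pow_succ, sq])] at h
  have ht : T.t ∈ M := by
    obtain ⟨v, hv, -, hv2, -⟩ := O.exists_v1
    rw [← hv2]
    exact Subgroup.mul_self_mem_of_index_two hM2 v
  have hx : S.x ∈ M := by rw [← S.ω_t]; exact hMn.conj_mem _ ht _
  set g' := g * S.x with hg'
  have hg'A : ActB C.ev g' mU := C.nact_mul hgA S.x_act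
  have hj : τ * g' ∈ H.J := C.act_mI_mem (hUU ▸ C.nact_mul hτA hg'A)
  rw [show τ = τ * g' * g'⁻¹ by group]
  exact mul_mem (h3 (H.J_cube _ hj)) (inv_mem (mul_mem hgM hx))

end Co

end Cfsg.Agent.Spor.McLThree
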