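import Cfsg.Agent.Lib.Spor.McLThree.NTop
import Cfsg.Agent.Lib.Spor.McLThree.TTransfer
import Cfsg.Agent.Lib.Spor.Cos.McLOut.Main
import Cfsg.Agent.Lib.Spor.ONan.Fitting

/-!
With the extension the normal subgroup of index two carries the same data, so the group is the automorphism group of
the McLaughlin group.
-/

set_option autoImplicit false
set_option maxRecDepth 100000
set_option synthInstance.maxSize 4096
set_option linter.unusedSectionVars false

namespace Cfsg.Agent.Spor.McLThree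

open Subgroup Cfsg.Agent.Spor.UFourType

universe u

variable {G : Type u} [Group G] [Finite G]

theorem subgroupOf_closure_eq {P : G → Prop} (M : Subgroup G) (hP : ∀ g, P g → g ∈ M) :
    (Subgroup.closure {g | P g}).subgroupOf M = Subgroup.closure {g : M | P g} := by
  apply Subgroup.map_injective M.subtype_injective
  rw [MonoidHom.map_closure, subgroupOf_map_subtype,
    inf_of_le_left (show Subgroup.closure {g | P g} ≤ M from (closure_le _).2 hP)]
  congr 1
  ext g
  exact ⟨fun h => ⟨⟨g, hP g h⟩, h, rfl⟩, fun ⟨a, ha, e⟩ => e ▸ ha⟩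

namespace Hyp

/-- The data in a subgroup containing every element of three-power order. -/
theorem exists_restrict (H : Hyp G) (M : Subgroup G) (h3 : ∀ g : G, (∃ k : ℕ, g ^ 3 ^ k = 1) → g ∈ M) :
    Nonempty (Hyp M) := by
  have hS : H.S ≤ M := fun s hs => by
    obtain ⟨k, hk⟩ := H.S_isPGroup ⟨s, hs⟩
    exact h3 s ⟨k, by simpa using congrArg Subtype.val hk⟩
  have hQ : H.Q ≤ M := H.Q_le_S.trans hS
  have hJ : H.J ≤ M := H.J_le_S.trans hS
  have hL : H.L ≤ M := by rw [H.L_def, closure_le]; exact fun g hg => h3 g hg.2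
  have hM : H.M ≤ M := by rw [H.M_def, closure_le]; exact fun g hg => h3 g hg.2
  have hc : ∀ {A : Subgroup G}, A ≤ M → Nat.card (A.subgroupOf M) = Nat.card A := fun h =>
    Nat.card_congr (subgroupOfEquivOfLe h).toEquiv
  refine ⟨{
    z := ⟨H.z, hQ H.z_Q⟩
    Q := H.Q.subgroupOf M
    J := H.J.subgroupOf M
    S := H.S.subgroupOf M
    L := H.L.subgroupOf M
    M := H.M.subgroupOf M
    ψ := H.ψ.comp (subgroupOfEquivOfLe hL).toMonoidHom
    φ := H.φ.comp (subgroupOfEquivOfLe hM).toMonoidHom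
    z_order := by rw [← Subgroup.orderOf_coe]; exact H.z_order
    z_Q := mem_subgroupOf.2 H.z_Q
    Q_card := (hc hQ).trans H.Q_card
    Q_cube := fun a ha => Subtype.ext (H.Q_cube a (mem_subgroupOf.1 ha))
    z_cen := fun a ha => Subtype.ext (H.z_cen a (mem_subgroupOf.1 ha))
    Q_comm := fun a ha b hb => ?_
    Q_cen := fun a ha h => ?_
    cent_Q := fun g hg => mem_subgroupOf.2 (H.cent_Q g fun q hq =>
      congrArg Subtype.val (hg ⟨q, hQ hq⟩ (mem_subgroupOf.2 hq)))
    norm_Q := fun g hg q hq => mem_subgroupOf.2 (H.norm_Q g (congrArg Subtype.val hg) q (mem_subgroupOf.1 hq))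
    L_def := ?_
    ψ_surj := H.ψ_surj.comp (subgroupOfEquivOfLe hL).surjective
    ψ_ker := fun g => (H.ψ_ker _).trans mem_subgroupOf.symm
    S_card := (hc hS).trans H.S_card
    S_cz := fun s hs => Subtype.ext (H.S_cz s (mem_subgroupOf.1 hs))
    S_max := fun P hP => ?_
    J_le_S := fun a ha => mem_subgroupOf.2 (H.J_le_S (mem_subgroupOf.1 ha))
    J_card := (hc hJ).trans H.J_card
    J_cube := fun a ha => Subtype.ext (H.J_cube a (mem_subgroupOf.1 ha))
    J_comm := fun a ha b hb => Subtype.ext (H.J_comm a (mem_subgroupOf.1 ha) b (mem_subgroupOf.1 hb))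
    M_def := ?_
    φ_surj := H.φ_surj.comp (subgroupOfEquivOfLe hM).surjective
    φ_ker := fun g => (H.φ_ker _).trans mem_subgroupOf.symm }⟩
  · obtain ⟨i, hi⟩ := H.Q_comm a (mem_subgroupOf.1 ha) b (mem_subgroupOf.1 hb)
    exact ⟨i, Subtype.ext (by simpa using hi)⟩
  · obtain ⟨i, hi⟩ := H.Q_cen a (mem_subgroupOf.1 ha) fun q hq =>
      congrArg Subtype.val (h ⟨q, hQ hq⟩ (mem_subgroupOf.2 hq))
    exact ⟨i, Subtype.ext (by simpa using hi)⟩
  · conv_lhs => rw [H.L_def]
    rw [subgroupOf_closure_eq M (fun g hg => h3 g hg.2)]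
    congr 1
    ext g
    exact ⟨fun ⟨h, k, hk⟩ => ⟨Subtype.ext h, k, Subtype.ext (by simpa using hk)⟩,
      fun ⟨h, k, hk⟩ => ⟨congrArg Subtype.val h, k, by simpa using congrArg Subtype.val hk⟩⟩
  · rw [← Nat.card_congr (equivMapOfInjective P _ M.subtype_injective).toEquiv.symm]
    exact H.S_max _ (hP.map _)
  · conv_lhs => rw [H.M_def]
    rw [subgroupOf_closure_eq M (fun g hg => h3 g hg.2)]
    congr 1
    ext g
    have hN : (g : G) ∈ normalizer (H.J : Set G) ↔ g ∈ normalizer (H.J.subgroupOf M : Set M) := by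
      simp only [mem_normalizer_iff, mem_subgroupOf]
      refine ⟨fun h a => h a, fun h a => ⟨fun ha => (h ⟨a, hJ ha⟩).1 ha, fun ha => ?_⟩⟩
      have hm := mul_mem (mul_mem (inv_mem g.2) (hJ ha)) g.2
      rw [show (g : G)⁻¹ * ((g : G) * a * (g : G)⁻¹) * g = a by group] at hm
      exact (h ⟨a, hm⟩).2 ha
    exact ⟨fun ⟨h, k, hk⟩ => ⟨hN.1 h, k, Subtype.ext (by simpa using hk)⟩,
      fun ⟨h, k, hk⟩ => ⟨hN.2 h, k, by simpa using congrArg Subtype.val hk⟩⟩

end Hyp

theorem three_mem_of_index_two {M : Subgroup G} (h : M.index = 2) : ∀ (k : ℕ) (g : G), g ^ 3 ^ k = 1 → g ∈ M := by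
  intro k
  induction k with
  | zero => intro g hg; rw [pow_zero, pow_one] at hg; rw [hg]; exact one_mem _
  | succ k ih =>
    intro g hg
    have h3 : g ^ 3 ∈ M := ih _ (by rw [← pow_mul, ← pow_succ', hg])
    have h2 := mul_self_mem_of_index_two h g
    rw [show g = g ^ 3 * (g * g)⁻¹ by group]
    exact mul_mem h3 (inv_mem h2)

/-- Some subgroup with all elements of three-power order is the McLaughlin group. -/
theorem exists_mcl : ∀ (n : ℕ) (G : Type u) [Group G] [Finite G], Nat.card G ≤ n → Hyp G →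
    ∃ N : Subgroup G, (∀ g : G, (∃ k : ℕ, g ^ 3 ^ k = 1) → g ∈ N) ∧ Cfsg.Spor.IsoMcL ↥N := by
  intro n
  induction n with
  | zero => intro G _ _ h; exact absurd (Nat.card_pos (α := G)) (by omega)
  | succ n ih =>
    intro G _ _ hn H
    obtain ⟨C⟩ := H.exists_sec
    by_cases hE : C.Ext
    · obtain ⟨T⟩ := C.exists_Tt
      obtain ⟨S⟩ := T.exists_swap
      obtain ⟨O⟩ := T.exists_co S
      obtain ⟨M, -, hM2, -⟩ := O.exists_index_two hE
      have h3 : ∀ g : G, (∃ k : ℕ, g ^ 3 ^ k = 1) → g ∈ M := fun g ⟨k, hk⟩ => three_mem_of_index_two hM2 k g hk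
      obtain ⟨H'⟩ := H.exists_restrict M h3
      have hlt : Nat.card M ≤ n := by
        have := M.card_mul_index
        rw [hM2] at this
        have := Nat.card_pos (α := M)
        omega
      obtain ⟨N, hN, ⟨e⟩⟩ := ih M hlt H'
      refine ⟨N.map M.subtype, fun g hg => ?_, ⟨(equivMapOfInjective N _ M.subtype_injective).symm.trans e⟩⟩
      obtain ⟨k, hk⟩ := hg
      exact ⟨⟨g, h3 g ⟨k, hk⟩⟩, hN _ ⟨k, Subtype.ext (by simpa using hk)⟩, rfl⟩
    · obtain ⟨e⟩ := H.iso_of_not_ext hE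
      exact ⟨⊤, fun g _ => mem_top g, ⟨topEquiv.trans e⟩⟩

theorem mcl_simple {K : Type*} [Group K] (h : Cfsg.Spor.IsoMcL K) : IsSimpleGroup K ∧ ¬ IsMulCommutative K := by
  obtain ⟨e⟩ := h
  haveI := Cos.McLOut.isSimple
  haveI : IsSimpleGroup K := (e.trans Cos.McLOut.equivMcL).isSimpleGroup
  refine ⟨inferInstance, fun hc => ?_⟩
  haveI := hc
  have hcomm : ∀ a b : Cos.McLOut.H, a * b = b * a := fun a b => by
    obtain ⟨x, rfl⟩ := (e.trans Cos.McLOut.equivMcL).surjective a
    obtain ⟨y, rfl⟩ := (e.trans Cos.McLOut.equivMcL).surjective b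
    rw [← map_mul, ← map_mul, hc.is_comm.comm]
  letI : CommGroup Cos.McLOut.H := { (inferInstance : Group Cos.McLOut.H) with mul_comm := hcomm }
  have hp := IsSimpleGroup.prime_card (α := Cos.McLOut.H)
  rw [Cos.McLOut.card_H] at hp
  norm_num at hp

/-- A normal McLaughlin subgroup with trivial centralizer. -/
theorem Hyp.exists_normal (H : Hyp G) : ∃ N : Subgroup G, N.Normal ∧ Cfsg.Spor.IsoMcL ↥N ∧
    Subgroup.centralizer (N : Set G) = ⊥ := by
  obtain ⟨N, hN, hiso⟩ := exists_mcl (Nat.card G) G le_rfl H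
  obtain ⟨hs, hna⟩ := mcl_simple hiso
  set X := Subgroup.closure {g : G | ∃ k : ℕ, g ^ 3 ^ k = 1}
  have hXn : X.Normal := by
    refine ⟨fun a ha g => ?_⟩
    induction ha using Subgroup.closure_induction with
    | mem x hx =>
      obtain ⟨k, hk⟩ := hx
      exact subset_closure ⟨k, by rw [conj_pow, hk]; group⟩
    | one => rw [mul_one, mul_inv_cancel]; exact one_mem _
    | mul x y _ _ hx hy => rw [show g * (x * y) * g⁻¹ = g * x * g⁻¹ * (g * y * g⁻¹) by group]; exact mul_mem hx hy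
    | inv x _ hx => rw [show g * x⁻¹ * g⁻¹ = (g * x * g⁻¹)⁻¹ by group]; exact inv_mem hx
  have hle : X ≤ N := (closure_le _).2 fun g hg => hN g hg
  have hXN : X = N := by
    haveI := hs
    refine le_antisymm hle ?_
    rcases (hXn.subgroupOf N).eq_bot_or_eq_top with e | e
    · exfalso
      rw [subgroupOf_eq_bot, disjoint_iff, inf_of_le_left hle] at e
      have : H.z ∈ X := subset_closure ⟨1, by rw [pow_one]; exact H.z_cube⟩
      rw [e, mem_bot] at this
      exact H.z_ne this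
    · exact subgroupOf_eq_top.1 e
  refine ⟨N, hXN ▸ hXn, hiso, (eq_bot_iff_forall _).2 fun g hg => ?_⟩
  have hJN : H.J ≤ N := fun a ha => hN a ⟨1, by rw [pow_one]; exact H.J_cube a ha⟩
  have hgJ : g ∈ H.J := H.J_self_cent fun a ha => (mem_centralizer_iff.1 hg a (hJN ha)).symm
  haveI := hs
  rcases (inferInstance : (center ↥N).Normal).eq_bot_or_eq_top with e | e
  · have hc : (⟨g, hJN hgJ⟩ : N) ∈ center ↥N :=
      mem_center_iff.2 fun a => Subtype.ext (mem_centralizer_iff.1 hg a a.2)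
    rw [e, mem_bot] at hc
    exact congrArg Subtype.val hc
  · exact absurd ⟨⟨fun a b => (mem_center_iff.1 (e.symm ▸ mem_top b : b ∈ center ↥N) a)⟩⟩ hna

theorem card_mulAut_mcl : Nat.card (MulAut ↥Cfsg.Spor.McL) = 2 * Nat.card ↥Cfsg.Spor.McL := by
  have hout : Nat.card (Cfsg.Out ↥Cfsg.Spor.McL) = 2 := by
    rw [Cos.card_out_congr Cos.McLOut.equivMcL]
    exact Cos.McLOut.card_out
  obtain ⟨hs, hna⟩ := mcl_simple (K := ↥Cfsg.Spor.McL) ⟨MulEquiv.refl _⟩
  haveI := hs
  have hinj : Function.Injective (MulAut.conj : ↥Cfsg.Spor.McL →* MulAut ↥Cfsg.Spor.McL) := by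
    rw [← MonoidHom.ker_eq_bot_iff]
    refine ((MulAut.conj : ↥Cfsg.Spor.McL →* _).normal_ker.eq_bot_or_eq_top).resolve_right fun ht => hna ⟨⟨fun a b => ?_⟩⟩
    have hab := DFunLike.congr_fun (MonoidHom.mem_ker.1 (ht.symm ▸ mem_top a)) b
    rw [MulAut.conj_apply, MulAut.one_apply] at hab
    exact mul_inv_eq_iff_eq_mul.1 hab
  rw [Subgroup.card_eq_card_quotient_mul_card_subgroup (Cfsg.Inn ↥Cfsg.Spor.McL),
    ← Nat.card_congr (MonoidHom.ofInjective hinj).toEquiv]
  rw [← hout]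

/-- The group is the McLaughlin group or its automorphism group. -/
theorem Hyp.mcl_or_aut (H : Hyp G) :
    Nonempty (G ≃* Cfsg.Spor.McL) ∨ Nonempty (G ≃* MulAut Cfsg.Spor.McL) := by
  obtain ⟨N, hN, ⟨e⟩, hC⟩ := H.exists_normal
  haveI : Finite ↥Cfsg.Spor.McL := Finite.of_equiv _ e.toEquiv
  haveI := hN
  let f : G →* MulAut ↥Cfsg.Spor.McL := (MulAut.congr e).toMonoidHom.comp MulAut.conjNormal
  have hf : Function.Injective f := by
    refine (MulAut.congr e).injective.comp ((injective_iff_map_eq_one _).2 fun g hg => ?_)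
    have : g ∈ Subgroup.centralizer (N : Set G) := mem_centralizer_iff.2 fun a ha => by
      have h := congrArg Subtype.val (DFunLike.congr_fun hg ⟨a, ha⟩)
      rw [MulAut.conjNormal_apply, MulAut.one_apply] at h
      exact (mul_inv_eq_iff_eq_mul.1 h).symm
    rwa [hC, mem_bot] at this
  haveI : Finite (MulAut ↥Cfsg.Spor.McL) := Finite.of_injective (fun φ => (φ : ↥Cfsg.Spor.McL → ↥Cfsg.Spor.McL))
    fun φ ψ h => MulEquiv.ext fun x => congrFun h x
  by_cases htop : N = ⊤
  · subst htop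
    exact Or.inl ⟨topEquiv.symm.trans e⟩
  · right
    have hle := Nat.card_le_card_of_injective f hf
    have hidx := N.card_mul_index
    rw [card_mulAut_mcl, ← Nat.card_congr e.toEquiv] at hle
    have h2 : 2 ≤ N.index := N.one_lt_index_of_ne_top htop
    have hp := Nat.card_pos (α := N)
    refine ⟨MulEquiv.ofBijective f ((Nat.bijective_iff_injective_and_card f).2 ⟨hf, ?_⟩)⟩
    rw [card_mulAut_mcl, ← Nat.card_congr e.toEquiv]
    nlinarith

/-- The generalised Fitting subgroup is the McLaughlin group. -/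
theorem Hyp.gfit_mcl (H : Hyp G) : Cfsg.Spor.IsoMcL ↥(Cfsg.generalizedFittingSubgroup G) := by
  obtain ⟨N, hN, hiso, hC⟩ := H.exists_normal
  obtain ⟨hs, hna⟩ := mcl_simple hiso
  haveI := hN
  rw [ONan.gfitting_eq_of_simple N hs hna hC]
  exact hiso

end Cfsg.Agent.Spor.McLThree
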