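import Mathlib

/-!
The three-local data of the McLaughlin group: the element `z`, the extraspecial group `Q` of order `3⁵` in its
centralizer with `SL₂(5)` on top, and the elementary abelian group `J` of order `81` with `A₆` on top.
-/

set_option autoImplicit false

namespace Cfsg.Agent.Spor.McLThree

universe u

/-- The group `SL₂(5)`. -/
abbrev SL5 := Matrix.SpecialLinearGroup (Fin 2) (ZMod 5)

/-- The data. -/
structure Hyp (G : Type u) [Group G] : Type u where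
  z : G
  Q : Subgroup G
  J : Subgroup G
  S : Subgroup G
  L : Subgroup G
  M : Subgroup G
  ψ : L →* SL5
  φ : M →* alternatingGroup (Fin 6)
  z_order : orderOf z = 3
  z_Q : z ∈ Q
  Q_card : Nat.card Q = 243
  Q_cube : ∀ a ∈ Q, a ^ 3 = 1
  z_cen : ∀ a ∈ Q, z * a = a * z
  Q_comm : ∀ a ∈ Q, ∀ b ∈ Q, a * b * a⁻¹ * b⁻¹ ∈ Subgroup.zpowers z
  Q_cen : ∀ a ∈ Q, (∀ b ∈ Q, a * b = b * a) → a ∈ Subgroup.zpowers z
  cent_Q : ∀ g : G, (∀ q ∈ Q, g * q = q * g) → g ∈ Q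
  norm_Q : ∀ g : G, g * z = z * g → ∀ q ∈ Q, g * q * g⁻¹ ∈ Q
  L_def : L = Subgroup.closure {g : G | g * z = z * g ∧ ∃ k : ℕ, g ^ 3 ^ k = 1}
  ψ_surj : Function.Surjective ψ
  ψ_ker : ∀ g : L, ψ g = 1 ↔ (g : G) ∈ Q
  S_card : Nat.card S = 729
  S_cz : ∀ s ∈ S, s * z = z * s
  S_max : ∀ H : Subgroup G, IsPGroup 3 H → Nat.card H ≤ 729
  J_le_S : J ≤ S
  J_card : Nat.card J = 81
  J_cube : ∀ a ∈ J, a ^ 3 = 1
  J_comm : ∀ a ∈ J, ∀ b ∈ J, a * b = b * a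
  M_def : M = Subgroup.closure {g : G | g ∈ Subgroup.normalizer (J : Set G) ∧ ∃ k : ℕ, g ^ 3 ^ k = 1}
  φ_surj : Function.Surjective φ
  φ_ker : ∀ g : M, φ g = 1 ↔ (g : G) ∈ J

end Cfsg.Agent.Spor.McLThree
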