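import Cfsg.Agent.Lib.Spor.McLThree.Hyp

/-! Finite facts on `SL₂(5)`. -/

set_option autoImplicit false
set_option maxRecDepth 100000
set_option synthInstance.maxSize 4096

namespace Cfsg.Agent.Spor.McLThree

open Matrix

/-- All elements, listed. -/
theorem sl5_card : Fintype.card SL5 = 120 := by decide +kernel

/-- An element of order three and some conjugate have a product of order five or ten. -/
theorem sl5_pair : ∀ x : SL5, x * x * x = 1 → x ≠ 1 →
    ∃ g : SL5, (x * (g * x * g⁻¹)) ^ 10 = 1 ∧ (x * (g * x * g⁻¹)) * (x * (g * x * g⁻¹)) ≠ 1 := by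
  decide +kernel

/-- One involution, which is central. -/
theorem sl5_invol : ∀ x : SL5, x * x = 1 → x ≠ 1 → x = -1 := by decide +kernel

theorem sl5_neg : (-1 : SL5) * -1 = 1 ∧ (-1 : SL5) ≠ 1 ∧ ∀ x : SL5, x * -1 = -1 * x := by decide +kernel

/-- An element of order three is inverted by a square root of `-1`. -/
theorem sl5_inverter : ∀ x : SL5, x * x * x = 1 → x ≠ 1 → ∃ g : SL5, g * g = -1 ∧ g * x = x * x * g := by
  decide +kernel

/-- The centralizer of an element of order three. -/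
theorem sl5_cent : ∀ x : SL5, x * x * x = 1 → x ≠ 1 → ∀ y : SL5, y * x = x * y →
    (y = 1 ∨ y = x ∨ y = x * x) ∨ (-1 * y = 1 ∨ -1 * y = x ∨ -1 * y = x * x) := by
  decide +kernel

end Cfsg.Agent.Spor.McLThree

namespace Cfsg.Agent.Spor.McLThree

/-- Two elements of order three in different subgroups give the central involution. -/
theorem sl5_minus : ∀ x : SL5, x * x * x = 1 → x ≠ 1 → ∀ y : SL5, y * y * y = 1 → y ≠ x → y ≠ x * x → y ≠ 1 →
    ((x * y) ^ 2 = -1 ∨ (x * y) ^ 3 = -1 ∨ (x * y) ^ 5 = -1) ∨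
      ((x * (y * y)) ^ 2 = -1 ∨ (x * (y * y)) ^ 3 = -1 ∨ (x * (y * y)) ^ 5 = -1) := by
  decide +kernel

end Cfsg.Agent.Spor.McLThree
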