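import Cfsg.Agent.Lib.Spor.McLThree.MModel

/-!
The permutations of six points used as coordinates on the quotient by the elementary group.
-/

set_option autoImplicit false
set_option maxRecDepth 100000
set_option synthInstance.maxSize 4096

namespace Cfsg.Agent.Spor.McLThree

open Equiv

/-- Six points. -/
abbrev A6 := alternatingGroup (Fin 6)

/-- `(012)`. -/
def pa : A6 := ⟨swap 0 1 * swap 1 2, Perm.mem_alternatingGroup.2 (by decide +kernel)⟩

/-- `(345)`. -/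
def pb : A6 := ⟨swap 3 4 * swap 4 5, Perm.mem_alternatingGroup.2 (by decide +kernel)⟩

/-- `(03)(12)`. -/
def pw : A6 := ⟨swap 0 3 * swap 1 2, Perm.mem_alternatingGroup.2 (by decide +kernel)⟩

/-- `(03)(1425)`. -/
def ph : A6 := ⟨swap 0 3 * (swap 1 4 * swap 4 2 * swap 2 5),
  Perm.mem_alternatingGroup.2 (by decide +kernel)⟩

/-- `(12)(45)`. -/
def pt : A6 := ph * ph

/-- The generators by number. -/
def pg (k : ℕ) : A6 := bif Nat.beq k 0 then pa else bif Nat.beq k 1 then pb else pw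

/-- The value of a word. -/
def pWord (l : List ℕ) : A6 := (l.map pg).prod

theorem a6_rels : pa * pa * pa = 1 ∧ pb * pb * pb = 1 ∧ pa * pb = pb * pa ∧ ph * pa * ph⁻¹ = pb ∧
    pt * pa * pt = pa⁻¹ ∧ pt * pb * pt = pb⁻¹ ∧ pw * pw = 1 ∧ pw * ph * (pw * ph) = 1 ∧ pt * pt = 1 ∧
    pt * pw = pw * pt ∧ pa * pw * (pa * pw) * (pa * pw) = 1 ∧
    pb * pw * (pb * pw) * (pb * pw) * (pb * pw) = 1 ∧ pWord hWord = ph ∧ ph * pb * ph⁻¹ = pa⁻¹ := by
  decide +kernel

/-- Words with different values. -/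
def genWords : List (List ℕ) := [
  [], [0], [1], [2], [0, 0], [0, 1], [0, 2], [1, 1], [1, 2], [2, 0], [2, 1], [0, 0, 1], [0, 0, 2], [0, 1, 1],
  [0, 1, 2], [0, 2, 0], [0, 2, 1], [1, 1, 2], [1, 2, 0], [1, 2, 1], [2, 0, 0], [2, 0, 1], [2, 0, 2], [2, 1, 1],
  [2, 1, 2], [0, 0, 1, 1], [0, 0, 1, 2], [0, 0, 2, 0], [0, 0, 2, 1], [0, 1, 1, 2], [0, 1, 2, 0], [0, 1, 2, 1],
  [0, 2, 0, 0], [0, 2, 0, 1], [0, 2, 1, 1], [0, 2, 1, 2], [1, 1, 2, 0], [1, 1, 2, 1], [1, 2, 0, 0],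
  [1, 2, 0, 1], [1, 2, 0, 2], [1, 2, 1, 1], [1, 2, 1, 2], [2, 0, 0, 1], [2, 0, 1, 1], [2, 0, 1, 2],
  [2, 0, 2, 1], [2, 1, 1, 2], [2, 1, 2, 0], [2, 1, 2, 1], [0, 0, 1, 1, 2], [0, 0, 1, 2, 0], [0, 0, 1, 2, 1],
  [0, 0, 2, 0, 1], [0, 0, 2, 1, 1], [0, 0, 2, 1, 2], [0, 1, 1, 2, 0], [0, 1, 1, 2, 1], [0, 1, 2, 0, 0],
  [0, 1, 2, 0, 1], [0, 1, 2, 1, 1], [0, 1, 2, 1, 2], [0, 2, 0, 0, 1], [0, 2, 0, 1, 1], [0, 2, 0, 1, 2],
  [0, 2, 1, 1, 2], [0, 2, 1, 2, 0], [0, 2, 1, 2, 1], [1, 1, 2, 0, 0], [1, 1, 2, 0, 1], [1, 1, 2, 0, 2],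
  [1, 1, 2, 1, 1], [1, 1, 2, 1, 2]]

theorem genWords_nodup : (genWords.map fun l => ((pWord l : A6) : Perm (Fin 6))).Nodup ∧ genWords.length = 73 := by
  decide +kernel

theorem pWord_mem {K : Subgroup A6} (ha : pa ∈ K) (hb : pb ∈ K) (hw : pw ∈ K) (l : List ℕ) : pWord l ∈ K := by
  refine K.list_prod_mem fun x hx => ?_
  obtain ⟨k, -, rfl⟩ := List.mem_map.1 hx
  unfold pg
  cases Nat.beq k 0 <;> cases Nat.beq k 1 <;> assumption

theorem card_A6 : Nat.card A6 = 360 := by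
  rw [Nat.card_eq_fintype_card]
  decide +kernel

/-- The three generators generate. -/
theorem gen_top {K : Subgroup A6} (ha : pa ∈ K) (hb : pb ∈ K) (hw : pw ∈ K) : K = ⊤ := by
  classical
  have h73 : 73 ≤ Nat.card K := by
    obtain ⟨hnd, hlen⟩ := genWords_nodup
    have hnd' : (genWords.map pWord).Nodup := by
      have : genWords.map (fun l => ((pWord l : A6) : Perm (Fin 6))) =
          (genWords.map pWord).map Subtype.val := by rw [List.map_map]; rfl
      rw [this] at hnd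
      exact hnd.of_map _
    have hsub : (genWords.map pWord).toFinset ⊆ (Finset.univ.filter fun x => x ∈ K) := fun x hx => by
      obtain ⟨l, -, rfl⟩ := List.mem_map.1 (List.mem_toFinset.1 hx)
      simpa using pWord_mem ha hb hw l
    have := Finset.card_le_card hsub
    rw [List.toFinset_card_of_nodup hnd', List.length_map, hlen] at this
    rwa [Nat.card_eq_fintype_card, Fintype.card_subtype]
  have hidx : K.index ≤ 4 := by
    have := K.card_mul_index
    rw [card_A6] at this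
    nlinarith
  haveI : IsSimpleGroup A6 := alternatingGroup.isSimpleGroup (by simp)
  rcases (Subgroup.normalCore_normal K).eq_bot_or_eq_top with h | h
  · exfalso
    have hinj : Function.Injective (MulAction.toPermHom A6 (A6 ⧸ K)) := by
      rw [← MonoidHom.ker_eq_bot_iff, ← Subgroup.normalCore_eq_ker, h]
    have := Nat.card_le_card_of_injective _ hinj
    rw [card_A6, Nat.card_perm] at this
    have h4 : Nat.card (A6 ⧸ K) ≤ 4 := (Subgroup.index_eq_card K) ▸ hidx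
    have := this.trans (Nat.factorial_le h4)
    norm_num [Nat.factorial] at this
  · exact top_le_iff.1 (h ▸ Subgroup.normalCore_le K)

end Cfsg.Agent.Spor.McLThree
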