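import Cfsg.Agent.Lib.Spor.McLThree.MModel

/-!
Coordinates on an elementary abelian group from four commuting elements of order three, and the matrices induced
by conjugation.
-/

set_option autoImplicit false
set_option maxRecDepth 100000
set_option linter.unusedSectionVars false

namespace Cfsg.Agent.Spor.McLThree

open Cfsg.Agent.Spor.UFourType

variable {G : Type*} [Group G]

/-- The element with code `v`, for the basis `z, f, p, q` coded `4, 7, 18, 54`. -/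
def evB (z f p q : G) (v : ℕ) : G :=
  z ^ (2 * v0 v + 2 * v1 v) * f ^ (2 * v0 v + v1 v) * p ^ (2 * v2 v) * q ^ (2 * v3 v)

/-- Four commuting elements of order dividing three. -/
structure Bas (z f p q : G) : Prop where
  z3 : z ^ 3 = 1
  f3 : f ^ 3 = 1
  p3 : p ^ 3 = 1
  q3 : q ^ 3 = 1
  zf : Commute z f
  zp : Commute z p
  zq : Commute z q
  fp : Commute f p
  fq : Commute f q
  pq : Commute p q

/-- Conjugation by an element induces a matrix. -/
def ActB (e : ℕ → G) (g : G) (A : ℕ) : Prop := A < 43046721 ∧ ∀ v < 81, g * e v * g⁻¹ = e (ap A v)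

theorem pow_two_mul_three {x : G} (h : x ^ 3 = 1) {m n : ℕ} (hmn : m % 3 = n % 3) : x ^ m = x ^ n := by
  rw [pow_eq_pow_mod m h, pow_eq_pow_mod n h, hmn]

theorem col_split : ∀ v < 81, v = vA (vA (vA (vS (v0 v) 1) (vS (v1 v) 3)) (vS (v2 v) 9)) (vS (v3 v) 27) := by
  decide +kernel

namespace Bas

variable {z f p q : G} (B : Bas z f p q)
include B

theorem ev_add (u v : ℕ) : evB z f p q (vA u v) = evB z f p q u * evB z f p q v := by
  rw [vA_eq]
  obtain ⟨h0, h1, h2, h3⟩ := vC_parts (v0 u + v0 v) (v1 u + v1 v) (v2 u + v2 v) (v3 u + v3 v)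
  unfold evB
  rw [h0, h1, h2, h3,
    pow_two_mul_three B.z3 (show (2 * ((v0 u + v0 v) % 3) + 2 * ((v1 u + v1 v) % 3)) % 3 =
      ((2 * v0 u + 2 * v1 u) + (2 * v0 v + 2 * v1 v)) % 3 by omega),
    pow_two_mul_three B.f3 (show (2 * ((v0 u + v0 v) % 3) + (v1 u + v1 v) % 3) % 3 =
      ((2 * v0 u + v1 u) + (2 * v0 v + v1 v)) % 3 by omega),
    pow_two_mul_three B.p3 (show (2 * ((v2 u + v2 v) % 3)) % 3 = (2 * v2 u + 2 * v2 v) % 3 by omega),
    pow_two_mul_three B.q3 (show (2 * ((v3 u + v3 v) % 3)) % 3 = (2 * v3 u + 2 * v3 v) % 3 by omega)]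
  set a := 2 * v0 u + 2 * v1 u
  set a' := 2 * v0 v + 2 * v1 v
  set b := 2 * v0 u + v1 u
  set b' := 2 * v0 v + v1 v
  set c := 2 * v2 u
  set c' := 2 * v2 v
  set d := 2 * v3 u
  set d' := 2 * v3 v
  rw [pow_add z a a', pow_add f b b', pow_add p c c', pow_add q d d']
  have e1 : Commute (z ^ a') (f ^ b * p ^ c * q ^ d) :=
    ((B.zf.pow_pow _ _).mul_right (B.zp.pow_pow _ _)).mul_right (B.zq.pow_pow _ _)
  have e2 : Commute (f ^ b') (p ^ c * q ^ d) := (B.fp.pow_pow _ _).mul_right (B.fq.pow_pow _ _)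
  have e3 : Commute (p ^ c') (q ^ d) := B.pq.pow_pow _ _
  calc z ^ a * z ^ a' * (f ^ b * f ^ b') * (p ^ c * p ^ c') * (q ^ d * q ^ d')
      = z ^ a * (z ^ a' * (f ^ b * (f ^ b' * (p ^ c * (p ^ c' * q ^ d))))) * q ^ d' := by simp only [mul_assoc]
    _ = z ^ a * (z ^ a' * (f ^ b * ((f ^ b' * (p ^ c * q ^ d)) * p ^ c'))) * q ^ d' := by
        rw [e3.eq]; simp only [mul_assoc]
    _ = z ^ a * ((z ^ a' * (f ^ b * p ^ c * q ^ d)) * (f ^ b' * p ^ c')) * q ^ d' := by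
        rw [e2.eq]; simp only [mul_assoc]
    _ = _ := by rw [e1.eq]; simp only [mul_assoc]

theorem ev_zero : evB z f p q 0 = 1 := by
  simp [evB, v0, v1, v2, v3]

theorem ev_smul (k v : ℕ) : evB z f p q (vS k v) = evB z f p q v ^ k := by
  induction k with
  | zero => rw [pow_zero, vS_eq]; simp only [zero_mul]; exact B.ev_zero
  | succ k ih =>
    rw [pow_succ, ← ih, ← B.ev_add]
    congr 1
    rw [vS_eq, vA_eq, vS_eq]
    obtain ⟨h0, h1, h2, h3⟩ := vC_parts (k * v0 v) (k * v1 v) (k * v2 v) (k * v3 v)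
    rw [h0, h1, h2, h3]
    simp only [Nat.add_mul, one_mul, vC]
    omega

theorem ev_basis : evB z f p q 4 = z ∧ evB z f p q 7 = f ∧ evB z f p q 18 = p ∧ evB z f p q 54 = q := by
  refine ⟨?_, ?_, ?_, ?_⟩ <;> simp only [evB, v0, v1, v2, v3] <;> norm_num
  · rw [show (4 : ℕ) = 3 + 1 from rfl, pow_add, B.z3, B.f3]; simp
  · rw [show (6 : ℕ) = 3 * 2 from rfl, show (4 : ℕ) = 3 + 1 from rfl, pow_mul, pow_add, B.z3, B.f3]; simp
  · rw [show (4 : ℕ) = 3 + 1 from rfl, pow_add, B.p3]; simp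
  · rw [show (4 : ℕ) = 3 + 1 from rfl, pow_add, B.q3]; simp

theorem ev_three (v : ℕ) : evB z f p q v ^ 3 = 1 := by
  rw [← B.ev_smul, vS_eq, show vC (3 * v0 v) (3 * v1 v) (3 * v2 v) (3 * v3 v) = 0 by simp only [vC]; omega, B.ev_zero]

theorem ev_cols {v : ℕ} (hv : v < 81) : evB z f p q v =
    evB z f p q 1 ^ v0 v * evB z f p q 3 ^ v1 v * evB z f p q 9 ^ v2 v * evB z f p q 27 ^ v3 v := by
  rw [← B.ev_smul, ← B.ev_smul, ← B.ev_smul, ← B.ev_smul, ← B.ev_add, ← B.ev_add, ← B.ev_add, ← col_split v hv]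

/-- A matrix from the images of the columns. -/
theorem act_of_cols {g : G} {A : ℕ} (hA : A < 43046721) (h : ∀ k < 4, g * evB z f p q (3 ^ k) * g⁻¹ = evB z f p q (mC A k)) :
    ActB (evB z f p q) g A := by
  refine ⟨hA, fun v hv => ?_⟩
  have h0 := h 0 (by norm_num)
  have h1 := h 1 (by norm_num)
  have h2 := h 2 (by norm_num)
  have h3 := h 3 (by norm_num)
  norm_num at h0 h1 h2 h3
  rw [ap_eq, B.ev_add, B.ev_add, B.ev_add, B.ev_smul, B.ev_smul, B.ev_smul, B.ev_smul, ← h0, ← h1, ← h2, ← h3,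
    conj_pow, conj_pow, conj_pow, conj_pow]
  conv_lhs => rw [B.ev_cols hv]
  group

/-- A matrix from the images of the basis. -/
theorem act_of_basis {g : G} {iz jf i1 i2 : ℕ} (hz : g * z * g⁻¹ = evB z f p q iz)
    (hf : g * f * g⁻¹ = evB z f p q jf) (h1 : g * p * g⁻¹ = evB z f p q i1) (h2 : g * q * g⁻¹ = evB z f p q i2) :
    ActB (evB z f p q) g (mB iz jf i1 i2) := by
  obtain ⟨k0, k1, k2, k3⟩ := mK_cols (vA_lt (vS 2 iz) (vS 2 jf)) (vA_lt (vS 2 iz) jf) (vS_lt 2 i1) (vS_lt 2 i2)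
  obtain ⟨b4, b7, b18, b54⟩ := B.ev_basis
  have key : evB z f p q 1 = z ^ 2 * f ^ 2 ∧ evB z f p q 3 = z ^ 2 * f ∧ evB z f p q 9 = p ^ 2 ∧
      evB z f p q 27 = q ^ 2 := by
    refine ⟨?_, ?_, ?_, ?_⟩ <;> simp [evB, v0, v1, v2, v3]
  refine B.act_of_cols (mK_lt (vA_lt _ _) (vA_lt _ _) (vS_lt _ _) (vS_lt _ _)) fun k hk => ?_
  unfold mB
  interval_cases k <;> norm_num
  · rw [k0, key.1, B.ev_add, B.ev_smul, B.ev_smul, ← hz, ← hf, conj_pow, conj_pow]; group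
  · rw [k1, key.2.1, B.ev_add, B.ev_smul, ← hz, ← hf, conj_pow]; group
  · rw [k2, key.2.2.1, B.ev_smul, ← h1, conj_pow]
  · rw [k3, key.2.2.2, B.ev_smul, ← h2, conj_pow]

theorem act_mul {g h : G} {A C : ℕ} (hg : ActB (evB z f p q) g A) (hh : ActB (evB z f p q) h C) :
    ActB (evB z f p q) (g * h) (mM A C) := by
  refine B.act_of_cols (mM_lt A C) fun k hk => ?_
  have h3 : 3 ^ k < 81 := by interval_cases k <;> norm_num
  have hb : ap C (3 ^ k) = mC C k := by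
    have hc := fun i => (mC_lt C i)
    have hs : ∀ x, x < 81 → vS 1 x = x ∧ vS 0 x = 0 ∧ vA x 0 = x ∧ vA 0 x = x := fun x hx => by
      simp only [vS_eq, vA_eq, vC, v0, v1, v2, v3]; omega
    have hz : vA 0 0 = 0 := (hs 0 (by norm_num)).2.2.1
    interval_cases k <;> norm_num <;> rw [ap_eq] <;> simp only [v0, v1, v2, v3] <;> norm_num <;>
      simp only [(hs _ (hc 0)).1, (hs _ (hc 0)).2.1, (hs _ (hc 0)).2.2.1, (hs _ (hc 1)).1, (hs _ (hc 1)).2.1,
        (hs _ (hc 1)).2.2.1, (hs _ (hc 1)).2.2.2, (hs _ (hc 2)).1, (hs _ (hc 2)).2.1, (hs _ (hc 2)).2.2.1,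
        (hs _ (hc 2)).2.2.2, (hs _ (hc 3)).1, (hs _ (hc 3)).2.1, (hs _ (hc 3)).2.2.2, hz]
  rw [mM_cols A C k hk, ← hg.2 _ (mC_lt C k), ← hb, ← hh.2 _ h3]
  group

theorem act_one : ActB (evB z f p q) 1 mI := by
  refine B.act_of_cols (mK_lt (by norm_num) (by norm_num) (by norm_num) (by norm_num)) fun k hk => ?_
  obtain ⟨k0, k1, k2, k3⟩ := mK_cols (show 1 < 81 by norm_num) (show 3 < 81 by norm_num) (show 9 < 81 by norm_num)
    (show 27 < 81 by norm_num)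
  unfold mI
  interval_cases k <;> simp [k0, k1, k2, k3]

theorem act_unique {g : G} {A C : ℕ} (hinj : ∀ u < 81, ∀ v < 81, evB z f p q u = evB z f p q v → u = v)
    (hA : ActB (evB z f p q) g A) (hC : ActB (evB z f p q) g C) : A = C := by
  have key : ∀ v < 81, ap A v = ap C v := fun v hv =>
    hinj _ (ap_lt _ _) _ (ap_lt _ _) ((hA.2 v hv).symm.trans (hC.2 v hv))
  have hI : ∀ k < 4, ∀ D : ℕ, ap D (3 ^ k) = mC D k := by
    intro k hk D
    have hc := fun i => (mC_lt D i)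
    have hs : ∀ x, x < 81 → vS 1 x = x ∧ vS 0 x = 0 ∧ vA x 0 = x ∧ vA 0 x = x := fun x hx => by
      simp only [vS_eq, vA_eq, vC, v0, v1, v2, v3]; omega
    have hz : vA 0 0 = 0 := (hs 0 (by norm_num)).2.2.1
    interval_cases k <;> norm_num <;> rw [ap_eq] <;> simp only [v0, v1, v2, v3] <;> norm_num <;>
      simp only [(hs _ (hc 0)).1, (hs _ (hc 0)).2.1, (hs _ (hc 0)).2.2.1, (hs _ (hc 1)).1, (hs _ (hc 1)).2.1,
        (hs _ (hc 1)).2.2.1, (hs _ (hc 1)).2.2.2, (hs _ (hc 2)).1, (hs _ (hc 2)).2.1, (hs _ (hc 2)).2.2.1,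
        (hs _ (hc 2)).2.2.2, (hs _ (hc 3)).1, (hs _ (hc 3)).2.1, (hs _ (hc 3)).2.2.2, hz]
  have h3 : ∀ k < 4, mC A k = mC C k := fun k hk => by
    rw [← hI k hk, ← hI k hk, key _ (by interval_cases k <;> norm_num)]
  rw [← mK_self hA.1, ← mK_self hC.1, h3 0 (by norm_num), h3 1 (by norm_num), h3 2 (by norm_num), h3 3 (by norm_num)]

end Bas

end Cfsg.Agent.Spor.McLThree
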