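import Cfsg.Agent.Lib.Spor.McLThree.Section
import Cfsg.Agent.Lib.Spor.McLThree.Ev

/-!
The basis of `J`: `z`, its image `f` under `(03)(12)`, and two elements inverted by `(12)(45)`.
-/

set_option autoImplicit false
set_option linter.unusedSectionVars false

namespace Cfsg.Agent.Spor.McLThree

open Subgroup

universe u

variable {G : Type u} [Group G] [Finite G] {H : Hyp G}

namespace Sec

variable (C : Sec H)

theorem mem_M_Sy {σ : A6} (hσ : σ ∈ Sy) : C.rep σ ∈ H.M ∧ C.rep σ ∈ H.S := ⟨C.rep_mem σ, C.rep_S hσ⟩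

/-- The element `f`. -/
noncomputable def f : G := C.cj pw H.z

theorem f_J : C.f ∈ H.J := C.cj_mem _ H.z_J

theorem cj_pw_f : C.cj pw C.f = H.z := by
  unfold f
  rw [C.cj_comp _ _ H.z_J, a6_rels.2.2.2.2.2.2.1, C.cj_one H.z_J]

theorem ph_z_line : C.cj ph H.z ∈ zpowers H.z := by
  have hmem := C.cj_mem ph H.z_J
  obtain ⟨-, -, -, hab, -, -, -, -, -, -, -, -, -, hba⟩ := a6_rels
  refine C.fixed_line hmem ?_ ?_
  · rw [C.cj_comp _ _ H.z_J, show pa * ph = ph * pb⁻¹ by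
      rw [show pb⁻¹ = ph⁻¹ * pa * ph by
        rw [← inv_inj, inv_inv]; calc pb = ph⁻¹ * (ph * pb * ph⁻¹) * ph := by group
          _ = _ := by rw [hba]; group]
      group, ← C.cj_comp _ _ H.z_J, C.cj_Sy_z (inv_mem pb_mem_Sy)]
  · rw [C.cj_comp _ _ H.z_J, show pb * ph = ph * pa by rw [← hab]; group, ← C.cj_comp _ _ H.z_J,
      C.cj_Sy_z pa_mem_Sy]

theorem ph_z : C.cj ph H.z = H.z ∨ C.cj ph H.z = H.z ^ 2 := by
  obtain ⟨i, hi⟩ := mem_zpowers_iff.1 C.ph_z_line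
  have h3 : H.z ^ i = H.z ^ (i % 3) := by
    conv_lhs => rw [← Int.emod_add_mul_ediv i 3, zpow_add, zpow_mul,
      show H.z ^ (3 : ℤ) = 1 by exact_mod_cast H.z_cube, one_zpow, mul_one]
  have hlt := Int.emod_lt_of_pos i (show (0 : ℤ) < 3 by norm_num)
  have hge := Int.emod_nonneg i (show (3 : ℤ) ≠ 0 by norm_num)
  rw [h3] at hi
  obtain hc | hc | hc : i % 3 = 0 ∨ i % 3 = 1 ∨ i % 3 = 2 := by omega
  · exfalso
    rw [hc, zpow_zero] at hi
    have h1 : C.cj ph H.z = C.cj ph 1 := by rw [← hi]; unfold cj; group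
    exact H.z_ne (C.cj_injective ph h1)
  · rw [hc, zpow_one] at hi; exact Or.inl hi.symm
  · rw [hc] at hi; exact Or.inr (by exact_mod_cast hi.symm)

theorem pt_z : C.cj pt H.z = H.z := by
  rw [pt, ← C.cj_comp _ _ H.z_J]
  rcases C.ph_z with h | h
  · rw [h, h]
  · rw [h, C.cj_pow, h, ← pow_mul, show 2 * 2 = 3 + 1 from rfl, pow_succ, H.z_cube, one_mul]

theorem pt_f : C.cj pt C.f = C.f := by
  unfold f
  rw [C.cj_comp _ _ H.z_J, a6_rels.2.2.2.2.2.2.2.2.2.1, ← C.cj_comp _ _ H.z_J, C.pt_z]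

theorem f_not_Q : C.f ∉ H.Q := by
  intro hf
  have hmem : C.f ∈ H.J ⊓ H.Q := ⟨C.f_J, hf⟩
  let P0 : Subgroup G := closure {H.z, C.f}
  have hP0 : P0 ≤ H.J := (closure_le _).2 (by
    rintro x (rfl | rfl)
    exacts [H.z_J, C.f_J])
  have hz0 : H.z ∈ P0 := subset_closure (Or.inl rfl)
  have hf0 : C.f ∈ P0 := subset_closure (Or.inr rfl)
  let K : Subgroup A6 :=
    { carrier := {σ | ∀ x ∈ P0, C.cj σ x ∈ P0}
      one_mem' := fun x hx => by rw [C.cj_one (hP0 hx)]; exact hx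
      mul_mem' := fun {σ τ} hσ hτ x hx => by
        rw [← C.cj_comp _ _ (hP0 hx)]; exact hσ _ (hτ x hx)
      inv_mem' := fun {σ} hσ x hx => by
        let T : P0 → P0 := fun y => ⟨C.cj σ y, hσ y y.2⟩
        have hT : Function.Injective T := fun y y' h => Subtype.ext (C.cj_injective σ (congrArg Subtype.val h :))
        obtain ⟨y, hy⟩ := (Finite.injective_iff_bijective.1 hT).2 ⟨x, hx⟩
        have hy' : C.cj σ y = x := congrArg Subtype.val hy
        rw [← hy', C.cj_inv_cancel σ (hP0 y.2)]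
        exact y.2 }
  have gen : ∀ σ : A6, C.cj σ H.z ∈ P0 → C.cj σ C.f ∈ P0 → σ ∈ K := by
    intro σ h1 h2 x hx
    have hle : P0.map (MulAut.conj (C.rep σ)).toMonoidHom ≤ P0 := by
      rw [show P0 = closure {H.z, C.f} from rfl, MonoidHom.map_closure, closure_le]
      rintro _ ⟨y, (rfl | rfl), rfl⟩
      exacts [h1, h2]
    exact hle ⟨x, hx, rfl⟩
  have hSy : ∀ σ ∈ Sy, σ ∈ K := fun σ hσ => gen σ (by rw [C.cj_Sy_z hσ]; exact hz0) (by
    have h := H.JQ_comm hmem (C.rep_S hσ)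
    have : C.cj σ C.f = (C.f * C.rep σ * C.f⁻¹ * (C.rep σ)⁻¹)⁻¹ * C.f := by unfold cj; group
    rw [this]
    exact mul_mem (inv_mem (zpowers_le.2 hz0 h)) hf0)
  have hK : K = ⊤ := gen_top (hSy _ pa_mem_Sy) (hSy _ pb_mem_Sy) (gen pw hf0 (by rw [C.cj_pw_f]; exact hz0))
  let Φ : A6 →* Equiv.Perm P0 :=
    { toFun := fun σ =>
        { toFun := fun x => ⟨C.cj σ x, (hK.symm ▸ mem_top σ : σ ∈ K) x x.2⟩
          invFun := fun x => ⟨C.cj σ⁻¹ x, (hK.symm ▸ mem_top σ⁻¹ : σ⁻¹ ∈ K) x x.2⟩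
          left_inv := fun x => Subtype.ext (C.cj_inv_cancel σ (hP0 x.2))
          right_inv := fun x => Subtype.ext (by
            show C.cj σ (C.cj σ⁻¹ x) = x
            rw [C.cj_comp _ _ (hP0 x.2), mul_inv_cancel, C.cj_one (hP0 x.2)]) }
      map_one' := Equiv.ext fun x => Subtype.ext (C.cj_one (hP0 x.2))
      map_mul' := fun σ τ => Equiv.ext fun x => Subtype.ext (C.cj_comp σ τ (hP0 x.2)).symm }
  haveI : IsSimpleGroup A6 := alternatingGroup.isSimpleGroup (by simp)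
  -- some nontrivial element of `Sy` fixes `f`, hence `P0`
  obtain ⟨σ, hσS, hσ1, hσf⟩ : ∃ σ ∈ Sy, σ ≠ 1 ∧ C.cj σ C.f = C.f := by
    by_contra hcon
    push Not at hcon
    let F : Sy → zpowers H.z := fun σ => ⟨C.cj σ C.f * C.f⁻¹, by
      have h := H.JQ_comm hmem (C.rep_S σ.2)
      have : C.cj σ C.f * C.f⁻¹ = (C.f * C.rep σ * C.f⁻¹ * (C.rep σ)⁻¹)⁻¹ := by unfold cj; group
      rw [this]; exact inv_mem h⟩
    have hinj : Function.Injective F := by
      intro σ τ h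
      have h' : C.cj σ C.f = C.cj τ C.f := mul_right_cancel (congrArg Subtype.val h :)
      have h2 : C.cj ((τ : A6)⁻¹ * σ) C.f = C.f := by
        rw [← C.cj_comp _ _ C.f_J, h', C.cj_inv_cancel _ C.f_J]
      have h3 : ((τ : A6)⁻¹ * σ) = 1 := by
        by_contra hne
        exact hcon _ (mul_mem (inv_mem τ.2) σ.2) hne h2
      exact Subtype.ext (inv_mul_eq_one.1 h3).symm
    have := Nat.card_le_card_of_injective F hinj
    rw [card_Sy, H.card_Z] at this
    omega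
  have hker : σ ∈ Φ.ker := by
    refine MonoidHom.mem_ker.2 (Equiv.ext fun x => Subtype.ext ?_)
    show C.cj σ x = x
    have hle : P0 ≤ centralizer ({C.rep σ} : Set G) := (closure_le _).2 (by
      rintro y (rfl | rfl)
      · exact mem_centralizer_singleton_iff.2 (mul_inv_eq_iff_eq_mul.1 (C.cj_Sy_z hσS)).symm
      · exact mem_centralizer_singleton_iff.2 (mul_inv_eq_iff_eq_mul.1 hσf).symm)
    exact mul_inv_eq_iff_eq_mul.2 (mem_centralizer_singleton_iff.1 (hle x.2)).symm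
  have htop : Φ.ker = ⊤ := (Φ.normal_ker.eq_bot_or_eq_top).resolve_left fun h => hσ1 (mem_bot.1 (h ▸ hker))
  -- so `M` centralises `z` and normalises `Q`
  have hMz : ∀ g ∈ H.M, g * H.z = H.z * g := fun g hg => by
    have h := C.cj_eq hg H.z_J
    have h' : Φ (C.θ ⟨g, hg⟩) = 1 := MonoidHom.mem_ker.1 (htop.symm ▸ mem_top _)
    have h'' : C.cj (C.θ ⟨g, hg⟩) H.z = H.z := congrArg Subtype.val (Equiv.ext_iff.1 h' ⟨H.z, hz0⟩)
    rw [h''] at h
    exact mul_inv_eq_iff_eq_mul.1 h.symm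
  have hn : (H.Q.subgroupOf H.M).Normal := ⟨fun q hq g => mem_subgroupOf.2 (by
    have := H.norm_Q g (hMz g g.2) q (mem_subgroupOf.1 hq)
    simpa using this)⟩
  have himg : ((H.Q.subgroupOf H.M).map C.θ).Normal := hn.map C.θ C.surj
  rcases himg.eq_bot_or_eq_top with h | h
  · obtain ⟨j, hj, hjQ⟩ := H.exists_J_not_Q
    have hle : H.Q ≤ H.J := fun q hq => (C.ker ⟨q, H.S_le_M (H.Q_le_S hq)⟩).1 (mem_bot.1
      (h ▸ ⟨⟨q, H.S_le_M (H.Q_le_S hq)⟩, mem_subgroupOf.2 hq, rfl⟩))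
    have := card_le_of_le hle
    rw [H.J_card, H.Q_card] at this
    omega
  · have hle : (H.Q.subgroupOf H.M).map C.θ ≤ Sy := by
      rintro _ ⟨q, hq, rfl⟩
      exact (C.sylow q).1 (H.Q_le_S (mem_subgroupOf.1 hq))
    rw [h] at hle
    have := card_le_of_le hle
    rw [card_top, card_A6, card_Sy] at this
    omega

end Sec

end Cfsg.Agent.Spor.McLThree
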