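import Cfsg.Agent.Lib.Spor.McLThree.Hyp
import Cfsg.Agent.Lib.Grp.Basic

/-!
First consequences: the Sylow subgroup, its unique abelian subgroup of order `81`, and the fixed points of elements
of order three on the extraspecial group.
-/

set_option autoImplicit false
set_option linter.unusedSectionVars false

namespace Cfsg.Agent.Spor.McLThree

open Subgroup

universe u

variable {G : Type u} [Group G]

/-- The elements centralising every element of a set modulo a central subgroup. -/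
def centMod (z : G) (T : Set G) : Subgroup G where
  carrier := {g | g * z = z * g ∧ ∀ q ∈ T, g * q * g⁻¹ * q⁻¹ ∈ zpowers z}
  one_mem' := ⟨by simp, fun q _ => by simp⟩
  mul_mem' := by
    intro a b ha hb
    refine ⟨by rw [mul_assoc, hb.1, ← mul_assoc, ha.1, mul_assoc], fun q hq => ?_⟩
    obtain ⟨i, hi⟩ := hb.2 q hq
    have hc : a * z ^ i * a⁻¹ = z ^ i :=
      mul_inv_eq_iff_eq_mul.2 ((show Commute a z from ha.1).zpow_right i).eq
    have e : a * b * q * (a * b)⁻¹ * q⁻¹ = a * (b * q * b⁻¹ * q⁻¹) * a⁻¹ * (a * q * a⁻¹ * q⁻¹) := by group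
    rw [e, ← hi]
    exact mul_mem (by rw [hc]; exact zpow_mem (mem_zpowers z) i) (ha.2 q hq)
  inv_mem' := by
    intro a ha
    have hai : a⁻¹ * z = z * a⁻¹ := ((show Commute a z from ha.1).inv_left).eq
    refine ⟨hai, fun q hq => ?_⟩
    obtain ⟨i, hi⟩ := ha.2 q hq
    have hc : a⁻¹ * z ^ (-i) * a = z ^ (-i) := by
      rw [((show Commute a⁻¹ z from hai).zpow_right (-i)).eq, inv_mul_cancel_right]
    have e : a⁻¹ * q * a⁻¹⁻¹ * q⁻¹ = a⁻¹ * (a * q * a⁻¹ * q⁻¹)⁻¹ * a := by group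
    rw [e, ← hi]
    show a⁻¹ * (z ^ i)⁻¹ * a ∈ zpowers z
    rw [← zpow_neg, hc]
    exact zpow_mem (mem_zpowers z) _

theorem mem_centMod {z g : G} {T : Set G} :
    g ∈ centMod z T ↔ g * z = z * g ∧ ∀ q ∈ T, g * q * g⁻¹ * q⁻¹ ∈ zpowers z := Iff.rfl

namespace Hyp

variable [Finite G] (H : Hyp G)

theorem z_cube : H.z ^ 3 = 1 := H.z_order ▸ pow_orderOf_eq_one H.z

theorem z_ne : H.z ≠ 1 := fun h => by simpa [h] using H.z_order

theorem card_Z : Nat.card (zpowers H.z) = 3 := by rw [Nat.card_zpowers, H.z_order]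

theorem Z_le_Q : zpowers H.z ≤ H.Q := zpowers_le.2 H.z_Q

theorem Z_cen {x q : G} (hx : x ∈ zpowers H.z) (hq : q ∈ H.Q) : x * q = q * x := by
  obtain ⟨i, rfl⟩ := hx
  exact ((show Commute H.z q from H.z_cen q hq).zpow_left i).eq

theorem Q_isPGroup : IsPGroup 3 H.Q := IsPGroup.of_card (n := 5) (by rw [H.Q_card]; norm_num)

theorem S_isPGroup : IsPGroup 3 H.S := IsPGroup.of_card (n := 6) (by rw [H.S_card]; norm_num)

theorem S_le_norm_Q : H.S ≤ normalizer (H.Q : Set G) := fun s hs =>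
  Subgroup.mem_normalizer_fintype fun q hq => H.norm_Q s (H.S_cz s hs) q hq

theorem Q_le_S : H.Q ≤ H.S := by
  have hp : IsPGroup 3 ↥(H.S ⊔ H.Q) := H.S_isPGroup.to_sup_of_normal_right' H.Q_isPGroup H.S_le_norm_Q
  rw [eq_of_le_of_card_ge (le_sup_left : H.S ≤ H.S ⊔ H.Q) (H.S_card.symm ▸ H.S_max _ hp)]
  exact le_sup_right

theorem mem_L {g : G} (hg : g * H.z = H.z * g) {k : ℕ} (h3 : g ^ 3 ^ k = 1) : g ∈ H.L :=
  H.L_def ▸ subset_closure ⟨hg, k, h3⟩

theorem L_cz {g : G} (hg : g ∈ H.L) : g * H.z = H.z * g := by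
  have hle : H.L ≤ centralizer ({H.z} : Set G) := by
    rw [H.L_def, closure_le]
    exact fun x hx => mem_centralizer_singleton_iff.2 hx.1
  exact mem_centralizer_singleton_iff.1 (hle hg)

theorem S_le_L : H.S ≤ H.L := fun s hs => by
  obtain ⟨k, hk⟩ := H.S_isPGroup ⟨s, hs⟩
  exact H.mem_L (H.S_cz s hs) (k := k) (by simpa using congrArg Subtype.val hk)

theorem Q_le_L : H.Q ≤ H.L := H.Q_le_S.trans H.S_le_L

/-- An abelian subgroup of the extraspecial group has order at most 27. -/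
theorem abelian_le {A : Subgroup G} (hA : A ≤ H.Q) (hc : ∀ a ∈ A, ∀ b ∈ A, a * b = b * a) : Nat.card A ≤ 27 := by
  by_contra hlt
  push Not at hlt
  have hd : Nat.card A ∣ 3 ^ 5 := by
    have := card_dvd_of_le hA
    rwa [H.Q_card] at this
  obtain ⟨n, hn, hAn⟩ := (Nat.dvd_prime_pow Nat.prime_three).1 hd
  rw [hAn] at hlt
  obtain rfl | rfl : n = 4 ∨ n = 5 := by
    interval_cases n <;> simp_all
  swap
  · have hQA : A = H.Q := eq_of_le_of_card_ge hA (by rw [hAn, H.Q_card]; norm_num)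
    subst hQA
    have : H.Q ≤ zpowers H.z := fun a ha => H.Q_cen a ha fun b hb => hc a ha b hb
    have := card_le_of_le this
    rw [H.card_Z, H.Q_card] at this
    omega
  obtain ⟨q, hqQ, hqA⟩ : ∃ q ∈ H.Q, q ∉ A := by
    by_contra h
    push Not at h
    have := card_le_of_le (show H.Q ≤ A from h)
    rw [hAn, H.Q_card] at this
    norm_num at this
  let f : A →* zpowers H.z :=
    { toFun := fun a => ⟨q * a * q⁻¹ * (a : G)⁻¹, H.Q_comm q hqQ a (hA a.2)⟩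
      map_one' := Subtype.ext (by simp)
      map_mul' := fun a b => Subtype.ext (by
        have hz := H.Z_cen (H.Q_comm q hqQ b (hA b.2)) (hA (inv_mem a.2))
        show q * ((a : G) * (b : G)) * q⁻¹ * ((a : G) * (b : G))⁻¹ =
          q * (a : G) * q⁻¹ * (a : G)⁻¹ * (q * (b : G) * q⁻¹ * (b : G)⁻¹)
        calc q * ((a : G) * (b : G)) * q⁻¹ * ((a : G) * (b : G))⁻¹
            = q * (a : G) * q⁻¹ * ((q * (b : G) * q⁻¹ * (b : G)⁻¹) * (a : G)⁻¹) := by group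
          _ = _ := by rw [hz]; group) }
  have hker : ∀ a : A, a ∈ f.ker → (a : G) ∈ zpowers H.z := by
    intro a ha
    have hqa : q * a * q⁻¹ * (a : G)⁻¹ = 1 := congrArg Subtype.val (MonoidHom.mem_ker.1 ha)
    have hC : A ≤ centralizer ({(a : G)} : Set G) := fun b hb =>
      mem_centralizer_singleton_iff.2 (hc b hb a a.2)
    have hqC : q ∈ centralizer ({(a : G)} : Set G) :=
      mem_centralizer_singleton_iff.2 (mul_inv_eq_iff_eq_mul.1 (mul_inv_eq_one.1 hqa))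
    have hle : A ≤ centralizer ({(a : G)} : Set G) ⊓ H.Q := le_inf hC hA
    have hlt' : Nat.card A < Nat.card ↥(centralizer ({(a : G)} : Set G) ⊓ H.Q) := by
      by_contra h
      rw [eq_of_le_of_card_ge hle (not_lt.1 h)] at hqA
      exact hqA ⟨hqC, hqQ⟩
    have hd' : Nat.card ↥(centralizer ({(a : G)} : Set G) ⊓ H.Q) ∣ 3 ^ 5 := by
      have := card_dvd_of_le (inf_le_right : centralizer ({(a : G)} : Set G) ⊓ H.Q ≤ H.Q)
      rwa [H.Q_card] at this
    obtain ⟨m, hm, hmc⟩ := (Nat.dvd_prime_pow Nat.prime_three).1 hd'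
    rw [hAn, hmc] at hlt'
    have hm5 : m = 5 := by
      have := (Nat.pow_lt_pow_iff_right (by norm_num : 1 < 3)).1 hlt'
      omega
    have heq := eq_of_le_of_card_ge (inf_le_right : centralizer ({(a : G)} : Set G) ⊓ H.Q ≤ H.Q)
      (by rw [hmc, hm5, H.Q_card]; norm_num)
    exact H.Q_cen a (hA a.2) fun b hb => by
      have hb' : b ∈ centralizer ({(a : G)} : Set G) ⊓ H.Q := heq.symm ▸ hb
      exact (mem_centralizer_singleton_iff.1 hb'.1).symm
  have h1 : Nat.card f.ker ≤ 3 := by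
    rw [← H.card_Z]
    exact Nat.card_le_card_of_injective (fun a : f.ker => (⟨_, hker a a.2⟩ : zpowers H.z))
      fun a b h => Subtype.ext (Subtype.ext (congrArg Subtype.val h :))
  have h2 := f.ker.card_mul_index
  have h3 : f.ker.index ≤ 3 := by
    rw [index_ker]
    exact (card_subgroup_dvd_card f.range |> Nat.le_of_dvd Nat.card_pos).trans H.card_Z.le
  have : Nat.card A ≤ 9 := h2 ▸ Nat.mul_le_mul h1 h3
  rw [hAn] at this
  norm_num at this

theorem z_mem_abelian {A : Subgroup G} (hA : A ≤ H.S) (hc : ∀ a ∈ A, ∀ b ∈ A, a * b = b * a) (h81 : Nat.card A = 81) :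
    H.z ∈ A ∧ Nat.card ↥(A ⊓ H.Q) = 27 := by
  have hn : A ≤ normalizer (H.Q : Set G) := hA.trans H.S_le_norm_Q
  have hprod := Grp.card_sup_mul_card_inf hn
  have hle : Nat.card ↥(A ⊔ H.Q) ≤ 729 := H.S_card ▸ card_le_of_le (sup_le hA H.Q_le_S)
  rw [h81, H.Q_card] at hprod
  have hup : Nat.card ↥(A ⊓ H.Q) ≤ 27 :=
    H.abelian_le inf_le_right fun a ha b hb => hc a ha.1 b hb.1
  have h27 : Nat.card ↥(A ⊓ H.Q) = 27 := by nlinarith
  refine ⟨?_, h27⟩
  by_contra hz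
  let B : Subgroup G :=
    { carrier := {g | ∃ a ∈ A ⊓ H.Q, ∃ c ∈ zpowers H.z, g = a * c}
      one_mem' := ⟨1, one_mem _, 1, one_mem _, (one_mul 1).symm⟩
      mul_mem' := by
        rintro _ _ ⟨a, ha, c, hc', rfl⟩ ⟨b, hb, d, hd, rfl⟩
        refine ⟨a * b, mul_mem ha hb, c * d, mul_mem hc' hd, ?_⟩
        rw [mul_assoc a, ← mul_assoc c, H.Z_cen hc' hb.2]; group
      inv_mem' := by
        rintro _ ⟨a, ha, c, hc', rfl⟩
        refine ⟨a⁻¹, inv_mem ha, c⁻¹, inv_mem hc', ?_⟩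
        rw [mul_inv_rev, H.Z_cen (inv_mem hc') (inv_mem ha.2)] }
  have hBQ : B ≤ H.Q := by
    rintro _ ⟨a, ha, c, hc', rfl⟩
    exact mul_mem ha.2 (H.Z_le_Q hc')
  have hBc : ∀ a ∈ B, ∀ b ∈ B, a * b = b * a := by
    rintro _ ⟨a, ha, c, hc', rfl⟩ _ ⟨b, hb, d, hd, rfl⟩
    have h1 : Commute a b := hc a ha.1 b hb.1
    have h2 : Commute a d := (H.Z_cen hd ha.2).symm
    have h3 : Commute c b := H.Z_cen hc' hb.2
    have h4 : Commute c d := H.Z_cen hc' (H.Z_le_Q hd)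
    exact ((h1.mul_right h2).mul_left (h3.mul_right h4)).eq
  have hAB : A ⊓ H.Q ≤ B := fun a ha => ⟨a, ha, 1, one_mem _, (mul_one a).symm⟩
  have h := H.abelian_le hBQ hBc
  rw [← h27] at h
  have := eq_of_le_of_card_ge hAB h
  exact hz ((this.symm ▸ (⟨1, one_mem _, H.z, mem_zpowers _, (one_mul _).symm⟩ : H.z ∈ B) : H.z ∈ A ⊓ H.Q).1)

theorem z_J : H.z ∈ H.J := (H.z_mem_abelian H.J_le_S H.J_comm H.J_card).1

theorem card_JQ : Nat.card ↥(H.J ⊓ H.Q) = 27 := (H.z_mem_abelian H.J_le_S H.J_comm H.J_card).2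

theorem exists_J_not_Q : ∃ j ∈ H.J, j ∉ H.Q := by
  by_contra h
  push Not at h
  have := H.abelian_le (show H.J ≤ H.Q from h) H.J_comm
  rw [H.J_card] at this
  omega

theorem J_sup_Q : H.J ⊔ H.Q = H.S := by
  refine eq_of_le_of_card_ge (sup_le H.J_le_S H.Q_le_S) ?_
  have h := Grp.card_sup_mul_card_inf (H.J_le_S.trans H.S_le_norm_Q)
  rw [H.J_card, H.Q_card, H.card_JQ] at h
  rw [H.S_card]
  omega

theorem mem_S {s : G} (hs : s ∈ H.S) : ∃ j ∈ H.J, ∃ q ∈ H.Q, s = j * q := by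
  rw [← H.J_sup_Q, ← SetLike.mem_coe,
    coe_mul_of_left_le_normalizer_right H.J H.Q (H.J_le_S.trans H.S_le_norm_Q)] at hs
  obtain ⟨j, hj, q, hq, rfl⟩ := hs
  exact ⟨j, hj, q, hq, rfl⟩

theorem cent_JQ {q : G} (hq : q ∈ H.Q) (h : ∀ a ∈ H.J ⊓ H.Q, q * a = a * q) : q ∈ H.J ⊓ H.Q := by
  let C : Subgroup G := Subgroup.closure ((↑(H.J ⊓ H.Q) : Set G) ∪ {q})
  have hCQ : C ≤ H.Q := (closure_le _).2 (Set.union_subset (fun a ha => ha.2) (by simpa using hq))
  have hgen : ∀ a ∈ (↑(H.J ⊓ H.Q) : Set G) ∪ {q}, ∀ b ∈ (↑(H.J ⊓ H.Q) : Set G) ∪ {q}, a * b = b * a := by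
    rintro a (ha | rfl) b (hb | rfl)
    · exact H.J_comm a ha.1 b hb.1
    · exact (h a ha).symm
    · exact h b hb
    · rfl
  haveI : IsMulCommutative C := Subgroup.isMulCommutative_closure fun a ha b hb => hgen a ha b hb
  have hCc : ∀ a ∈ C, ∀ b ∈ C, a * b = b * a := fun a ha b hb =>
    congrArg Subtype.val (IsMulCommutative.is_comm.comm (⟨a, ha⟩ : C) ⟨b, hb⟩)
  have hle : H.J ⊓ H.Q ≤ C := fun a ha => subset_closure (Or.inl ha)
  rw [eq_of_le_of_card_ge hle (H.card_JQ.symm ▸ H.abelian_le hCQ hCc)]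
  exact subset_closure (Or.inr rfl)

theorem cube_mem_Q {g : G} (hg : ∀ a ∈ H.J ⊓ H.Q, g * a = a * g) : g ^ 3 ∈ H.Q := by
  have hgz := hg _ ⟨H.z_J, H.z_Q⟩
  refine H.cent_Q _ fun q hq => ?_
  have hgq := H.norm_Q g hgz q hq
  have hga : g * (q⁻¹ * (g * q * g⁻¹)) * g⁻¹ = q⁻¹ * (g * q * g⁻¹) := by
    have hmem : q⁻¹ * (g * q * g⁻¹) ∈ H.J ⊓ H.Q := by
      refine H.cent_JQ (mul_mem (inv_mem hq) hgq) fun a ha => ?_
      obtain ⟨i, hi⟩ := H.Q_comm q hq a ha.2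
      have hi' : q * a * q⁻¹ = H.z ^ i * a := by
        rw [show H.z ^ i = q * a * q⁻¹ * a⁻¹ from hi]; group
      have hgi : g * H.z ^ i * g⁻¹ = H.z ^ i :=
        mul_inv_eq_iff_eq_mul.2 ((show Commute g H.z from hgz).zpow_right i).eq
      have ha' : g⁻¹ * a * g = a := by rw [mul_assoc, ← hg a ha, inv_mul_cancel_left]
      have e2 : g * q * g⁻¹ * a * (g * q * g⁻¹)⁻¹ = q * a * q⁻¹ := by
        calc g * q * g⁻¹ * a * (g * q * g⁻¹)⁻¹ = g * (q * (g⁻¹ * a * g) * q⁻¹) * g⁻¹ := by group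
          _ = (g * H.z ^ i * g⁻¹) * (g * a * g⁻¹) := by rw [ha', hi']; group
          _ = _ := by rw [hgi, hg a ha, mul_inv_cancel_right, hi']
      calc q⁻¹ * (g * q * g⁻¹) * a
          = q⁻¹ * (g * q * g⁻¹ * a * (g * q * g⁻¹)⁻¹) * (g * q * g⁻¹) := by group
        _ = a * (q⁻¹ * (g * q * g⁻¹)) := by rw [e2]; group
    rw [hg _ hmem, mul_inv_cancel_right]
  have hmem : q⁻¹ * (g * q * g⁻¹) ∈ H.Q := mul_mem (inv_mem hq) hgq
  set a := q⁻¹ * (g * q * g⁻¹) with ha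
  have h1 : g * q * g⁻¹ = q * a := by rw [ha]; group
  have h3 : g * (q * a) * g⁻¹ = q * a * a := by
    rw [show g * (q * a) * g⁻¹ = g * q * g⁻¹ * (g * a * g⁻¹) by group, h1, hga]
  have h4 : g * (q * a * a) * g⁻¹ = q * (a * a * a) := by
    rw [show g * (q * a * a) * g⁻¹ = g * (q * a) * g⁻¹ * (g * a * g⁻¹) by group, h3, hga]; group
  have ha3 : a * a * a = 1 := by rw [← H.Q_cube a hmem, pow_succ, sq]
  rw [ha3, mul_one] at h4
  refine mul_inv_eq_iff_eq_mul.1 ?_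
  calc g ^ 3 * q * (g ^ 3)⁻¹ = g * (g * (g * q * g⁻¹) * g⁻¹) * g⁻¹ := by
        simp only [pow_succ, pow_zero, one_mul, mul_inv_rev, mul_assoc]
    _ = q := by rw [h1, h3, h4]

theorem J_self_cent {g : G} (hg : ∀ a ∈ H.J, g * a = a * g) : g ∈ H.J := by
  set C := centralizer (H.J : Set G)
  have hCJ : ∀ x ∈ C, ∀ a ∈ H.J, x * a = a * x := fun x hx a ha => (mem_centralizer_iff.1 hx a ha).symm
  have hC3 : IsPGroup 3 C := fun x => ⟨2, Subtype.ext (by
    show (x : G) ^ 3 ^ 2 = 1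
    rw [show (3 : ℕ) ^ 2 = 3 * 3 from rfl, pow_mul]
    exact H.Q_cube _ (H.cube_mem_Q fun a ha => hCJ x x.2 a ha.1))⟩
  have hCN : C ≤ normalizer (H.Q : Set G) := fun x hx =>
    Subgroup.mem_normalizer_fintype fun q hq => H.norm_Q x (hCJ x hx _ H.z_J) q hq
  have hp : IsPGroup 3 ↥(C ⊔ H.Q) := hC3.to_sup_of_normal_right' H.Q_isPGroup hCN
  have hJC : H.J ≤ C := fun a ha => mem_centralizer_iff.2 fun b hb => H.J_comm b hb a ha
  have hSle : H.S ≤ C ⊔ H.Q := by rw [← H.J_sup_Q]; exact sup_le_sup hJC le_rfl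
  have hS := eq_of_le_of_card_ge hSle (H.S_card.symm ▸ H.S_max _ hp)
  have hgC : g ∈ C := mem_centralizer_iff.2 fun a ha => (hg a ha).symm
  have hgS : g ∈ H.S := hS.symm ▸ (le_sup_left : C ≤ C ⊔ H.Q) hgC
  obtain ⟨j, hj, q, hq, rfl⟩ := H.mem_S hgS
  refine mul_mem hj (H.cent_JQ hq fun a ha => ?_).1
  have h1 := hg a ha.1
  have h2 := H.J_comm j hj a ha.1
  rw [mul_assoc, ← mul_assoc a, ← h2, mul_assoc] at h1
  exact mul_left_cancel h1

end Hyp

end Cfsg.Agent.Spor.McLThree
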