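import Cfsg.Agent.Lib.Spor.McLThree.CentY
import Cfsg.Agent.S3376

/-!
The centralizer of the image of `z` is that of a product of three disjoint three-cycles in nine points.
-/

set_option autoImplicit false
set_option maxRecDepth 100000
set_option synthInstance.maxSize 4096
set_option linter.unusedSectionVars false

namespace Cfsg.Agent.Spor.McLThree

open Subgroup Cfsg.Agent.Spor.UFourType

universe u

/-- The product of three disjoint three-cycles. -/
abbrev p9 : Equiv.Perm (Fin 9) :=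
  Equiv.swap (0 : Fin 9) 1 * Equiv.swap 1 2 * Equiv.swap 3 4 * Equiv.swap 4 5 * Equiv.swap 6 7 * Equiv.swap 7 8

variable {G : Type u} [Group G] [Finite G]

namespace Sec

variable {H : Hyp G} (C : Sec H)

/-- The image of `J`. -/
noncomputable def Jx : Subgroup C.Yx := (H.J.subgroupOf C.Nx).map C.px

theorem mem_Jx {y : C.Yx} : y ∈ C.Jx ↔ ∃ k < 27, y = C.jx (repV k) := by
  constructor
  · rintro ⟨⟨g, hg⟩, hgJ, rfl⟩
    obtain ⟨v, hv, rfl⟩ := C.ev_surj (mem_subgroupOf.1 hgJ : g ∈ H.J)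
    obtain ⟨k, hk, hvk⟩ := repV_spec.2.2.1 v hv
    exact ⟨k, hk, ((C.jx_eq hv (repV_spec.1 k hk)).2 hvk).symm⟩
  · rintro ⟨k, -, rfl⟩
    exact ⟨_, mem_subgroupOf.2 (C.ev_J _), rfl⟩

theorem jx_mem (v : ℕ) : C.jx v ∈ C.Jx := ⟨_, mem_subgroupOf.2 (C.ev_J v), rfl⟩

theorem card_Jx : Nat.card C.Jx = 27 := by
  let f : Fin 27 → C.Jx := fun k => ⟨C.jx (repV k), C.jx_mem _⟩
  rw [← Nat.card_eq_of_bijective f ⟨fun k l h => Fin.ext (repV_spec.2.1 _ k.2 _ l.2
      ((C.jx_eq (repV_spec.1 _ k.2) (repV_spec.1 _ l.2)).1 (congrArg Subtype.val h :).symm)), fun y => ?_⟩]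
  · simp
  · obtain ⟨k, hk, hy⟩ := C.mem_Jx.1 y.2
    exact ⟨⟨k, hk⟩, Subtype.ext hy.symm⟩

theorem Jx_comm : ∀ a ∈ C.Jx, ∀ b ∈ C.Jx, a * b = b * a := by
  rintro _ ⟨a, ha, rfl⟩ _ ⟨b, hb, rfl⟩
  rw [← map_mul, ← map_mul]
  exact congrArg C.px (Subtype.ext (H.J_comm _ (mem_subgroupOf.1 ha) _ (mem_subgroupOf.1 hb)))

theorem Jx_cube : ∀ a ∈ C.Jx, a ^ 3 = 1 := by
  rintro _ ⟨a, ha, rfl⟩
  rw [← map_pow, show a ^ 3 = 1 from Subtype.ext (by simpa using H.J_cube _ (mem_subgroupOf.1 ha)), map_one]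

theorem Jx_le_Cx : C.Jx ≤ C.Cx := fun y hy => by
  obtain ⟨k, -, rfl⟩ := C.mem_Jx.1 hy
  exact C.jx_Cx _

theorem norm_Jx {g : G} (hg : g ∈ C.Nx) (hN : g ∈ normalizer (H.J : Set G)) {y : C.Yx} (hy : y ∈ C.Jx) :
    C.px ⟨g, hg⟩ * y * (C.px ⟨g, hg⟩)⁻¹ ∈ C.Jx := by
  obtain ⟨a, ha, rfl⟩ := hy
  rw [← map_inv, ← map_mul, ← map_mul]
  exact ⟨_, mem_subgroupOf.2 (((mem_normalizer_iff.1 hN) _).1 (mem_subgroupOf.1 ha)), rfl⟩

theorem zx_order : orderOf C.zx = 3 := by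
  haveI : Fact (Nat.Prime 3) := ⟨Nat.prime_three⟩
  refine orderOf_eq_prime (C.Jx_cube _ (C.jx_mem 4)) fun h => ?_
  have h' : C.jx 4 = C.jx 0 := by
    rw [show C.jx 0 = 1 from congrArg C.px (Subtype.ext C.bas.ev_zero)]
    exact h
  exact absurd ((C.jx_eq (by norm_num) (by norm_num)).1 h') (by decide +kernel)

include C in
theorem iso_Cx : Nonempty (C.Cx ≃* centralizer ({p9} : Set (Equiv.Perm (Fin 9)))) := by
  haveI : Fact (Nat.Prime 3) := ⟨Nat.prime_three⟩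
  haveI : Fact (Nat.Prime 2) := ⟨Nat.prime_two⟩
  obtain ⟨t, -, ht2, -, -, htA⟩ := C.exists_t
  have hcard := C.card_Cx
  have hf : 3 ^ (Nat.card C.Cx).factorization 3 = 81 ∧ 2 ^ (Nat.card C.Cx).factorization 2 = 2 := by
    have e3 : (162 : ℕ).factorization 3 = 4 := by
      rw [show (162 : ℕ) = 3 ^ 4 * 2 by norm_num, Nat.factorization_mul (by norm_num) (by norm_num),
        Nat.prime_three.factorization_pow]
      simp [Nat.factorization_eq_zero_of_not_dvd (show ¬ 3 ∣ 2 by norm_num)]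
    have e2 : (162 : ℕ).factorization 2 = 1 := by
      rw [show (162 : ℕ) = 2 ^ 1 * 81 by norm_num, Nat.factorization_mul (by norm_num) (by norm_num),
        Nat.prime_two.factorization_pow]
      simp [Nat.factorization_eq_zero_of_not_dvd (show ¬ 2 ∣ 81 by norm_num)]
    rw [hcard, e3, e2]; norm_num
  have htC : C.px ⟨t, C.act_T_Nx htA⟩ ∈ C.Cx := by
    refine mem_centralizer_singleton_iff.2 ?_
    rw [zx, C.commute_iff (C.act_T_Nx htA) htA (by norm_num), repV_spec.2.2.2.2.2.2.2.2.2]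
    decide +kernel
  have hbC : C.px ⟨C.bx, C.bx_Nx⟩ ∈ C.Cx := by
    refine mem_centralizer_singleton_iff.2 ?_
    rw [zx, C.commute_iff C.bx_Nx C.bx_act (by norm_num), repV_spec.2.2.2.2.2.2.2.2.1]
    decide +kernel
  set tt : C.Cx := ⟨_, htC⟩ with htt
  have htt2 : tt * tt = 1 := Subtype.ext (by
    show C.px ⟨t, _⟩ * C.px ⟨t, _⟩ = 1
    rw [← map_mul, ← map_one C.px]
    exact congrArg C.px (Subtype.ext ht2))
  have htne : ¬ C.px ⟨t, C.act_T_Nx htA⟩ * C.jx 54 = C.jx 54 * C.px ⟨t, C.act_T_Nx htA⟩ := by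
    rw [C.commute_iff _ htA (by norm_num)]
    decide +kernel
  have ht1 : tt ≠ 1 := fun h => htne (by
    rw [show C.px ⟨t, C.act_T_Nx htA⟩ = 1 from congrArg Subtype.val h, one_mul, mul_one])
  let T : Sylow 2 C.Cx := Sylow.ofCard (zpowers tt) (by
    rw [Nat.card_zpowers, orderOf_eq_prime (by rw [sq]; exact htt2) ht1, hf.2])
  -- the Sylow three-subgroup
  set S0 : Subgroup C.Cx := ((H.S.subgroupOf C.Nx).map C.px).subgroupOf C.Cx with hS0
  have hSC : (H.S.subgroupOf C.Nx).map C.px ≤ C.Cx := by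
    rintro _ ⟨s, hs, rfl⟩
    refine mem_centralizer_singleton_iff.2 ?_
    rw [zx, jx, ← map_mul, ← map_mul]
    exact congrArg C.px (Subtype.ext (by
      show (s : G) * C.ev 4 = C.ev 4 * s
      rw [C.ev_basis.1]; exact H.S_cz _ (mem_subgroupOf.1 hs)))
  have hS3 : IsPGroup 3 S0 := ((H.S_isPGroup.comap_of_injective C.Nx.subtype C.Nx.subtype_injective).map C.px
    ).comap_of_injective C.Cx.subtype C.Cx.subtype_injective
  obtain ⟨ε, hεb, hεs⟩ := C.enum_Cx ht2 htA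
  have hS81 : Nat.card S0 = 81 := by
    obtain ⟨n, hn⟩ := IsPGroup.iff_card.1 hS3
    have hle : 81 ≤ Nat.card S0 := by
      have hmem : ∀ q : Fin 3 × Fin 27, ε (q.1, 0, q.2) ∈ S0 := fun q => by
        refine mem_subgroupOf.2 ?_
        rw [hεs]
        simp only [Fin.val_zero, pow_zero, mul_one]
        refine mul_mem (pow_mem ?_ _) ⟨_, mem_subgroupOf.2 (H.J_le_S (C.ev_J _)), rfl⟩
        exact ⟨_, mem_subgroupOf.2 (C.rep_S pb_mem_Sy), rfl⟩
      have hinj : Function.Injective (fun q : Fin 3 × Fin 27 => (⟨_, hmem q⟩ : S0)) := fun q r h => by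
        have := hεb.1 (congrArg Subtype.val h :)
        simp only [Prod.mk.injEq] at this
        exact Prod.ext this.1 this.2.2
      have h := Nat.card_le_card_of_injective _ hinj
      simpa using h
    have hd : Nat.card S0 ∣ 162 := hcard ▸ card_subgroup_dvd_card S0
    rw [hn] at hle hd ⊢
    have : n < 6 := by
      by_contra h
      have h6 := (Nat.pow_le_pow_right (by norm_num : 0 < 3) (not_lt.1 h)).trans (Nat.le_of_dvd (by norm_num) hd)
      norm_num at h6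
    interval_cases n <;> simp_all
  let S : Sylow 3 C.Cx := Sylow.ofCard S0 (by rw [hS81, hf.1])
  set J0 : Subgroup C.Cx := C.Jx.subgroupOf C.Cx
  haveI : J0.Normal := ⟨fun y hy g => by
    refine mem_subgroupOf.2 ?_
    obtain ⟨⟨x, hx⟩, hxg⟩ := QuotientGroup.mk'_surjective C.Kx (g : C.Yx)
    have h := C.norm_Jx hx (C.lift_Cx hx (hxg.symm ▸ g.2)).1 (mem_subgroupOf.1 hy)
    simp only [coe_mul, coe_inv]
    rwa [hxg] at h⟩
  have hJS : J0 ≤ S0 := fun y hy => by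
    obtain ⟨a, ha, hay⟩ := mem_subgroupOf.1 hy
    exact mem_subgroupOf.2 ⟨a, mem_subgroupOf.2 (H.J_le_S (mem_subgroupOf.1 ha)), hay⟩
  have hzC : C.zx ∈ C.Cx := C.jx_Cx 4
  have hbS : (⟨_, hbC⟩ : C.Cx) ∈ S0 := mem_subgroupOf.2 ⟨_, mem_subgroupOf.2 (C.rep_S pb_mem_Sy), rfl⟩
  have hZ : (S : Subgroup C.Cx) ⊓ centralizer ((S : Subgroup C.Cx) : Set C.Cx) = zpowers (⟨_, hzC⟩ : C.Cx) := by
    refine le_antisymm ?_ (zpowers_le.2 ⟨hJS (mem_subgroupOf.2 (C.jx_mem 4)), mem_centralizer_iff.2 fun s _ => ?_⟩)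
    · rintro y ⟨hyS, hyc⟩
      obtain ⟨⟨g, hg⟩, hgS, hgy⟩ := mem_subgroupOf.1 (show y ∈ S0 from hyS)
      have hgS' : g ∈ H.S := mem_subgroupOf.1 hgS
      obtain ⟨-, -, X, hX, A, hA, hgA⟩ := C.lift_Cx hg (hgy.symm ▸ y.2)
      have hAI : A = mI := by
        obtain ⟨X', hX', hgX⟩ := C.mat_of_S hgS'
        have he := C.nact_unique hgA hgX
        rcases hA with rfl | rfl
        · rfl
        · exact absurd (he ▸ hX') (out X hX)
      subst hAI
      rw [(mM_mI X (stX_spec.2.1 X hX).1).1] at hgA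
      have hcomm : ∀ v, C.jx v ∈ (H.S.subgroupOf C.Nx).map C.px → v < 81 → modX (ap X v) v = true := fun v hv hv81 => by
        have h := congrArg Subtype.val (mem_centralizer_iff.1 hyc ⟨_, hSC hv⟩ (mem_subgroupOf.2 hv))
        simp only [coe_mul] at h
        rw [← hgy] at h
        exact (C.commute_iff hg hgA hv81).1 h.symm
      have hX1 : X = mI := by
        by_contra hne
        obtain ⟨v, hv, hmv⟩ := stX_moves X hX hne
        have hv81 : v < 81 := by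
          rcases List.mem_cons.1 hv with rfl | hv' <;> [norm_num; (rw [List.mem_singleton.1 hv']; norm_num)]
        rw [hcomm v ⟨_, mem_subgroupOf.2 (H.J_le_S (C.ev_J v)), rfl⟩ hv81] at hmv
        exact Bool.noConfusion hmv
      subst hX1
      obtain ⟨v, hv, rfl⟩ := C.ev_surj (C.act_mI_mem hgA)
      have hb := congrArg Subtype.val (mem_centralizer_iff.1 hyc _ hbS)
      simp only [coe_mul] at hb
      rw [← hgy] at hb
      obtain ⟨k, hk, j, hj, rfl⟩ := stX_center mB0 stX_spec.2.2.2.2.1 stX_spec.2.2.2.2.2.1 v hv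
        ((C.commute_iff C.bx_Nx C.bx_act hv).1 hb)
      refine ⟨(k : ℤ), Subtype.ext ?_⟩
      show C.zx ^ (k : ℤ) = y
      rw [zpow_natCast]
      rw [← hgy, zx, jx, ← map_pow, QuotientGroup.mk'_apply, QuotientGroup.mk'_apply, QuotientGroup.eq, mem_subgroupOf]
      simp only [coe_mul, coe_inv, coe_pow, C.ev_add, C.ev_smul, inv_mul_cancel_left]
      rw [← C.e1_ev]
      exact pow_mem (mem_zpowers _) j
    · exact Subtype.ext (mem_centralizer_singleton_iff.1 s.2)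
  have hz3 : Nat.card (zpowers (⟨_, hzC⟩ : C.Cx)) = 3 := by
    rw [Nat.card_zpowers, Subgroup.orderOf_mk, C.zx_order]
  refine S3376.result hcard S T J0 ⟨⟨fun a b => Subtype.ext (Subtype.ext
      (C.Jx_comm _ (mem_subgroupOf.1 a.2) _ (mem_subgroupOf.1 b.2)))⟩⟩
    (fun a ha => Subtype.ext (C.Jx_cube _ (mem_subgroupOf.1 ha)))
    (by rw [Nat.card_congr (subgroupOfEquivOfLe C.Jx_le_Cx).toEquiv, C.card_Jx]) _ hZ.symm hz3
    (fun y hy => mem_centralizer_iff.2 fun x _ => ?_) fun hST => ?_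
  · obtain ⟨i, rfl⟩ := hy
    exact ((show Commute x (⟨_, hzC⟩ : C.Cx) from Subtype.ext (mem_centralizer_singleton_iff.1 x.2)).zpow_right i).eq
  · have h54 : (⟨_, C.jx_Cx 54⟩ : C.Cx) ∈ (S : Subgroup C.Cx) := hJS (mem_subgroupOf.2 (C.jx_mem 54))
    rw [← hST] at h54
    exact htne (congrArg Subtype.val (mem_centralizer_iff.1 h54.2 tt (mem_zpowers tt)))
where
  out : ∀ X ∈ stX, mM X mT0 ∉ syT := by decide +kernel

end Sec

end Cfsg.Agent.Spor.McLThree
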