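import Cfsg.Agent.Lib.Spor.McLThree.NormModel

/-!
What is computed about the stabiliser of the line of `e₁`, coded `18`, and the cosets of that line.
-/

set_option autoImplicit false
set_option maxRecDepth 100000
set_option synthInstance.maxSize 4096

namespace Cfsg.Agent.Spor.McLThree

open Cfsg.Agent.Spor.UFourType

/-- The coset of a vector modulo `18`. -/
def cosL (v : ℕ) : List ℕ := [v, vA v 18, vA v 9]

/-- Congruence modulo `18`. -/
def modX (u v : ℕ) : Bool := (cosL v).any fun w => Nat.beq u w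

/-- The elements of the image of `S` fixing `18`. -/
def stX : List ℕ := [14408200, 16538694, 18662298]

/-- The matrices of the table stabilising the line of `18`. -/
def sX : List ℕ := gT.filter fun A => Nat.beq (ap A 18) 18 || Nat.beq (ap A 18) 9

/-- A vector orthogonal to `18` with a given value of the form. -/
def orthV (r v : ℕ) : Bool := !(Nat.beq v 0) && (Nat.beq (qB 18 v) 0 && Nat.beq (qB v v) r)

theorem stX_spec : (∀ X ∈ syT, ∀ A ∈ rotT ++ ordT, (ap (mM X A) 18 = 18 ∨ ap (mM X A) 18 = 9) →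
      (X ∈ stX ∧ (A = mI ∨ A = mT0))) ∧
    (∀ X ∈ stX, X ∈ syT ∧ ap X 18 = 18 ∧ ap (mM X mT0) 18 = 9 ∧ modX (ap (mM X mT0) 54) 54 = false) ∧
    stX.Nodup ∧ mI ∈ stX ∧ mB0 ∈ stX ∧ mB0 ≠ mI ∧ (∀ X ∈ stX, X = mI ∨ X = mB0 ∨ X = mM mB0 mB0) := by
  decide +kernel

theorem stX_center : ∀ X ∈ stX, X ≠ mI → ∀ v < 81, modX (ap X v) v = true →
    ∃ k < 3, ∃ j < 3, v = vA (vS k 4) (vS j 18) := by
  decide +kernel

theorem stX_moves : ∀ X ∈ stX, X ≠ mI → ∃ v ∈ [7, 54], modX (ap X v) v = false := by decide +kernel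

theorem coset_line : ∀ v < 81, modX v 0 = true → ∃ j < 3, v = vS j 18 := by decide +kernel

theorem sng_coset : ∀ j < 3, sngP (vA 4 (vS j 18)) = true → j = 0 := by decide +kernel

theorem coset_rep : ∀ v < 81, ∃ j < 3, qB 18 (vA v (vS j 18)) = 0 := by decide +kernel

theorem orth_cases : ∀ w < 81, qB 18 w = 0 → w = 0 ∨ orthV 0 w = true ∨ orthV 1 w = true ∨ orthV 2 w = true := by
  decide +kernel

theorem sng_to_z : ∀ w < 81, orthV 0 w = true → ∃ A ∈ sX, ap A 4 = w ∨ ap A (vS 2 4) = w := by decide +kernel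

theorem one_orbit : ∀ a < 81, orthV 1 a = true → ∀ b < 81, orthV 1 b = true → ∃ A ∈ sX, ap A a = b := by
  decide +kernel

/-- Twelve vectors. -/
def oneL : List ℕ := (List.range 81).filter (orthV 1)

theorem oneL_spec : oneL.length = 12 ∧ oneL.Nodup ∧ ∀ a ∈ oneL, ∀ b ∈ oneL, modX a b = true → a = b := by
  decide +kernel

theorem hyp_plane : ∀ w < 81, orthV 2 w = true → ∃ A ∈ gT, ap A 4 = vA 18 w ∧ ∃ k < 81, ap A k = 18 ∧ fC k ≠ 0 := by
  decide +kernel

theorem nonsing_to_x : ∀ B ∈ ordT, ∀ v < 81, v ≠ 0 → sngP v = false →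
    ∃ A ∈ gT, ap A v = 18 ∨ ap A v = 9 ∨ ap A (ap B v) = 18 ∨ ap A (ap B v) = 9 := by
  decide +kernel

theorem e1_facts : qB 18 4 = 0 ∧ fC 18 = 0 ∧ sngP 4 = true ∧ sngP 18 = false ∧ vS 2 18 = 9 ∧ qB 18 54 = 0 := by
  decide +kernel

end Cfsg.Agent.Spor.McLThree
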