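import Mathlib

/-!
Elements of order five of the symmetric group on nine points centralising products of three commuting three-cycles.
-/

set_option autoImplicit false
set_option maxRecDepth 100000
set_option synthInstance.maxSize 4096

namespace Cfsg.Agent.Spor.McLThree

open Equiv

/-- The three cycles. -/
def cyc (k : Fin 3) : Perm (Fin 9) :=
  if k = 0 then swap 0 1 * swap 1 2 else if k = 1 then swap 3 4 * swap 4 5 else swap 6 7 * swap 7 8

/-- A product of powers of the three cycles. -/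
def nineP (a b c : Fin 3) : Perm (Fin 9) := cyc 0 ^ (a : ℕ) * cyc 1 ^ (b : ℕ) * cyc 2 ^ (c : ℕ)

/-- The group they generate. -/
def P27 : Subgroup (Perm (Fin 9)) where
  carrier := {p | ∃ a b c : Fin 3, p = nineP a b c}
  one_mem' := ⟨0, 0, 0, by decide +kernel⟩
  mul_mem' := by
    rintro _ _ ⟨a, b, c, rfl⟩ ⟨a', b', c', rfl⟩
    revert a b c a' b' c'
    decide +kernel
  inv_mem' := by
    rintro _ ⟨a, b, c, rfl⟩
    revert a b c
    decide +kernel

theorem nineP_facts : (∀ a b c a' b' c', nineP a b c = nineP a' b' c' → a = a' ∧ b = b' ∧ c = c') ∧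
    (∀ a b c, nineP a b c ^ 3 = 1) ∧
    (∀ a b c a' b' c', nineP a b c * nineP a' b' c' = nineP a' b' c' * nineP a b c) := by
  decide +kernel

/-- The elements commuting with an element of order five, other than one. -/
def lightL : List (Fin 3 × Fin 3 × Fin 3) := [(1, 0, 0), (2, 0, 0), (0, 1, 0), (0, 2, 0), (0, 0, 1), (0, 0, 2)]

theorem heavy_facts : ∀ a b c, (a, b, c) ∉ lightL → nineP a b c ≠ 1 →
    (∀ i j : Fin 9, i.val / 3 = j.val / 3 → nineP a b c i ≠ i →
      ∃ m : Fin 3, j = (nineP a b c ^ (m : ℕ)) i) ∧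
    (Finset.univ.filter fun i : Fin 9 => nineP a b c i = i).card ≤ 3 := by
  decide +kernel

theorem five_elem : ∃ g : Perm (Fin 9), g ^ 5 = 1 ∧ g ≠ 1 ∧ g * nineP 1 0 0 = nineP 1 0 0 * g :=
  ⟨swap 3 4 * swap 4 5 * swap 5 6 * swap 6 7, by decide +kernel, by decide +kernel, by decide +kernel⟩

theorem card_P27 : Nat.card P27 = 27 := by
  let f : Fin 3 × Fin 3 × Fin 3 → P27 := fun p => ⟨nineP p.1 p.2.1 p.2.2, p.1, p.2.1, p.2.2, rfl⟩
  rw [← Nat.card_eq_of_bijective f ⟨fun p q h => by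
    obtain ⟨h1, h2, h3⟩ := nineP_facts.1 _ _ _ _ _ _ (congrArg Subtype.val h)
    exact Prod.ext h1 (Prod.ext h2 h3), fun p => by
    obtain ⟨a, b, c, hp⟩ := p.2
    exact ⟨(a, b, c), Subtype.ext hp.symm⟩⟩]
  simp

theorem not_fixed_five {g : Perm (Fin 9)} (h5 : g ^ 5 = 1) {i : Fin 9} {d : ℕ} (hd : d % 5 ≠ 0)
    (h : (g ^ d) i = i) : g i = i := by
  haveI : Fact (Nat.Prime 5) := ⟨by norm_num⟩
  rcases eq_or_ne g 1 with rfl | hg
  · rfl
  have ho := orderOf_eq_prime h5 hg
  obtain ⟨e, he⟩ : ∃ e, d * e % 5 = 1 := by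
    obtain h1 | h1 | h1 | h1 : d % 5 = 1 ∨ d % 5 = 2 ∨ d % 5 = 3 ∨ d % 5 = 4 := by omega
    exacts [⟨1, by omega⟩, ⟨3, by omega⟩, ⟨2, by omega⟩, ⟨4, by omega⟩]
  have hfix : ∀ n : ℕ, ((g ^ d) ^ n) i = i := by
    intro n
    induction n with
    | zero => simp
    | succ n ih => rw [pow_succ, Perm.mul_apply, h, ih]
  have h' := hfix e
  rwa [← pow_mul, pow_eq_pow_mod (d * e) h5, he, pow_one] at h'

/-- Only six elements commute with an element of order five. -/
theorem five_light {a b c : Fin 3} (h1 : nineP a b c ≠ 1) {g : Perm (Fin 9)} (h5 : g ^ 5 = 1) (hg : g ≠ 1)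
    (hc : g * nineP a b c = nineP a b c * g) : (a, b, c) ∈ lightL := by
  by_contra hh
  obtain ⟨hblock, hfix⟩ := heavy_facts a b c hh h1
  set p := nineP a b c
  have hpg : ∀ (k m : ℕ) (j : Fin 9), (g ^ k) ((p ^ m) j) = (p ^ m) ((g ^ k) j) := fun k m j => by
    rw [← Perm.mul_apply, ← Perm.mul_apply, ((show Commute g p from hc).pow_pow k m).eq]
  refine hg (Equiv.ext fun i => ?_)
  by_contra hi
  let o : Fin 5 → Fin 9 := fun k => (g ^ (k : ℕ)) i
  have hinj : Function.Injective o := by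
    intro k l hkl
    by_contra hne
    have hkl' : (g ^ (k : ℕ)) i = (g ^ (l : ℕ)) i := hkl
    have h' : (g ^ ((5 - (l : ℕ)) + k)) i = i := by
      rw [pow_add, Perm.mul_apply, hkl', ← Perm.mul_apply, ← pow_add, Nat.sub_add_cancel l.2.le, h5]; rfl
    refine hi (not_fixed_five h5 ?_ h')
    intro h0
    exact hne (Fin.ext (by omega))
  by_cases hpi : p i = i
  · have hsub : Finset.univ.image o ⊆ Finset.univ.filter fun j : Fin 9 => p j = j := fun j hj => by
      obtain ⟨k, -, rfl⟩ := Finset.mem_image.1 hj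
      refine Finset.mem_filter.2 ⟨Finset.mem_univ _, ?_⟩
      have := hpg k 1 i
      rw [pow_one, hpi] at this
      exact this.symm
    have := Finset.card_le_card hsub
    rw [Finset.card_image_of_injective _ hinj, Finset.card_univ, Fintype.card_fin] at this
    omega
  · obtain ⟨k, l, hne, hkl⟩ : ∃ k l : Fin 5, k ≠ l ∧
        (⟨(o k).val / 3, by omega⟩ : Fin 3) = ⟨(o l).val / 3, by omega⟩ :=
      Fintype.exists_ne_map_eq_of_card_lt (fun k => (⟨(o k).val / 3, by omega⟩ : Fin 3)) (by simp)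
    have hmv : p (o k) ≠ o k := by
      intro h
      have := hpg k 1 i
      rw [pow_one] at this
      exact hpi ((g ^ (k : ℕ)).injective (this.trans h))
    obtain ⟨m, hm⟩ := hblock (o k) (o l) (congrArg Fin.val hkl :) hmv
    set d := (5 - (k : ℕ)) + l with hd
    have hgd : (g ^ d) i = (p ^ (m : ℕ)) i := by
      show (g ^ ((5 - (k : ℕ)) + l)) i = _
      rw [pow_add, Perm.mul_apply]
      change (g ^ (5 - (k : ℕ))) (o l) = _
      rw [hm, hpg]
      show (p ^ (m : ℕ)) ((g ^ (5 - (k : ℕ))) ((g ^ (k : ℕ)) i)) = _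
      rw [← Perm.mul_apply (g ^ (5 - (k : ℕ))), ← pow_add, Nat.sub_add_cancel k.2.le, h5]; rfl
    have hit : ∀ n : ℕ, ((g ^ d) ^ n) i = ((p ^ (m : ℕ)) ^ n) i := by
      intro n
      induction n with
      | zero => rfl
      | succ n ih =>
        rw [pow_succ', Perm.mul_apply, ih, ← pow_mul p, hpg, hgd, ← Perm.mul_apply, ← pow_add, ← pow_mul,
          Nat.mul_succ]
    have h3 : (g ^ (d * 3)) i = i := by
      rw [pow_mul, hit 3, ← pow_mul, mul_comm, pow_mul, nineP_facts.2.1 a b c, one_pow]; rfl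
    refine hi (not_fixed_five h5 ?_ h3)
    intro h0
    exact hne (Fin.ext (by omega))

end Cfsg.Agent.Spor.McLThree
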