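import Cfsg.Agent.Lib.Spor.McLThree.CentIso
import Cfsg.Agent.Lib.Spor.McLThree.NinePoints
import Cfsg.Agent.S3343

/-!
The normalizer of the line of a nonsingular element of `J` normalises `J`.
-/

set_option autoImplicit false
set_option maxRecDepth 100000
set_option synthInstance.maxSize 4096
set_option linter.unusedSectionVars false

namespace Cfsg.Agent.Spor.McLThree

open Subgroup Cfsg.Agent.Spor.UFourType

universe u

variable {G : Type u} [Group G] [Finite G]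

namespace Sec

variable {H : Hyp G} (C : Sec H)

include C in
theorem sig_Yx (K : Subgroup C.Yx) (h3 : (Nat.card K).Coprime 3)
    (hJ : ∀ j ∈ C.Jx, K.map (MulAut.conj j).toMonoidHom = K) : K = ⊥ := by
  haveI : Fact (Nat.Prime 3) := ⟨Nat.prime_three⟩
  set D : Subgroup G := (K.comap C.px).map C.Nx.subtype ⊓ centralizer ({C.e1} : Set G) with hD
  set N : Subgroup D := (zpowers C.e1).subgroupOf D with hN
  have hxD : zpowers C.e1 ≤ D := by
    refine zpowers_le.2 ⟨⟨⟨C.e1, C.J_le_Nx C.e1_JQ.1⟩, ?_, rfl⟩, mem_centralizer_singleton_iff.2 rfl⟩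
    show C.px _ ∈ K
    rw [show C.px ⟨C.e1, C.J_le_Nx C.e1_JQ.1⟩ = 1 from (QuotientGroup.eq_one_iff _).2 (mem_subgroupOf.2 (mem_zpowers _))]
    exact one_mem _
  have hcen : ∀ n ∈ N, ∀ d : D, d * n = n * d := fun n hn d => by
    obtain ⟨i, hi⟩ := mem_subgroupOf.1 hn
    refine Subtype.ext ?_
    have h := (show Commute (d : G) C.e1 from mem_centralizer_singleton_iff.1 d.2.2).zpow_right i
    rw [show C.e1 ^ i = (n : G) from hi] at h
    exact h.eq
  haveI : N.Normal := ⟨fun n hn d => by rwa [hcen n hn d, mul_inv_cancel_right]⟩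
  have hN3 : Nat.card N = 3 := by
    rw [Nat.card_congr (subgroupOfEquivOfLe hxD).toEquiv, Nat.card_zpowers]
    exact orderOf_eq_prime C.bas.p3 fun h => absurd
      (C.ev_eq_one (v := 18) (by norm_num) (C.ev_basis.2.2.1.trans h)) (by norm_num)
  have hidx : N.index ∣ Nat.card K := by
    have hDle : D ≤ C.Nx := fun d hd => by
      obtain ⟨⟨y, hy⟩, -, rfl⟩ := hd.1
      exact hy
    let f : D →* C.Yx := C.px.comp (inclusion hDle)
    have hker : f.ker = N := by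
      ext d
      exact (MonoidHom.mem_ker.trans (QuotientGroup.eq_one_iff _)).trans mem_subgroupOf
    rw [← hker, index_ker]
    refine card_dvd_of_le ?_
    rintro _ ⟨d, rfl⟩
    obtain ⟨⟨y, hy⟩, hyK, hyd⟩ := d.2.1
    have : inclusion hDle d = (⟨y, hy⟩ : C.Nx) := Subtype.ext hyd.symm
    show C.px (inclusion hDle d) ∈ K
    rw [this]
    exact hyK
  have hcop : (Nat.card N).Coprime N.index := by
    rw [hN3]; exact (h3.symm.coprime_dvd_right hidx)
  obtain ⟨W, hW⟩ := exists_right_complement'_of_coprime hcop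
  have hWn : Nat.card W = N.index := by
    have := hW.card_mul
    rw [← N.card_mul_index] at this
    exact Nat.eq_of_mul_eq_mul_left Nat.card_pos this
  set m := Nat.card W
  have hsplit : ∀ d : D, d ^ m = 1 → d ∈ W := by
    intro d hd
    obtain ⟨⟨n, w⟩, hnw⟩ := hW.2 d
    have hc : Commute (n : D) w := (hcen n n.2 w).symm
    have hw : (w : D) ^ m = 1 := by
      have := pow_card_eq_one' (x := w)
      exact congrArg Subtype.val this
    rw [← hnw, hc.mul_pow, hw, mul_one] at hd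
    have h1 : orderOf (n : D) ∣ Nat.card N := Subgroup.orderOf_dvd_natCard _ n.2
    have h2 : orderOf (n : D) ∣ N.index := hWn ▸ orderOf_dvd_of_pow_eq_one hd
    have h0 : (n : D) = 1 := orderOf_eq_one_iff.1 (Nat.eq_one_of_dvd_coprimes hcop h1 h2)
    rw [← hnw]
    show (n : D) * w ∈ W
    rw [h0, one_mul]
    exact w.2
  have hWbot : W.map D.subtype = ⊥ := by
    refine C.sig ?_ ?_
    · rw [card_map_of_injective D.subtype_injective]
      show m.Coprime 3
      rw [hWn]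
      exact h3.coprime_dvd_left hidx
    · rintro j hj _ ⟨w, hw, rfl⟩
      have hwm : w ^ m = 1 := congrArg Subtype.val (pow_card_eq_one' (x := (⟨w, hw⟩ : W)))
      obtain ⟨⟨y, hy⟩, hyK, hyd⟩ := w.2.1
      have hjK : j * (w : G) * j⁻¹ ∈ D := by
        refine ⟨⟨⟨_, mul_mem (mul_mem (C.J_le_Nx hj) hy) (inv_mem (C.J_le_Nx hj))⟩, ?_,
          by rw [← hyd]; rfl⟩, ?_⟩
        · show C.px (⟨j, C.J_le_Nx hj⟩ * ⟨y, hy⟩ * ⟨j, C.J_le_Nx hj⟩⁻¹) ∈ K
          rw [map_mul, map_mul, map_inv, ← hJ _ ⟨⟨j, C.J_le_Nx hj⟩, mem_subgroupOf.2 hj, rfl⟩]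
          exact ⟨_, hyK, rfl⟩
        · refine mem_centralizer_singleton_iff.2 ?_
          have hjx : Commute j C.e1 := H.J_comm j hj _ C.e1_JQ.1
          exact ((hjx.mul_left (mem_centralizer_singleton_iff.1 w.2.2)).mul_left hjx.inv_left).eq
      refine ⟨⟨_, hjK⟩, hsplit _ (Subtype.ext ?_), rfl⟩
      show (j * (w : G) * j⁻¹) ^ m = 1
      rw [conj_pow, show (w : G) ^ m = 1 from congrArg Subtype.val hwm]
      group
  have hDN : ∀ d : D, d ∈ N := fun d => by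
    obtain ⟨⟨n, w⟩, hnw⟩ := hW.2 d
    have hw1 : (w : D) = 1 := Subtype.ext (mem_bot.1 (hWbot ▸ mem_map_of_mem D.subtype w.2))
    rw [← hnw]
    simp only [hw1, mul_one]
    exact n.2
  -- elements inverting `e₁`
  have hcent : ∀ g (hg : g ∈ C.Nx), C.px ⟨g, hg⟩ ∈ K → g * C.e1 = C.e1 * g → C.px ⟨g, hg⟩ = 1 := fun g hg hK hc =>
    (QuotientGroup.eq_one_iff _).2 (mem_subgroupOf.2
      (mem_subgroupOf.1 (hDN ⟨g, ⟨⟨g, hg⟩, hK, rfl⟩, mem_centralizer_singleton_iff.2 hc⟩)))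
  refine (Subgroup.eq_bot_iff_forall _).2 fun k hk => by_contra fun hk1 => ?_
  have hinv : ∀ k' ∈ K, k' ≠ 1 → ∃ g, ∃ hg : g ∈ C.Nx, C.px ⟨g, hg⟩ = k' ∧ g * C.e1 * g⁻¹ = C.e1 ^ 2 := by
    intro k' hk' hne
    obtain ⟨⟨g, hg⟩, rfl⟩ := QuotientGroup.mk'_surjective C.Kx k'
    refine ⟨g, hg, rfl, ?_⟩
    obtain ⟨i, hi⟩ := C.Nx_conj hg
    have hi' : g * C.e1 * g⁻¹ = C.e1 ^ (i % 3).toNat := by
      rw [← zpow_natCast, Int.toNat_of_nonneg (Int.emod_nonneg i (by norm_num)), ← hi]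
      show C.e1 ^ i = _
      conv_lhs => rw [← Int.emod_add_mul_ediv i 3, zpow_add, zpow_mul,
        show C.e1 ^ (3 : ℤ) = 1 by exact_mod_cast C.bas.p3, one_zpow, mul_one]
    have hlt : (i % 3).toNat < 3 := by
      have := Int.emod_lt_of_pos i (show (0 : ℤ) < 3 by norm_num)
      omega
    generalize (i % 3).toNat = e at hlt hi'
    interval_cases e
    · exfalso
      rw [pow_zero] at hi'
      exact absurd (C.ev_eq_one (v := 18) (by norm_num) (C.ev_basis.2.2.1.trans (conj_eq_one_iff.1 hi'))) (by norm_num)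
    · exfalso
      rw [pow_one] at hi'
      exact hne (hcent g hg hk' (mul_inv_eq_iff_eq_mul.1 hi'))
    · exact hi'
  have hprod : ∀ a ∈ K, ∀ b ∈ K, a ≠ 1 → b ≠ 1 → a * b = 1 := by
    intro a ha b hb ha1 hb1
    obtain ⟨g, hg, rfl, hga⟩ := hinv a ha ha1
    obtain ⟨g', hg', rfl, hgb⟩ := hinv b hb hb1
    rw [← map_mul]
    refine hcent (g * g') (mul_mem hg hg') ?_ (mul_inv_eq_iff_eq_mul.1 ?_)
    · rw [show (⟨g * g', mul_mem hg hg'⟩ : C.Nx) = ⟨g, hg⟩ * ⟨g', hg'⟩ from rfl, map_mul]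
      exact mul_mem ha hb
    · rw [show g * g' * C.e1 * (g * g')⁻¹ = g * (g' * C.e1 * g'⁻¹) * g⁻¹ by group, hgb, ← conj_pow, hga, ← pow_mul,
        show 2 * 2 = 3 + 1 from rfl, pow_succ, C.bas.p3, one_mul]
  have hfix : ∀ v < 81, k * C.jx v = C.jx v * k := by
    intro v hv
    have h1 : C.jx v * k * (C.jx v)⁻¹ ∈ K := hJ _ (C.jx_mem v) ▸ ⟨k, hk, rfl⟩
    have h2 : C.jx v * k * (C.jx v)⁻¹ ≠ 1 := fun h => hk1 (conj_eq_one_iff.1 h)
    have e1 := hprod _ h1 k hk h2 hk1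
    rw [← hprod k hk k hk hk1 hk1] at e1
    exact (mul_inv_eq_iff_eq_mul.1 (mul_right_cancel e1)).symm
  obtain ⟨⟨g, hg⟩, rfl⟩ := QuotientGroup.mk'_surjective C.Kx k
  obtain ⟨-, -, X, hX, A, hA, hgA⟩ := C.lift_Cx hg (mem_centralizer_singleton_iff.2 (hfix 4 (by norm_num)))
  have hI : mM X A = mI := triv X hX A (by rcases hA with rfl | rfl <;> simp) fun v hv =>
    (C.commute_iff hg hgA hv).1 (hfix v hv)
  rw [hI] at hgA
  have hjx : C.px ⟨g, hg⟩ ∈ C.Jx := ⟨_, mem_subgroupOf.2 (C.act_mI_mem hgA), rfl⟩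
  exact hk1 (orderOf_eq_one_iff.1 (Nat.eq_one_of_dvd_coprimes h3 (Subgroup.orderOf_dvd_natCard _ hk)
    (orderOf_dvd_of_pow_eq_one (C.Jx_cube _ hjx))))
where
  triv : ∀ X ∈ stX, ∀ A ∈ [mI, mT0], (∀ v < 81, modX (ap (mM X A) v) v = true) → mM X A = mI := by decide +kernel

/-- A power of an element that commutes with `e₁`. -/
theorem five_lift {y : C.Yx} (h5 : y ^ 5 = 1) : ∃ h, ∃ hh : h ∈ C.Nx,
    C.px ⟨h, hh⟩ = y ∧ h ^ 5 = 1 ∧ h * C.e1 = C.e1 * h := by
  obtain ⟨⟨g, hg⟩, rfl⟩ := QuotientGroup.mk'_surjective C.Kx y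
  rw [← map_pow] at h5
  have h15 : g ^ 15 = 1 := by
    obtain ⟨i, hi⟩ := mem_subgroupOf.1 ((QuotientGroup.eq_one_iff _).1 h5)
    rw [show (15 : ℕ) = 5 * 3 from rfl, pow_mul]
    rw [show g ^ 5 = C.e1 ^ i from hi.symm, ← zpow_natCast, ← zpow_mul, mul_comm, zpow_mul, zpow_natCast, C.bas.p3,
      one_zpow]
  refine ⟨g ^ 6, pow_mem hg 6, ?_, ?_, ?_⟩
  · rw [show (⟨g ^ 6, pow_mem hg 6⟩ : C.Nx) = ⟨g, hg⟩ ^ 5 * ⟨g, hg⟩ from Subtype.ext (by simp [← pow_succ]),
      map_mul, h5, one_mul]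
  · rw [← pow_mul, show 6 * 5 = 15 * 2 from rfl, pow_mul, h15, one_pow]
  · have hsq : ∀ a ∈ C.Nx, a ^ 2 * C.e1 = C.e1 * a ^ 2 := by
      intro a ha
      obtain ⟨i, hi⟩ := C.Nx_conj ha
      have hi' : a * C.e1 * a⁻¹ = C.e1 ^ i := hi.symm
      have hne : i % 3 ≠ 0 := fun h0 => by
        have : a * C.e1 * a⁻¹ = 1 := by
          rw [hi', ← Int.emod_add_mul_ediv i 3, h0, zero_add, zpow_mul,
            show C.e1 ^ (3 : ℤ) = 1 by exact_mod_cast C.bas.p3, one_zpow]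
        exact absurd (C.ev_eq_one (v := 18) (by norm_num) (C.ev_basis.2.2.1.trans (conj_eq_one_iff.1 this))) (by norm_num)
      refine mul_inv_eq_iff_eq_mul.1 ?_
      rw [show a ^ 2 * C.e1 * (a ^ 2)⁻¹ = a * (a * C.e1 * a⁻¹) * a⁻¹ by rw [sq]; group, hi', ← conj_zpow, hi',
        ← zpow_mul]
      have h3 : (i * i) % 3 = 1 := by
        rw [Int.mul_emod]
        rcases (show i % 3 = 1 ∨ i % 3 = 2 by omega) with h | h <;> rw [h] <;> norm_num
      rw [← Int.emod_add_mul_ediv (i * i) 3, h3, zpow_add, zpow_mul,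
        show C.e1 ^ (3 : ℤ) = 1 by exact_mod_cast C.bas.p3, one_zpow, mul_one, zpow_one]
    rw [show (6 : ℕ) = 3 * 2 from rfl, pow_mul]
    exact hsq _ (pow_mem hg 3)

include C in
/-- An element of order five fixes no hyperbolic line. -/
theorem five_hyp {h : G} (h5 : h ^ 5 = 1) {w : ℕ} (hw : w < 81) (hw2 : orthV 2 w = true)
    (hx : h * C.e1 = C.e1 * h) (hv : h * C.ev w = C.ev w * h) : h = 1 := by
  obtain ⟨A, hA, hA4, k, hk, hAk, hfk⟩ := hyp_plane w hw hw2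
  obtain ⟨σ, rfl⟩ := C.mat_surj hA
  set r := C.rep σ
  have hz : r * H.z * r⁻¹ = C.ev (vA 18 w) := by
    rw [← C.ev_basis.1, (C.nact_rep σ).2 4 (by norm_num), hA4]
  have hkr : r * C.ev k * r⁻¹ = C.e1 := by rw [(C.nact_rep σ).2 k hk, hAk, C.e1_ev]
  have hc : ∀ a b : G, h * b = b * h → r * a * r⁻¹ = b → r⁻¹ * h * r * a = a * (r⁻¹ * h * r) := by
    intro a b hb he
    subst he
    calc r⁻¹ * h * r * a = r⁻¹ * (h * (r * a * r⁻¹)) * r := by group
      _ = _ := by rw [hb]; group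
  have hgz := hc H.z _ (by
    rw [C.ev_add, ← C.e1_ev]; exact ((show Commute h C.e1 from hx).mul_right hv).eq) hz
  have hgk := hc (C.ev k) _ hx hkr
  suffices r⁻¹ * h * r = 1 by
    calc h = r * (r⁻¹ * h * r) * r⁻¹ := by group
      _ = 1 := by rw [this]; group
  generalize hg : r⁻¹ * h * r = g at hgz hgk ⊢
  have hg5 : g ^ 5 = 1 := by
    rw [← hg, show r⁻¹ * h * r = r⁻¹ * h * r⁻¹⁻¹ by rw [inv_inv], conj_pow, h5]; group
  have hgL : g ∈ H.L := by
    have hg2z : g ^ 2 * H.z = H.z * g ^ 2 := ((show Commute g H.z from hgz).pow_left 2).eq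
    rcases C.cent_cases hgz with h1 | ⟨⟨d, hdN, hdz, hdA⟩, h1⟩
    · exact h1
    have hd1 := h1 d hdN hdz hdA
    rcases C.cent_cases hg2z with h2 | ⟨-, h2⟩
    · have := pow_mem h2 3
      rwa [← pow_mul, show 2 * 3 = 5 + 1 from rfl, pow_succ, hg5, one_mul] at this
    · have := mul_mem (inv_mem hd1) (h2 d hdN hdz hdA)
      rwa [show (d * g)⁻¹ * (d * g ^ 2) = g by rw [sq]; group] at this
  have hkL := H.S_le_L (H.J_le_S (C.ev_J k))
  have hcomm : H.ψ ⟨g, hgL⟩ * C.uf ^ fC k = C.uf ^ fC k * H.ψ ⟨g, hgL⟩ := by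
    rw [← C.fC_psi hk, ← H.psi_mul hgL hkL, ← H.psi_mul hkL hgL]
    exact congrArg H.ψ (Subtype.ext hgk)
  obtain ⟨hu3, hu1⟩ := C.uf_spec
  have hu3' : C.uf ^ 3 = 1 := by rw [pow_succ, sq]; exact hu3
  have hcu : H.ψ ⟨g, hgL⟩ * C.uf = C.uf * H.ψ ⟨g, hgL⟩ := by
    have h := (show Commute (H.ψ ⟨g, hgL⟩) (C.uf ^ fC k) from hcomm).pow_right (fC k)
    rw [← pow_mul, pow_eq_pow_mod (fC k * fC k) hu3', show fC k * fC k % 3 = 1 by
      have : fC k < 3 := Nat.mod_lt _ (by norm_num)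
      generalize fC k = c at this hfk
      interval_cases c <;> simp_all, pow_one] at h
    exact h.eq
  have h6 : H.ψ ⟨g, hgL⟩ ^ 6 = 1 := by
    have h := sl5_cent _ hu3 hu1 _ hcu
    have hm : ∀ i : ℕ, (C.uf ^ i) ^ 6 = 1 := fun i => by
      rw [← pow_mul, mul_comm, show (6 : ℕ) = 3 * 2 from rfl, mul_assoc, pow_mul, hu3', one_pow]
    rcases h with (h | h | h) | (h | h | h)
    · rw [h, one_pow]
    · rw [h]; simpa using hm 1
    · rw [h]; simpa [sq] using hm 2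
    all_goals
      have hn : H.ψ ⟨g, hgL⟩ = -1 * (-1 * H.ψ ⟨g, hgL⟩) := by rw [← mul_assoc, sl5_neg.1, one_mul]
      rw [hn, h, (show Commute (-1 : SL5) _ from (sl5_neg.2.2 _).symm).mul_pow, show (6 : ℕ) = 2 * 3 from rfl,
        pow_mul (-1 : SL5), sq, sl5_neg.1, one_pow, one_mul]
    · rw [one_pow]
    · simpa using hm 1
    · simpa [sq] using hm 2
  have hQ : g ^ 6 ∈ H.Q := (H.ψ_ker ⟨g ^ 6, pow_mem hgL 6⟩).1 (by rw [H.psi_pow hgL, h6])
  rw [pow_succ, hg5, one_mul] at hQ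
  exact orderOf_eq_one_iff.1 (Nat.eq_one_of_dvd_coprimes (by norm_num : Nat.Coprime 5 3)
    (orderOf_dvd_of_pow_eq_one hg5) (orderOf_dvd_of_pow_eq_one (H.Q_cube g hQ)))

include C in
theorem not_nine (e : C.Yx ≃* Equiv.Perm (Fin 9)) : False := by
  classical
  haveI : Fact (Nat.Prime 3) := ⟨Nat.prime_three⟩
  haveI : Fact (Nat.Prime 5) := ⟨by norm_num⟩
  set A0 : Subgroup C.Yx := P27.comap e.toMonoidHom with hA0
  have hY : Nat.card C.Yx = Nat.factorial 9 := by rw [Nat.card_congr e.toEquiv, Nat.card_perm, Nat.card_fin]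
  have hf : 3 ^ (Nat.card C.Yx).factorization 3 = 81 := by
    have e4 : (Nat.factorial 9).factorization 3 = 4 := by
      rw [show Nat.factorial 9 = 3 ^ 4 * 4480 by decide +kernel, Nat.factorization_mul (by norm_num) (by norm_num),
        Nat.prime_three.factorization_pow]
      simp [Nat.factorization_eq_zero_of_not_dvd (show ¬ 3 ∣ 4480 by norm_num)]
    rw [hY, e4]; norm_num
  have hJ3 : IsPGroup 3 C.Jx := IsPGroup.of_card (n := 3) (by rw [C.card_Jx]; norm_num)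
  obtain ⟨P, hP⟩ : ∃ P : Sylow 3 C.Yx, C.Jx ≤ P ∧ (P : Subgroup C.Yx) ≤ C.Cx := by
    obtain ⟨P0, hP0⟩ := (hJ3.comap_of_injective C.Cx.subtype C.Cx.subtype_injective).exists_le_sylow
    have hf' : 3 ^ (Nat.card C.Cx).factorization 3 = 81 := by
      rw [C.card_Cx, show (162 : ℕ) = 3 ^ 4 * 2 by norm_num, Nat.factorization_mul (by norm_num) (by norm_num),
        Finsupp.add_apply, Nat.prime_three.factorization_pow,
        Nat.factorization_eq_zero_of_not_dvd (show ¬ 3 ∣ 2 by norm_num)]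
      simp
    refine ⟨Sylow.ofCard ((P0 : Subgroup C.Cx).map C.Cx.subtype) ?_, fun y hy => ?_, map_subtype_le _⟩
    · rw [card_map_of_injective C.Cx.subtype_injective, P0.card_eq_multiplicity, hf', hf]
    · exact ⟨⟨y, C.Jx_le_Cx hy⟩, hP0 hy, rfl⟩
  have hA27 : Nat.card A0 = 27 := by
    rw [← card_P27]
    exact Nat.card_congr
      { toFun := fun a => ⟨e a.1, a.2⟩
        invFun := fun p => ⟨e.symm p.1, show e (e.symm p.1) ∈ P27 by rw [e.apply_symm_apply]; exact p.2⟩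
        left_inv := fun a => Subtype.ext (e.symm_apply_apply _)
        right_inv := fun p => Subtype.ext (e.apply_symm_apply _) }
  obtain ⟨P', hP'⟩ := (IsPGroup.of_card (n := 3) (by rw [hA27]; norm_num) : IsPGroup 3 A0).exists_le_sylow
  obtain ⟨c, hc⟩ := MulAction.exists_smul_eq C.Yx P' P
  set A : Subgroup C.Yx := A0.map (MulAut.conj c).toMonoidHom with hA
  have hAP : A ≤ P := by
    rw [← hc, Sylow.coe_subgroup_smul]
    exact map_mono hP'
  have hAc : ∀ a ∈ A, ∀ b ∈ A, a * b = b * a := by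
    rintro _ ⟨a, ha, rfl⟩ _ ⟨b, hb, rfl⟩
    rw [← map_mul, ← map_mul]
    refine congrArg _ (e.injective ?_)
    obtain ⟨a1, a2, a3, hae⟩ := (ha : e a ∈ P27)
    obtain ⟨b1, b2, b3, hbe⟩ := (hb : e b ∈ P27)
    change e a = _ at hae
    change e b = _ at hbe
    rw [map_mul, map_mul, hae, hbe, nineP_facts.2.2]
  have hA27' : Nat.card A = 27 := by rw [hA, card_map_of_injective (MulAut.conj c).injective, hA27]
  have hAcube : ∀ a ∈ A, a ^ 3 = 1 := by
    rintro _ ⟨a, ha, rfl⟩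
    obtain ⟨a1, a2, a3, hae⟩ := (ha : e a ∈ P27)
    change e a = _ at hae
    rw [← map_pow, show a ^ 3 = 1 from e.injective (by rw [map_pow, hae, nineP_facts.2.1, map_one]), map_one]
  have hAJ : A = C.Jx := by
    refine eq_of_le_of_card_ge (fun y hy => by_contra fun hyJ => ?_) (by rw [hA27', C.card_Jx])
    obtain ⟨⟨g, hg⟩, rfl⟩ := QuotientGroup.mk'_surjective C.Kx y
    obtain ⟨hgN, -, X, hX, B, hB, hgA⟩ := C.lift_Cx hg (hP.2 (hAP hy))
    have hg3 : mM (mM (mM X B) (mM X B)) (mM X B) = mI := by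
      have h3 := hAcube _ hy
      rw [← map_pow] at h3
      have hj : g ^ 3 ∈ H.J := C.zx_J (mem_subgroupOf.1 ((QuotientGroup.eq_one_iff _).1 h3))
      have := C.nact_mul (C.nact_mul hgA hgA) hgA
      rw [← sq, ← pow_succ] at this
      exact C.nact_unique this (C.nact_J hj)
    obtain ⟨rfl, hne⟩ : B = mI ∧ X ≠ mI := by
      refine ⟨noT X hX B (by rcases hB with rfl | rfl <;> simp) hg3, fun hXI => ?_⟩
      subst hXI
      rw [noT mI stX_spec.2.2.2.1 B (by rcases hB with rfl | rfl <;> simp) hg3, (mM_mI mI (stX_spec.2.1 _ hX).1).1] at hgA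
      exact hyJ ⟨_, mem_subgroupOf.2 (C.act_mI_mem hgA), rfl⟩
    rw [(mM_mI X (stX_spec.2.1 X hX).1).1] at hgA
    have hI : Nat.card ↥(A ⊓ C.Jx) ≤ 3 := by
      have hsub : ∀ a ∈ A ⊓ C.Jx, ∃ k : Fin 3, a = C.zx ^ (k : ℕ) := by
        rintro a ⟨haA, haJ⟩
        obtain ⟨k, hk, rfl⟩ := C.mem_Jx.1 haJ
        have hm := (C.commute_iff hg hgA (repV_spec.1 k hk)).1 (hAc _ hy _ haA)
        obtain ⟨i, hi, j, hj, he⟩ := stX_center X hX hne _ (repV_spec.1 k hk) hm
        refine ⟨⟨i, hi⟩, ?_⟩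
        rw [zx, jx, jx, ← map_pow, eq_comm, QuotientGroup.mk'_apply, QuotientGroup.mk'_apply, QuotientGroup.eq,
          mem_subgroupOf]
        simp only [coe_mul, coe_inv, coe_pow, he, C.ev_add, C.ev_smul, inv_mul_cancel_left]
        rw [← C.e1_ev]
        exact pow_mem (mem_zpowers _) j
      choose f hf' using fun a : ↥(A ⊓ C.Jx) => hsub a a.2
      exact (Nat.card_le_card_of_injective f fun a b h => Subtype.ext (by rw [hf' a, hf' b, h])).trans (by simp)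
    have hn : A ≤ normalizer (C.Jx : Set C.Yx) := fun a ha => Subgroup.mem_normalizer_fintype fun b hb => by
      obtain ⟨⟨a', ha'⟩, rfl⟩ := QuotientGroup.mk'_surjective C.Kx a
      exact C.norm_Jx ha' (C.lift_Cx ha' (hP.2 (hAP ha))).1 hb
    have hprod := Grp.card_sup_mul_card_inf hn
    have hle : Nat.card ↥(A ⊔ C.Jx) ≤ 81 := by
      rw [← hf, ← P.card_eq_multiplicity]
      exact card_le_of_le (sup_le hAP hP.1)
    rw [hA27', C.card_Jx] at hprod
    nlinarith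
  -- the transported isomorphism
  set ee : C.Yx ≃* Equiv.Perm (Fin 9) := (MulAut.conj c⁻¹).trans e with hee
  have hmem : ∀ y ∈ C.Jx, ee y ∈ P27 := by
    intro y hy
    rw [← hAJ] at hy
    obtain ⟨a, ha, rfl⟩ := hy
    show e (MulAut.conj c⁻¹ (MulAut.conj c a)) ∈ P27
    rw [map_inv, MulAut.inv_apply_self]
    exact ha
  set Five : C.Yx → Prop := fun y => ∃ s : C.Yx, s ^ 5 = 1 ∧ s ≠ 1 ∧ s * y = y * s
  have hlight : ∀ y ∈ C.Jx, y ≠ 1 → Five y → ∃ l : Fin 6, ee y = nineP (lightL.getD l (0, 0, 0)).1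
      (lightL.getD l (0, 0, 0)).2.1 (lightL.getD l (0, 0, 0)).2.2 := by
    rintro y hy hy1 ⟨s, hs5, hs1, hsy⟩
    obtain ⟨a, b, d, habd⟩ := hmem y hy
    have h := five_light (a := a) (b := b) (c := d) (g := ee s)
      (fun h => hy1 (ee.injective (habd.trans (h.trans (map_one ee).symm))))
      (by rw [← map_pow, hs5, map_one]) (fun h => hs1 (ee.injective (h.trans (map_one ee).symm)))
      (by rw [← habd, ← map_mul, ← map_mul, hsy])
    obtain ⟨l, hl, hle⟩ := List.mem_iff_getElem.1 h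
    exact ⟨⟨l, hl⟩, by rw [List.getD_eq_getElem _ _ hl, hle]; exact habd⟩
  obtain ⟨y0, hy0, hy01, hy0F⟩ : ∃ y ∈ C.Jx, y ≠ 1 ∧ Five y := by
    obtain ⟨g, hg5, hg1, hgc⟩ := five_elem
    refine ⟨ee.symm (nineP 1 0 0), ?_, ?_, ee.symm g, ?_, ?_, ?_⟩
    · rw [← hAJ]
      refine ⟨e.symm (nineP 1 0 0), ⟨1, 0, 0, e.apply_symm_apply _⟩, ?_⟩
      show MulAut.conj c (e.symm (nineP 1 0 0)) = (MulAut.conj c⁻¹).symm (e.symm (nineP 1 0 0))
      rw [map_inv]; rfl
    · intro h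
      rw [ee.symm_apply_eq, map_one] at h
      exact absurd h (by decide +kernel)
    · rw [← map_pow, hg5, map_one]
    · intro h
      rw [ee.symm_apply_eq, map_one] at h
      exact hg1 h
    · rw [← map_mul, ← map_mul, hgc]
  obtain ⟨k, hk, rfl⟩ := C.mem_Jx.1 hy0
  obtain ⟨j, hj, hjo⟩ := coset_rep _ (repV_spec.1 k hk)
  set w := vA (repV k) (vS j 18)
  have hww : C.jx (repV k) = C.jx w := by
    rw [eq_comm, C.jx_eq (repV_spec.1 k hk) (vA_lt _ _)]
    exact cosOK _ (repV_spec.1 k hk) j hj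
  rw [hww] at hy0 hy01 hy0F
  have move : ∀ A ∈ sX, ∀ v < 81, Five (C.jx v) → Five (C.jx (ap A v)) := by
    intro A hA v hv ⟨s, hs5, hs1, hsv⟩
    obtain ⟨hAg, hA18⟩ := List.mem_filter.1 hA
    obtain ⟨σ, rfl⟩ := C.mat_surj hAg
    have hr : C.rep σ ∈ C.Nx := C.mem_Nx (by
      rw [C.e1_ev, (C.nact_rep σ).2 18 (by norm_num)]
      simp only [Bool.or_eq_true] at hA18
      rcases hA18 with h | h <;> rw [Nat.eq_of_beq_eq_true h]
      · exact mem_zpowers _
      · rw [← e1_facts.2.2.2.2.1, C.ev_smul]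
        exact pow_mem (mem_zpowers _) 2)
    set r := C.px ⟨C.rep σ, hr⟩
    refine ⟨r * s * r⁻¹, by rw [conj_pow, hs5]; group, fun h => hs1 (conj_eq_one_iff.1 h), ?_⟩
    rw [← C.jx_conj hr (C.nact_rep σ) hv]
    change r * s * r⁻¹ * (r * C.jx v * r⁻¹) = r * C.jx v * r⁻¹ * (r * s * r⁻¹)
    calc r * s * r⁻¹ * (r * C.jx v * r⁻¹) = r * (s * C.jx v) * r⁻¹ := by group
      _ = _ := by rw [hsv]; group
  have hw81 : w < 81 := vA_lt _ _
  rcases orth_cases w hw81 hjo with h | h | h | h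
  · exact hy01 (by rw [h]; exact congrArg C.px (Subtype.ext C.bas.ev_zero))
  · -- singular
    obtain ⟨A, hA, hA'⟩ := sng_to_z w hw81 h
    obtain ⟨A', hA'mem, hAA⟩ := inv_sX A hA
    obtain ⟨v, hv, hv4⟩ : ∃ v, (v = 4 ∨ v = vS 2 4) ∧ ap A v = w := by
      rcases hA' with h' | h'
      exacts [⟨4, Or.inl rfl, h'⟩, ⟨_, Or.inr rfl, h'⟩]
    have hv81 : v < 81 := by rcases hv with rfl | rfl <;> [norm_num; exact vS_lt _ _]
    have hback := move A' hA'mem w hw81 hy0F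
    rw [← hv4, hAA v hv81] at hback
    obtain ⟨s, hs5, hs1, hsz⟩ := hback
    have hsC : s ∈ C.Cx := by
      refine mem_centralizer_singleton_iff.2 ?_
      rcases hv with rfl | rfl
      · exact hsz
      · have hz2 : C.jx (vS 2 4) = C.zx ^ 2 := by
          rw [zx, jx, jx, ← map_pow]
          exact congrArg C.px (Subtype.ext (C.ev_smul 2 4))
        have h2 := (show Commute s (C.jx (vS 2 4)) from hsz).pow_right 2
        rw [hz2, ← pow_mul, show 2 * 2 = 3 + 1 from rfl, pow_succ, show C.zx ^ 3 = 1 from C.Jx_cube _ (C.jx_mem 4), one_mul] at h2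
        exact h2.eq
    have := Subgroup.orderOf_dvd_natCard _ hsC
    rw [orderOf_eq_prime hs5 hs1, C.card_Cx] at this
    norm_num at this
  · -- twelve of them
    have hall : ∀ b ∈ oneL, Five (C.jx b) := fun b hb => by
      obtain ⟨hb', hb1⟩ := List.mem_filter.1 hb
      obtain ⟨A, hA, rfl⟩ := one_orbit w hw81 h b (List.mem_range.1 hb') hb1
      exact move A hA w hw81 hy0F
    have hne : ∀ b ∈ oneL, C.jx b ≠ 1 := fun b hb h1 => by
      have hb81 : b < 81 := List.mem_range.1 (List.mem_filter.1 hb).1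
      have h0 : C.jx 0 = C.jx b := by rw [h1]; exact congrArg C.px (Subtype.ext C.bas.ev_zero)
      exact one_ne_zero' b hb ((C.jx_eq hb81 (by norm_num)).1 h0)
    choose F hF using fun b : {b // b ∈ oneL} => hlight _ (C.jx_mem b.1) (hne b.1 b.2) (hall b.1 b.2)
    have hinj : Function.Injective F := fun a b hab => by
      have ha := List.mem_range.1 (List.mem_filter.1 a.2).1
      have hb := List.mem_range.1 (List.mem_filter.1 b.2).1
      exact Subtype.ext (oneL_spec.2.2 _ a.2 _ b.2 ((C.jx_eq ha hb).1 (ee.injective (by rw [hF a, hF b, hab]))))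
    have hle := Nat.card_le_card_of_injective F hinj
    rw [Nat.card_congr (Equiv.subtypeEquivRight fun b => (List.mem_toFinset (l := oneL)).symm), Nat.card_eq_finsetCard,
      List.toFinset_card_of_nodup oneL_spec.2.1, oneL_spec.1, Nat.card_fin] at hle
    omega
  · -- hyperbolic
    obtain ⟨s, hs5, hs1, hsw⟩ := hy0F
    obtain ⟨g, hg, rfl, hg5, hgx⟩ := C.five_lift hs5
    have hgw : g * C.ev w = C.ev w * g := by
      rw [jx, ← map_mul, ← map_mul, eq_comm, QuotientGroup.mk'_apply, QuotientGroup.mk'_apply, QuotientGroup.eq,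
        mem_subgroupOf] at hsw
      simp only [coe_mul, coe_inv] at hsw
      set q := (C.ev w * g)⁻¹ * (g * C.ev w) with hq
      obtain ⟨i, hi⟩ := hsw
      have hconj : g * C.ev w * g⁻¹ = C.ev w * q := by
        have hqg : Commute g q := hi ▸ (show Commute g C.e1 from hgx).zpow_right i
        calc g * C.ev w * g⁻¹ = C.ev w * (g * q * g⁻¹) := by rw [hq]; group
          _ = _ := by rw [hqg.eq, mul_inv_cancel_right]
      have hqg : Commute g q := hi ▸ (show Commute g C.e1 from hgx).zpow_right i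
      have hn : ∀ n : ℕ, g ^ n * C.ev w * (g ^ n)⁻¹ = C.ev w * q ^ n := by
        intro n
        induction n with
        | zero => simp
        | succ n ih =>
          rw [pow_succ' g, show g * g ^ n * C.ev w * (g * g ^ n)⁻¹ = g * (g ^ n * C.ev w * (g ^ n)⁻¹) * g⁻¹ by group, ih,
            show g * (C.ev w * q ^ n) * g⁻¹ = (g * C.ev w * g⁻¹) * (g * q ^ n * g⁻¹) by group, hconj,
            (hqg.pow_right n).eq, mul_inv_cancel_right, pow_succ' q, mul_assoc]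
      have h5' := hn 5
      rw [hg5] at h5'
      have hq5 : q ^ 5 = 1 := by simpa using h5'.symm
      have hq3 : q ^ 3 = 1 := by
        rw [← hi, ← zpow_natCast, ← zpow_mul, mul_comm, zpow_mul, zpow_natCast, C.bas.p3, one_zpow]
      have hq1 : q = 1 := orderOf_eq_one_iff.1 (Nat.eq_one_of_dvd_coprimes (by norm_num : Nat.Coprime 5 3)
        (orderOf_dvd_of_pow_eq_one hq5) (orderOf_dvd_of_pow_eq_one hq3))
      rw [hq, inv_mul_eq_one] at hq1
      exact hq1.symm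
    have := C.five_hyp hg5 hw81 h hgx hgw
    subst this
    exact hs1 (map_one C.px)
where
  noT : ∀ X ∈ stX, ∀ B ∈ [mI, mT0], mM (mM (mM X B) (mM X B)) (mM X B) = mI → B = mI := by decide +kernel
  cosOK : ∀ v < 81, ∀ j < 3, modX v (vA v (vS j 18)) = true := by decide +kernel
  inv_sX : ∀ A ∈ sX, ∃ B ∈ sX, ∀ v < 81, ap B (ap A v) = v := by decide +kernel
  one_ne_zero' : ∀ b ∈ oneL, ¬ modX b 0 = true := by decide +kernel

include C in
theorem Nx_norm : C.Nx ≤ normalizer (H.J : Set G) := by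
  obtain ⟨eC⟩ := C.iso_Cx
  rcases S3343.result C.zx C.zx_order eC C.Jx C.Jx_le_Cx
      ⟨⟨fun a b => Subtype.ext (C.Jx_comm _ a.2 _ b.2)⟩⟩ C.Jx_cube C.card_Jx C.sig_Yx with hn | he
  swap
  · exact (C.not_nine he.some).elim
  intro g hg
  refine Subgroup.mem_normalizer_fintype fun a ha => ?_
  obtain ⟨⟨b, hb⟩, hbJ, hbe⟩ := hn.conj_mem _ ⟨⟨a, C.J_le_Nx ha⟩, mem_subgroupOf.2 ha, rfl⟩ (C.px ⟨g, hg⟩)
  rw [← map_inv, ← map_mul, ← map_mul, QuotientGroup.mk'_apply, QuotientGroup.mk'_apply, QuotientGroup.eq,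
    mem_subgroupOf] at hbe
  simp only [coe_mul, coe_inv] at hbe
  have := mul_mem (mem_subgroupOf.1 hbJ : b ∈ H.J) (C.zx_J hbe)
  rwa [mul_inv_cancel_left] at this

include C in
/-- The normalizer of a nonsingular line of `J` normalises `J`. -/
theorem line_norm {v : ℕ} (hv : v < 81) (h0 : v ≠ 0) (hs : sngP v = false) {g : G}
    (hg : g * C.ev v * g⁻¹ ∈ zpowers (C.ev v)) : g ∈ normalizer (H.J : Set G) := by
  obtain ⟨n1, -, hn1N, -, -, B, hB, hnB⟩ := C.exists_n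
  obtain ⟨A, hA, hcase⟩ := nonsing_to_x B hB v hv h0 hs
  obtain ⟨σ, rfl⟩ := C.mat_surj hA
  have hrN := H.M_norm (C.rep_mem σ)
  obtain ⟨n, hnN, hn⟩ : ∃ n ∈ normalizer (H.J : Set G), n * C.ev v * n⁻¹ = C.ev 18 ∨ n * C.ev v * n⁻¹ = C.ev 9 := by
    rcases hcase with h | h | h | h
    · exact ⟨_, hrN, Or.inl (((C.nact_rep σ).2 v hv).trans (congrArg C.ev h))⟩
    · exact ⟨_, hrN, Or.inr (((C.nact_rep σ).2 v hv).trans (congrArg C.ev h))⟩
    all_goals
      refine ⟨_, mul_mem hrN hn1N, ?_⟩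
      have e : C.rep σ * n1 * C.ev v * (C.rep σ * n1)⁻¹ = C.ev (ap (C.mat σ) (ap B v)) := by
        rw [← (C.nact_rep σ).2 _ (ap_lt B v), ← hnB.2 v hv]; group
      rw [e, h]
    · exact Or.inl rfl
    · exact Or.inr rfl
  have hz : n * C.ev v * n⁻¹ ∈ zpowers C.e1 ∧ C.e1 ∈ zpowers (n * C.ev v * n⁻¹) := by
    rcases hn with h | h <;> rw [h]
    · rw [← C.e1_ev]; exact ⟨mem_zpowers _, mem_zpowers _⟩
    · rw [← e1_facts.2.2.2.2.1, C.ev_smul, ← C.e1_ev]
      refine ⟨pow_mem (mem_zpowers _) 2, ?_⟩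
      have := pow_mem (mem_zpowers (C.e1 ^ 2)) 2
      rwa [← pow_mul, pow_eq_pow_mod (2 * 2) C.bas.p3, show 2 * 2 % 3 = 1 from rfl, pow_one] at this
  have hmem : n * g * n⁻¹ ∈ C.Nx := by
    refine C.mem_Nx ?_
    obtain ⟨i, hi⟩ := hz.2
    obtain ⟨k, hk⟩ := hg
    have hi' : C.e1 = (n * C.ev v * n⁻¹) ^ i := hi.symm
    rw [hi', ← conj_zpow, show n * g * n⁻¹ * (n * C.ev v * n⁻¹) * (n * g * n⁻¹)⁻¹
      = n * (g * C.ev v * g⁻¹) * n⁻¹ by group, show g * C.ev v * g⁻¹ = C.ev v ^ k from hk.symm, ← conj_zpow,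
      ← zpow_mul, mul_comm, zpow_mul, ← hi', hi']
    exact zpow_mem (mem_zpowers _) k
  have := C.Nx_norm hmem
  rw [show g = n⁻¹ * (n * g * n⁻¹) * n by group]
  exact mul_mem (mul_mem (inv_mem hnN) this) hnN

end Sec

end Cfsg.Agent.Spor.McLThree
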