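import Cfsg.Agent.Lib.Spor.McLThree.Fusion
import Cfsg.Agent.Lib.Spor.McLThree.CentModel

/-!
The normalizer of `⟨e₁⟩` modulo `⟨e₁⟩`: the centralizer of the image of `z` has order `162`.
-/

set_option autoImplicit false
set_option maxRecDepth 100000
set_option synthInstance.maxSize 4096
set_option linter.unusedSectionVars false

namespace Cfsg.Agent.Spor.McLThree

open Subgroup Cfsg.Agent.Spor.UFourType

universe u

/-- Representatives of the cosets of `18`. -/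
def repV (k : ℕ) : ℕ := k % 3 + 3 * (k / 3 % 3) + 27 * (k / 9)

theorem repV_spec : (∀ k < 27, repV k < 81) ∧ (∀ k < 27, ∀ l < 27, modX (repV k) (repV l) = true → k = l) ∧
    (∀ v < 81, ∃ k < 27, modX v (repV k) = true) ∧
    (∀ i < 3, ∀ e < 2, ∀ i' < 3, ∀ e' < 2,
      mM (List.getD [mI, mB0, mM mB0 mB0] i mI) (List.getD [mI, mT0] e mI) =
        mM (List.getD [mI, mB0, mM mB0 mB0] i' mI) (List.getD [mI, mT0] e' mI) → i = i' ∧ e = e') ∧
    (∀ i < 3, List.getD [mI, mB0, mM mB0 mB0] i mI ∈ stX) ∧ ap mI 18 = 18 ∧ ap mB0 18 = 18 ∧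
    ap mT0 18 = 9 ∧ ap mB0 4 = 4 ∧ ap mT0 4 = 4 := by
  decide +kernel

theorem mM_mI : ∀ X ∈ syT, mM X mI = X ∧ mM mI X = X := by decide +kernel

variable {G : Type u} [Group G] [Finite G]

namespace Sec

variable {H : Hyp G} (C : Sec H)

/-- The normalizer of `⟨e₁⟩`. -/
noncomputable abbrev Nx : Subgroup G := normalizer (zpowers C.e1 : Set G)

/-- The subgroup `⟨e₁⟩` of its normalizer. -/
noncomputable abbrev Kx : Subgroup C.Nx := (zpowers C.e1).subgroupOf C.Nx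

instance : (C.Kx).Normal := Subgroup.normal_in_normalizer

/-- The quotient. -/
abbrev Yx := C.Nx ⧸ C.Kx

/-- The projection. -/
noncomputable abbrev px : C.Nx →* C.Yx := QuotientGroup.mk' C.Kx

theorem mem_Nx {g : G} (h : g * C.e1 * g⁻¹ ∈ zpowers C.e1) : g ∈ C.Nx := by
  haveI : Fintype (zpowers C.e1) := Fintype.ofFinite _
  refine Subgroup.mem_normalizer_fintype fun y hy => ?_
  obtain ⟨k, rfl⟩ := hy
  show g * C.e1 ^ k * g⁻¹ ∈ _
  rw [← conj_zpow]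
  exact zpow_mem h k

theorem Nx_conj {g : G} (hg : g ∈ C.Nx) : g * C.e1 * g⁻¹ ∈ zpowers C.e1 :=
  ((mem_normalizer_iff.1 hg) _).1 (mem_zpowers _)

theorem J_le_Nx : H.J ≤ C.Nx := fun a ha => C.mem_Nx (by
  rw [H.J_comm a ha _ C.e1_JQ.1, mul_inv_cancel_right]; exact mem_zpowers _)

theorem e1_ev : C.e1 = C.ev 18 := C.ev_basis.2.2.1.symm

theorem zx_J : zpowers C.e1 ≤ H.J := zpowers_le.2 C.e1_JQ.1

theorem ev_zx {v : ℕ} (hv : v < 81) : C.ev v ∈ zpowers C.e1 ↔ modX v 0 = true := by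
  constructor
  · rintro ⟨i, hi⟩
    have h3 : C.e1 ^ (3 : ℤ) = 1 := by exact_mod_cast C.bas.p3
    have hj : C.ev v = C.ev (vS (i % 3).toNat 18) := by
      rw [C.ev_smul, ← C.e1_ev, ← zpow_natCast, Int.toNat_of_nonneg (Int.emod_nonneg i (by norm_num)), ← hi]
      show C.e1 ^ i = _
      conv_lhs => rw [← Int.emod_add_mul_ediv i 3, zpow_add, zpow_mul, h3, one_zpow, mul_one]
    rw [C.ev_inj hv (vS_lt _ _) hj]
    have hlt : (i % 3).toNat < 3 := by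
      have := Int.emod_lt_of_pos i (show (0 : ℤ) < 3 by norm_num)
      omega
    generalize (i % 3).toNat = j at hlt ⊢
    interval_cases j <;> decide +kernel
  · intro h
    obtain ⟨j, hj, rfl⟩ := coset_line v hv h
    rw [C.ev_smul, ← C.e1_ev]
    exact pow_mem (mem_zpowers _) j

theorem modX_iff {u v : ℕ} (hu : u < 81) (hv : v < 81) : modX u v = true ↔ (C.ev v)⁻¹ * C.ev u ∈ zpowers C.e1 := by
  have h2 : (C.ev v)⁻¹ * C.ev u = C.ev (vA (vS 2 v) u) := by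
    rw [C.ev_add, C.ev_smul, pow_two, three_sq (H.J_cube _ (C.ev_J v))]
  rw [h2, C.ev_zx (vA_lt _ _)]
  exact (key u hu v hv)
where
  key : ∀ u < 81, ∀ v < 81, (modX u v = true ↔ modX (vA (vS 2 v) u) 0 = true) := by decide +kernel

/-- The image of a code. -/
noncomputable def jx (v : ℕ) : C.Yx := C.px ⟨C.ev v, C.J_le_Nx (C.ev_J v)⟩

theorem jx_eq {u v : ℕ} (hu : u < 81) (hv : v < 81) : C.jx v = C.jx u ↔ modX u v = true := by
  rw [C.modX_iff hu hv, jx, jx, QuotientGroup.mk'_apply, QuotientGroup.mk'_apply, QuotientGroup.eq, mem_subgroupOf]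
  rfl

theorem jx_conj {g : G} (hg : g ∈ C.Nx) {A v : ℕ} (hA : ActB C.ev g A) (hv : v < 81) :
    C.px ⟨g, hg⟩ * C.jx v * (C.px ⟨g, hg⟩)⁻¹ = C.jx (ap A v) := by
  rw [jx, jx, ← map_inv, ← map_mul, ← map_mul]
  exact congrArg C.px (Subtype.ext (hA.2 v hv))

theorem commute_iff {g : G} (hg : g ∈ C.Nx) {A v : ℕ} (hA : ActB C.ev g A) (hv : v < 81) :
    C.px ⟨g, hg⟩ * C.jx v = C.jx v * C.px ⟨g, hg⟩ ↔ modX (ap A v) v = true := by
  rw [← C.jx_eq (ap_lt A v) hv, ← C.jx_conj hg hA hv, eq_comm (a := C.jx v), mul_inv_eq_iff_eq_mul]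

/-- The image of `z`. -/
noncomputable def zx : C.Yx := C.jx 4

/-- The centralizer of the image of `z`. -/
noncomputable abbrev Cx : Subgroup C.Yx := centralizer ({C.zx} : Set C.Yx)

theorem jx_Cx (v : ℕ) : C.jx v ∈ C.Cx := by
  refine mem_centralizer_singleton_iff.2 ?_
  rw [zx, jx, jx, ← map_mul, ← map_mul]
  exact congrArg C.px (Subtype.ext (H.J_comm _ (C.ev_J v) _ (C.ev_J 4)))

/-- What lies over the centralizer. -/
theorem lift_Cx {g : G} (hg : g ∈ C.Nx) (hc : C.px ⟨g, hg⟩ ∈ C.Cx) :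
    g ∈ normalizer (H.J : Set G) ∧ g * H.z = H.z * g ∧
      ∃ X ∈ stX, ∃ A, (A = mI ∨ A = mT0) ∧ ActB C.ev g (mM X A) := by
  have hz : g * H.z = H.z * g := by
    have hcm := mem_centralizer_singleton_iff.1 hc
    rw [zx, jx, ← map_mul, ← map_mul, QuotientGroup.mk'_apply, QuotientGroup.mk'_apply, eq_comm, QuotientGroup.eq,
      mem_subgroupOf] at hcm
    have hmem : H.z⁻¹ * (g * H.z * g⁻¹) ∈ zpowers C.e1 := by
      have h1 := ((mem_normalizer_iff.1 hg) _).1 hcm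
      simp only [coe_mul, coe_inv, C.ev_basis.1] at h1
      rw [show g * ((H.z * g)⁻¹ * (g * H.z)) * g⁻¹ = H.z⁻¹ * (g * H.z * g⁻¹) by group] at h1
      exact h1
    have hJ : g * H.z * g⁻¹ ∈ H.J := by
      have := mul_mem H.z_J (C.zx_J hmem)
      rwa [mul_inv_cancel_left] at this
    obtain ⟨v, hv, hv'⟩ := C.ev_surj hJ
    obtain ⟨k, hk⟩ := hmem
    have h4 : modX v 4 = true := (C.modX_iff hv (by norm_num)).2 ⟨k, hk.trans (by rw [C.ev_basis.1, hv'])⟩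
    obtain ⟨j, hj, rfl⟩ : ∃ j < 3, v = vA 4 (vS j 18) := cos4 v hv h4
    have hs := C.fusion_sng (u := 4) (by norm_num) (vA_lt _ _) (by rw [C.ev_basis.1]; exact hv'.symm) e1_facts.2.2.1
    rw [sng_coset j hj hs] at hv'
    have e : C.ev (vA 4 (vS 0 18)) = H.z := by rw [C.ev_add, C.ev_smul, pow_zero, mul_one, C.ev_basis.1]
    rw [e] at hv'
    exact mul_inv_eq_iff_eq_mul.1 hv'.symm
  have hx := C.Nx_conj hg
  have hxJQ := C.e1_JQ
  have hxZ : C.e1 ∉ zpowers H.z := fun h => by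
    obtain ⟨k, hk, hk'⟩ := C.ev_Z h
    have := C.ev_inj (by norm_num) (vS_lt _ _) (C.e1_ev.symm.trans hk')
    interval_cases k <;> exact absurd this (by decide +kernel)
  have hN := C.cz_x_norm hz hxJQ hxZ hx
  obtain ⟨σ, hσ, m, -, -, he, A, hA, hmA⟩ := C.cz_mat hN hz
  have hact : ActB C.ev g (mM (C.mat σ) A) := he ▸ C.nact_mul (C.nact_rep σ) hmA
  refine ⟨hN, hz, C.mat σ, ?_⟩
  have h18 : ap (mM (C.mat σ) A) 18 = 18 ∨ ap (mM (C.mat σ) A) 18 = 9 := by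
    rw [C.e1_ev, hact.2 18 (by norm_num)] at hx
    obtain ⟨j, hj, hj'⟩ := coset_line _ (ap_lt _ _) ((C.ev_zx (ap_lt _ _)).1 (C.e1_ev.symm ▸ hx))
    interval_cases j
    · exfalso
      have h1 : g * C.ev 18 * g⁻¹ = 1 := by rw [hact.2 18 (by norm_num), hj', C.ev_smul, pow_zero]
      exact absurd (C.ev_eq_one (v := 18) (by norm_num) (conj_eq_one_iff.1 h1)) (by norm_num)
    · left; rw [hj']; decide +kernel
    · right; rw [hj']; decide +kernel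
  obtain ⟨h1, h2⟩ := stX_spec.1 _ (C.mat_Sy hσ) A hA h18
  exact ⟨h1, A, h2, hact⟩
where
  cos4 : ∀ v < 81, modX v 4 = true → ∃ j < 3, v = vA 4 (vS j 18) := by decide +kernel

/-- The element acting as `mB0`. -/
noncomputable def bx : G := C.rep pb

theorem bx_act : ActB C.ev C.bx mB0 := C.act_gens.2.1

theorem bx_Nx : C.bx ∈ C.Nx := C.mem_Nx (by
  rw [C.e1_ev, C.bx_act.2 18 (by norm_num), repV_spec.2.2.2.2.2.2.1]; exact mem_zpowers _)

theorem act_T_Nx {t : G} (hA : ActB C.ev t mT0) : t ∈ C.Nx := C.mem_Nx (by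
  rw [C.e1_ev, hA.2 18 (by norm_num), repV_spec.2.2.2.2.2.2.2.1, ← e1_facts.2.2.2.2.1, C.ev_smul]
  exact pow_mem (mem_zpowers _) 2)

theorem act_pows {i : ℕ} (hi : i < 3) : ActB C.ev (C.bx ^ i) (List.getD [mI, mB0, mM mB0 mB0] i mI) := by
  interval_cases i
  · rw [pow_zero]; exact C.nact_J (one_mem _)
  · rw [pow_one]; exact C.bx_act
  · rw [sq]; exact C.nact_mul C.bx_act C.bx_act

/-- The enumeration of the centralizer. -/
theorem enum_Cx {t : G} (ht2 : t * t = 1) (htA : ActB C.ev t mT0) :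
    ∃ ε : Fin 3 × Fin 2 × Fin 27 → C.Cx, Function.Bijective ε ∧
      ∀ p, ((ε p : C.Cx) : C.Yx) = C.px ⟨C.bx, C.bx_Nx⟩ ^ (p.1 : ℕ) * C.px ⟨t, C.act_T_Nx htA⟩ ^ (p.2.1 : ℕ) *
        C.jx (repV p.2.2) := by
  have hb : C.px ⟨C.bx, C.bx_Nx⟩ ∈ C.Cx := by
    refine mem_centralizer_singleton_iff.2 ?_
    rw [zx, C.commute_iff C.bx_Nx C.bx_act (by norm_num), repV_spec.2.2.2.2.2.2.2.2.1]
    decide +kernel
  have ht : C.px ⟨t, C.act_T_Nx htA⟩ ∈ C.Cx := by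
    refine mem_centralizer_singleton_iff.2 ?_
    rw [zx, C.commute_iff (C.act_T_Nx htA) htA (by norm_num), repV_spec.2.2.2.2.2.2.2.2.2]
    decide +kernel
  let ε : Fin 3 × Fin 2 × Fin 27 → C.Cx := fun p =>
    ⟨C.px ⟨C.bx, C.bx_Nx⟩ ^ (p.1 : ℕ) * C.px ⟨t, C.act_T_Nx htA⟩ ^ (p.2.1 : ℕ) * C.jx (repV p.2.2),
      mul_mem (mul_mem (pow_mem hb _) (pow_mem ht _)) (C.jx_Cx _)⟩
  have hte : ∀ {e : ℕ}, e < 2 → ActB C.ev (t ^ e) (List.getD [mI, mT0] e mI) := fun {e} he => by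
    interval_cases e
    · rw [pow_zero]; exact C.nact_J (one_mem _)
    · rw [pow_one]; exact htA
  refine ⟨ε, ⟨fun p q h => ?_, fun y => ?_⟩, fun p => rfl⟩
  · obtain ⟨i, e, k⟩ := p
    obtain ⟨i', e', k'⟩ := q
    have h' : C.px (⟨C.bx, C.bx_Nx⟩ ^ (i : ℕ) * ⟨t, C.act_T_Nx htA⟩ ^ (e : ℕ) * ⟨_, C.J_le_Nx (C.ev_J (repV k))⟩) =
        C.px (⟨C.bx, C.bx_Nx⟩ ^ (i' : ℕ) * ⟨t, C.act_T_Nx htA⟩ ^ (e' : ℕ) * ⟨_, C.J_le_Nx (C.ev_J (repV k'))⟩) := by
      simp only [map_mul, map_pow]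
      exact congrArg Subtype.val h
    set g := C.bx ^ (i : ℕ) * t ^ (e : ℕ) with hg
    set g' := C.bx ^ (i' : ℕ) * t ^ (e' : ℕ) with hg'
    have hd : (g * C.ev (repV k))⁻¹ * (g' * C.ev (repV k')) ∈ zpowers C.e1 := by
      have h'' := mem_subgroupOf.1 (QuotientGroup.eq.1 h')
      simpa [hg, hg', mul_assoc] using h''
    have hj := C.zx_J hd
    have hgg : g⁻¹ * g' ∈ H.J := by
      have := mul_mem (mul_mem (C.ev_J (repV k)) hj) (inv_mem (C.ev_J (repV k')))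
      rwa [show C.ev (repV k) * ((g * C.ev (repV k))⁻¹ * (g' * C.ev (repV k'))) * (C.ev (repV k'))⁻¹ = g⁻¹ * g' by
        group] at this
    have hA := C.nact_mul (C.act_pows i.2) (hte e.2)
    have hA' := C.nact_mul (C.act_pows i'.2) (hte e'.2)
    have h2 := C.nact_mul hA (C.nact_J hgg)
    rw [← hg, mul_inv_cancel_left] at h2
    have heq := C.nact_unique h2 hA'
    rw [fix_mI _ i.2 _ e.2] at heq
    obtain ⟨hi, he⟩ := repV_spec.2.2.2.1 _ i.2 _ e.2 _ i'.2 _ e'.2 heq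
    obtain rfl : i = i' := Fin.ext hi
    obtain rfl : e = e' := Fin.ext he
    have hk : (C.ev (repV k))⁻¹ * C.ev (repV k') ∈ zpowers C.e1 := by
      rw [show g' = g from rfl] at hd
      rwa [show (g * C.ev (repV k))⁻¹ * (g * C.ev (repV k')) = (C.ev (repV k))⁻¹ * C.ev (repV k') by group] at hd
    obtain rfl : k' = k := Fin.ext (repV_spec.2.1 _ k'.2 _ k.2
      ((C.modX_iff (repV_spec.1 _ k'.2) (repV_spec.1 _ k.2)).2 hk))
    rfl
  · obtain ⟨⟨g, hg⟩, hgy⟩ := QuotientGroup.mk'_surjective C.Kx (y : C.Yx)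
    obtain ⟨-, -, X, hX, A, hA, hgA⟩ := C.lift_Cx hg (hgy.symm ▸ y.2)
    obtain ⟨i, hi, hiX⟩ : ∃ i < 3, List.getD [mI, mB0, mM mB0 mB0] i mI = X := by
      rcases stX_spec.2.2.2.2.2.2 X hX with rfl | rfl | rfl
      exacts [⟨0, by norm_num, rfl⟩, ⟨1, by norm_num, rfl⟩, ⟨2, by norm_num, rfl⟩]
    obtain ⟨e, he, heA⟩ : ∃ e < 2, List.getD [mI, mT0] e mI = A := by
      rcases hA with rfl | rfl
      exacts [⟨0, by norm_num, rfl⟩, ⟨1, by norm_num, rfl⟩]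
    set g0 := C.bx ^ i * t ^ e with hg0
    have hg0A : ActB C.ev g0 (mM X A) := hiX ▸ heA ▸ C.nact_mul (C.act_pows hi) (hte he)
    have hj : g0⁻¹ * g ∈ H.J := H.J_self_cent fun a ha => by
      obtain ⟨v, hv, rfl⟩ := C.ev_surj ha
      refine mul_inv_eq_iff_eq_mul.1 ?_
      calc g0⁻¹ * g * C.ev v * (g0⁻¹ * g)⁻¹ = g0⁻¹ * (g * C.ev v * g⁻¹) * g0 := by group
        _ = g0⁻¹ * (g0 * C.ev v * g0⁻¹) * g0 := by rw [hgA.2 v hv, hg0A.2 v hv]
        _ = _ := by group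
    obtain ⟨v, hv, hv'⟩ := C.ev_surj hj
    obtain ⟨k, hk, hvk⟩ := repV_spec.2.2.1 v hv
    refine ⟨(⟨i, hi⟩, ⟨e, he⟩, ⟨k, hk⟩), Subtype.ext ?_⟩
    show C.px ⟨C.bx, C.bx_Nx⟩ ^ i * C.px ⟨t, C.act_T_Nx htA⟩ ^ e * C.jx (repV k) = y
    rw [(C.jx_eq hv (repV_spec.1 k hk)).2 hvk, jx, ← map_pow, ← map_pow, ← map_mul, ← map_mul, ← hgy]
    exact congrArg C.px (Subtype.ext (by simp [hv', hg0]; group))
where
  fix_mI : ∀ i < 3, ∀ e < 2, mM (mM (List.getD [mI, mB0, mM mB0 mB0] i mI) (List.getD [mI, mT0] e mI)) mI =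
      mM (List.getD [mI, mB0, mM mB0 mB0] i mI) (List.getD [mI, mT0] e mI) := by
    decide +kernel

theorem card_Cx : Nat.card C.Cx = 162 := by
  obtain ⟨t, -, ht2, -, -, htA⟩ := C.exists_t
  obtain ⟨ε, hε, -⟩ := C.enum_Cx ht2 htA
  rw [← Nat.card_eq_of_bijective ε hε]
  simp

end Sec

end Cfsg.Agent.Spor.McLThree
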