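import Cfsg.Agent.Lib.Spor.McLThree.Middle

/-!
The matrices of the generators in the coordinates: they are the four matrices of the table.
-/

set_option autoImplicit false
set_option maxRecDepth 100000
set_option synthInstance.maxSize 4096
set_option linter.unusedSectionVars false

namespace Cfsg.Agent.Spor.McLThree

open Subgroup Cfsg.Agent.Spor.UFourType

universe u

theorem three_sq {K : Type*} [Group K] {x : K} (h : x ^ 3 = 1) : x * x = x⁻¹ :=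
  eq_inv_of_mul_eq_one_left (by rw [← h, pow_succ, sq])

theorem shape_facts : mB 4 7 (vS 2 18) (vS 2 54) = mT0 ∧ vS 1 4 = 4 ∧ vS 1 7 = 7 ∧ (∀ l ∈ hWord, l < 3) := by
  decide +kernel

variable {G : Type u} [Group G] [Finite G] {H : Hyp G}

namespace Sec

variable (C : Sec H)

/-- A permutation acts on `J` by a matrix. -/
def Act (σ : A6) (A : ℕ) : Prop := ActB C.ev (C.rep σ) A

theorem act_of_cj {σ : A6} {iz jf i1 i2 : ℕ} (hz : C.cj σ H.z = C.ev iz) (hf : C.cj σ C.f = C.ev jf)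
    (h1 : C.cj σ C.e1 = C.ev i1) (h2 : C.cj σ C.e2 = C.ev i2) : C.Act σ (mB iz jf i1 i2) :=
  C.bas.act_of_basis hz hf h1 h2

theorem act_comp {σ τ : A6} {A B : ℕ} (hA : C.Act σ A) (hB : C.Act τ B) : C.Act (σ * τ) (mM A B) := by
  refine ⟨mM_lt A B, fun v hv => ?_⟩
  refine Eq.trans ?_ ((C.bas.act_mul hA hB).2 v hv)
  show C.cj (σ * τ) (C.ev v) = C.rep σ * C.rep τ * C.ev v * (C.rep σ * C.rep τ)⁻¹
  rw [← C.cj_comp σ τ (C.ev_J v)]
  unfold cj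
  group

theorem act_one' : C.Act 1 mI := by
  refine ⟨C.bas.act_one.1, fun v hv => ?_⟩
  refine Eq.trans ?_ (C.bas.act_one.2 v hv)
  show C.cj 1 (C.ev v) = 1 * C.ev v * (1 : G)⁻¹
  rw [C.cj_one (C.ev_J v)]
  group

theorem act_eq {σ : A6} {A B : ℕ} (hA : C.Act σ A) (hB : C.Act σ B) : A = B :=
  C.bas.act_unique (fun u hu v hv h => C.ev_inj hu hv h) hA hB

theorem act_rel {σ τ : A6} (h : σ = τ) {A B : ℕ} (hA : C.Act σ A) (hB : C.Act τ B) : A = B :=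
  C.act_eq hA (h ▸ hB)

theorem act_word {A B W : ℕ} (hA : C.Act pa A) (hB : C.Act pb B) (hW : C.Act pw W) :
    ∀ (l : List ℕ), (∀ k ∈ l, k < 3) → C.Act (pWord l) (mW [A, B, W] l) := by
  have key : ∀ (l : List ℕ) (σ : A6) (X : ℕ), (∀ k ∈ l, k < 3) → C.Act σ X →
      C.Act (σ * pWord l) (l.foldl (fun Y k => mM Y ([A, B, W].getD k mI)) X) := by
    intro l
    induction l with
    | nil => intro σ X _ hX; simpa [pWord] using hX
    | cons k l ih =>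
      intro σ X hl hX
      have hk : C.Act (pg k) ([A, B, W].getD k mI) := by
        have : k < 3 := hl k List.mem_cons_self
        interval_cases k <;> assumption
      have := ih (σ * pg k) _ (fun m hm => hl m (List.mem_cons_of_mem _ hm)) (C.act_comp hX hk)
      simpa [pWord, mul_assoc] using this
  intro l hl
  simpa [mW] using key l 1 mI hl C.act_one'

theorem ev_basis : C.ev 4 = H.z ∧ C.ev 7 = C.f ∧ C.ev 18 = C.e1 ∧ C.ev 54 = C.e2 := C.bas.ev_basis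

theorem ev_add (u v : ℕ) : C.ev (vA u v) = C.ev u * C.ev v := C.bas.ev_add u v

theorem ev_smul (k v : ℕ) : C.ev (vS k v) = C.ev v ^ k := C.bas.ev_smul k v

theorem ev_Z {x : G} (hx : x ∈ zpowers H.z) : ∃ k < 3, x = C.ev (vS k 4) := by
  obtain ⟨k, hk, rfl⟩ := H.pow_Z hx
  exact ⟨k, hk, by rw [C.ev_smul, C.ev_basis.1]⟩

theorem act_T : C.Act pt mT0 := by
  rw [← shape_facts.1]
  refine C.act_of_cj ?_ ?_ ?_ ?_
  · rw [C.ev_basis.1]; exact C.pt_z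
  · rw [C.ev_basis.2.1]; exact C.pt_f
  · rw [C.ev_smul, C.ev_basis.2.2.1, pow_two, three_sq (H.J_cube _ C.e1_JQ.1)]
    exact C.pt_mid (C.dsp_JQ pa_mem_Sy)
  · rw [C.ev_smul, C.ev_basis.2.2.2, pow_two, three_sq (H.J_cube _ C.e2_JQ.1)]
    exact C.pt_mid (C.dsp_JQ pb_mem_Sy)

/-- The code of the image of an element inverted by `(12)(45)` under a permutation commuting with it. -/
theorem mid_image {σ : A6} (hc : pt * σ = σ * pt) {x : G} (hx : x ∈ H.J) (hinv : C.cj pt x = x⁻¹) :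
    ∃ u ∈ midL, C.cj σ x = C.ev u := by
  obtain ⟨u, hu, hxu⟩ := C.ev_surj (C.cj_mem σ hx)
  refine ⟨u, mid_codes u hu (C.ev_inj (ap_lt _ _) (vS_lt _ _) ?_), hxu.symm⟩
  rw [← C.act_T.2 u hu, C.ev_smul, pow_two, three_sq (H.J_cube _ (C.ev_J u))]
  show C.cj pt (C.ev u) = (C.ev u)⁻¹
  rw [hxu, C.cj_comp _ _ hx, hc, ← C.cj_comp _ _ hx, hinv, C.cj_inv]

theorem shapeA_act : ∃ k < 3, ∃ p < 3, ∃ r < 3, C.Act pa (shapeA k p r) := by
  obtain ⟨b4, b7, b18, b54⟩ := C.ev_basis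
  obtain ⟨k, hk, hk'⟩ := C.ev_Z (C.mid_rest (C.dsp_JQ pa_mem_Sy))
  obtain ⟨p, hp, hp'⟩ := C.ev_Z (C.cj_JQ pa_mem_Sy C.e1_JQ)
  obtain ⟨r, hr, hr'⟩ := C.ev_Z (C.cj_JQ pa_mem_Sy C.e2_JQ)
  refine ⟨k, hk, p, hp, r, hr, C.act_of_cj ?_ ?_ ?_ ?_⟩
  · rw [b4]; exact C.cj_Sy_z pa_mem_Sy
  · rw [C.ev_add, C.ev_add, b7, b18, ← hk']
    have hc := H.J_comm _ C.f_J _ (C.dsp_JQ pa_mem_Sy).1
    have h1 : C.cj pa C.f = C.dsp pa * C.f := by rw [dsp, inv_mul_cancel_right]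
    rw [h1, ← hc]
    congr 1
    have hm := C.mid_JQ (C.dsp_JQ pa_mem_Sy)
    rw [H.J_comm _ (C.dsp_JQ pa_mem_Sy).1 _ (inv_mem hm.1)]
    show _ = C.mid (C.dsp pa) * _
    group
  · rw [C.ev_add, b18, ← hp', H.J_comm _ C.e1_JQ.1 _
      (mul_mem (C.cj_mem pa C.e1_JQ.1) (inv_mem C.e1_JQ.1)), inv_mul_cancel_right]
  · rw [C.ev_add, b54, ← hr', H.J_comm _ C.e2_JQ.1 _
      (mul_mem (C.cj_mem pa C.e2_JQ.1) (inv_mem C.e2_JQ.1)), inv_mul_cancel_right]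

theorem shapeB_act : ∃ k < 3, ∃ p < 3, ∃ r < 3, C.Act pb (shapeB k p r) := by
  obtain ⟨b4, b7, b18, b54⟩ := C.ev_basis
  obtain ⟨k, hk, hk'⟩ := C.ev_Z (C.mid_rest (C.dsp_JQ pb_mem_Sy))
  obtain ⟨p, hp, hp'⟩ := C.ev_Z (C.cj_JQ pb_mem_Sy C.e1_JQ)
  obtain ⟨r, hr, hr'⟩ := C.ev_Z (C.cj_JQ pb_mem_Sy C.e2_JQ)
  refine ⟨k, hk, p, hp, r, hr, C.act_of_cj ?_ ?_ ?_ ?_⟩
  · rw [b4]; exact C.cj_Sy_z pb_mem_Sy
  · rw [C.ev_add, C.ev_add, b7, b54, ← hk']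
    have hc := H.J_comm _ C.f_J _ (C.dsp_JQ pb_mem_Sy).1
    have h1 : C.cj pb C.f = C.dsp pb * C.f := by rw [dsp, inv_mul_cancel_right]
    rw [h1, ← hc]
    congr 1
    have hm := C.mid_JQ (C.dsp_JQ pb_mem_Sy)
    rw [H.J_comm _ (C.dsp_JQ pb_mem_Sy).1 _ (inv_mem hm.1)]
    show _ = C.mid (C.dsp pb) * _
    group
  · rw [C.ev_add, b18, ← hp', H.J_comm _ C.e1_JQ.1 _
      (mul_mem (C.cj_mem pb C.e1_JQ.1) (inv_mem C.e1_JQ.1)), inv_mul_cancel_right]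
  · rw [C.ev_add, b54, ← hr', H.J_comm _ C.e2_JQ.1 _
      (mul_mem (C.cj_mem pb C.e2_JQ.1) (inv_mem C.e2_JQ.1)), inv_mul_cancel_right]

theorem shapeH_act : ∃ c, (c = 1 ∨ c = 2) ∧ ∃ x ∈ midL, ∃ y ∈ midL, C.Act ph (shapeH c x y) := by
  obtain ⟨b4, b7, -, -⟩ := C.ev_basis
  obtain ⟨c, hc, hz⟩ : ∃ c, (c = 1 ∨ c = 2) ∧ C.cj ph H.z = H.z ^ c := by
    rcases C.ph_z with h | h
    · exact ⟨1, Or.inl rfl, by rw [h, pow_one]⟩
    · exact ⟨2, Or.inr rfl, h⟩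
  have hinv : C.cj ph⁻¹ H.z = H.z ^ c := by
    have h1 := C.cj_inv_cancel ph H.z_J
    rw [hz, C.cj_pow] at h1
    have h2 := congrArg (fun t => t ^ c) h1
    simp only [← pow_mul] at h2
    rcases hc with rfl | rfl
    · simpa using h2
    · rwa [show 2 * 2 = 3 + 1 from rfl, pow_succ, H.J_cube _ (C.cj_mem _ H.z_J), one_mul] at h2
  have hpt : pt * ph = ph * pt := by simp [pt, mul_assoc]
  obtain ⟨x, hx, hx'⟩ := C.mid_image hpt C.e1_JQ.1 (C.pt_mid (C.dsp_JQ pa_mem_Sy))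
  obtain ⟨y, hy, hy'⟩ := C.mid_image hpt C.e2_JQ.1 (C.pt_mid (C.dsp_JQ pb_mem_Sy))
  refine ⟨c, hc, x, hx, y, hy, C.act_of_cj ?_ ?_ hx' hy'⟩
  · rw [C.ev_smul, b4]; exact hz
  · rw [C.ev_smul, b7]
    have hr : ph * pw = pw * ph⁻¹ := by
      obtain ⟨-, -, -, -, -, -, hw, hwh, -⟩ := a6_rels
      rw [eq_mul_inv_iff_mul_eq]
      calc ph * pw * ph = pw * pw * (ph * pw * ph) := by rw [hw, one_mul]
        _ = pw * (pw * ph * (pw * ph)) := by group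
        _ = pw := by rw [hwh, mul_one]
    show C.cj ph (C.cj pw H.z) = C.cj pw H.z ^ c
    rw [C.cj_comp _ _ H.z_J, hr, ← C.cj_comp _ _ H.z_J, hinv, C.cj_pow]

theorem shapeW_act : ∃ x ∈ midL, ∃ y ∈ midL, C.Act pw (shapeW x y) := by
  obtain ⟨b4, b7, -, -⟩ := C.ev_basis
  have hpt : pt * pw = pw * pt := a6_rels.2.2.2.2.2.2.2.2.2.1
  obtain ⟨x, hx, hx'⟩ := C.mid_image hpt C.e1_JQ.1 (C.pt_mid (C.dsp_JQ pa_mem_Sy))
  obtain ⟨y, hy, hy'⟩ := C.mid_image hpt C.e2_JQ.1 (C.pt_mid (C.dsp_JQ pb_mem_Sy))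
  refine ⟨x, hx, y, hy, C.act_of_cj ?_ ?_ hx' hy'⟩
  · rw [b7]; rfl
  · rw [b4]; exact C.cj_pw_f

/-- The four generators act by the four matrices. -/
theorem act_gens : C.Act pa mA0 ∧ C.Act pb mB0 ∧ C.Act ph mH0 ∧ C.Act pw mW0 := by
  obtain ⟨k, hk, p, hp, r, hr, hA⟩ := C.shapeA_act
  obtain ⟨k', hk', p', hp', r', hr', hB⟩ := C.shapeB_act
  obtain ⟨c, hc, x, hx, y, hy, hH⟩ := C.shapeH_act
  obtain ⟨u, hu, v, hv, hW⟩ := C.shapeW_act
  obtain ⟨ha3, -, hab, hhab, hta, htb, hw, hwh, ht, -, haw, hbw, hword, -⟩ := a6_rels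
  have hT := C.act_T
  have I := C.act_one'
  have beq : ∀ {a b : ℕ}, a = b → Nat.beq a b = true := fun h => h ▸ Nat.beq_refl _
  have eA := C.act_rel (show pt * pa * (pt * pa) = 1 by rw [← mul_assoc, hta, inv_mul_cancel])
    (C.act_comp (C.act_comp hT hA) (C.act_comp hT hA)) I
  have eB := C.act_rel (show pt * pb * (pt * pb) = 1 by rw [← mul_assoc, htb, inv_mul_cancel])
    (C.act_comp (C.act_comp hT hB) (C.act_comp hT hB)) I
  have eAB := C.act_rel hab (C.act_comp hA hB) (C.act_comp hB hA)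
  have eH2 := C.act_rel (rfl : ph * ph = pt) (C.act_comp hH hH) hT
  have eHA := C.act_rel (show ph * pa * (pt * ph) = pb by
      have h4 : ph * ph * (ph * ph) = 1 := ht
      rw [show pt * ph = ph⁻¹ by
        rw [pt, eq_inv_iff_mul_eq_one, mul_assoc]; exact h4]
      exact hhab)
    (C.act_comp (C.act_comp hH hA) (C.act_comp hT hH)) hB
  have eW2 := C.act_rel hw (C.act_comp hW hW) I
  have eWH := C.act_rel hwh (C.act_comp (C.act_comp hW hH) (C.act_comp hW hH)) I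
  have eAW : mW [mM (shapeA k p r) (shapeW u v)] [0, 0, 0] = mI :=
    C.act_rel (σ := 1 * (pa * pw) * (pa * pw) * (pa * pw)) (by rw [one_mul]; exact haw)
      (C.act_comp (C.act_comp (C.act_comp I (C.act_comp hA hW)) (C.act_comp hA hW)) (C.act_comp hA hW)) I
  have eBW : mW [mM (shapeB k' p' r') (shapeW u v)] [0, 0, 0, 0] = mI :=
    C.act_rel (σ := 1 * (pb * pw) * (pb * pw) * (pb * pw) * (pb * pw)) (by rw [one_mul]; exact hbw)
      (C.act_comp (C.act_comp (C.act_comp (C.act_comp I (C.act_comp hB hW)) (C.act_comp hB hW))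
        (C.act_comp hB hW)) (C.act_comp hB hW)) I
  have eWord := C.act_rel hword (C.act_word hA hB hW hWord shape_facts.2.2.2) hH
  obtain ⟨r1, r2, r3, r4⟩ := act_unique hk hp hr hk' hp' hr' hc hx hy hu hv (beq eA)
    (Bool.and_eq_true _ _ ▸ ⟨beq eB, beq eAB⟩) (Bool.and_eq_true _ _ ▸ ⟨beq eH2, beq eHA⟩)
    (by simp only [okW, Bool.and_eq_true]; exact ⟨beq eW2, beq eWH, beq eAW, beq eBW, beq eWord⟩)
  exact ⟨r1 ▸ hA, r2 ▸ hB, r3 ▸ hH, r4 ▸ hW⟩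

end Sec

end Cfsg.Agent.Spor.McLThree
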