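import Cfsg.Agent.Lib.Spor.McLThree.TSplit

/-!
Five classes of elements of order four of `SL₂(5)`: the quaternion subgroups.
-/

set_option autoImplicit false
set_option maxRecDepth 100000
set_option synthInstance.maxSize 4096

namespace Cfsg.Agent.Spor.McLThree

open scoped commutatorElement

/-- Lying in one quaternion group. -/
def quatRel (x y : SL5) : Prop := x * y = y * x ∨ x * y = -1 * (y * x)

instance (x y : SL5) : Decidable (quatRel x y) := inferInstanceAs (Decidable (_ ∨ _))

/-- Representatives. -/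
def qr (i : Fin 5) : SL5 :=
  match i with
  | 0 => ⟨!![0, 1; 4, 0], by decide⟩
  | 1 => ⟨!![1, 1; 3, 4], by decide⟩
  | 2 => ⟨!![1, 2; 4, 4], by decide⟩
  | 3 => ⟨!![1, 3; 1, 4], by decide⟩
  | 4 => ⟨!![1, 4; 2, 4], by decide⟩

/-- The number of the class. -/
def lab (x : SL5) : Fin 5 :=
  if quatRel x (qr 0) then 0 else if quatRel x (qr 1) then 1 else if quatRel x (qr 2) then 2
    else if quatRel x (qr 3) then 3 else 4

theorem qr_sq : ∀ i, qr i * qr i = -1 ∧ lab (qr i) = i := by decide +kernel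

theorem lab_rel : ∀ x : SL5, x * x = -1 → quatRel x (qr (lab x)) := by decide +kernel

theorem rel_lab : ∀ x : SL5, x * x = -1 → ∀ y : SL5, y * y = -1 → quatRel x y → lab x = lab y := by decide +kernel

theorem inner_triv : ∀ x : SL5, (∀ i, lab (x * qr i * x⁻¹) = i) → x = 1 ∨ x = -1 := by decide +kernel

/-- An automorphism respects the classes. -/
theorem aut_lab (φ : SL5 →* SL5) (hφ : Function.Injective φ) {x y : SL5} (hx : x * x = -1) (hy : y * y = -1)
    (h : lab x = lab y) : lab (φ x) = lab (φ y) := by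
  have hneg : φ (-1) = -1 := sl5_invol _ (by rw [← map_mul, sl5_neg.1, map_one]) fun h' =>
    sl5_neg.2.1 (hφ (h'.trans (map_one φ).symm))
  have sq : ∀ x : SL5, x * x = -1 → φ x * φ x = -1 := fun x hx => by rw [← map_mul, hx, hneg]
  have rel : ∀ x y : SL5, quatRel x y → quatRel (φ x) (φ y) := by
    rintro x y (h | h)
    · exact Or.inl (by rw [← map_mul, h, map_mul])
    · refine Or.inr ?_
      rw [← map_mul, h, map_mul, hneg, map_mul]
  rw [rel_lab _ (sq x hx) _ (sq _ (qr_sq _).1) (rel _ _ (lab_rel x hx)),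
    rel_lab _ (sq y hy) _ (sq _ (qr_sq _).1) (rel _ _ (lab_rel y hy)), h]

/-- The action of an automorphism on the five classes. -/
def autPerm : MulAut SL5 →* Equiv.Perm (Fin 5) :=
  (MulAction.toPermHom (Function.End (Fin 5))ˣ (Fin 5)).comp <| MonoidHom.toHomUnits
    { toFun := fun φ i => lab (φ (qr i))
      map_one' := funext fun i => (qr_sq i).2
      map_mul' := fun φ χ => funext fun i => by
        have hsq : χ (qr i) * χ (qr i) = -1 := by
          rw [← map_mul, (qr_sq i).1]
          exact sl5_invol _ (by rw [← map_mul, sl5_neg.1, map_one]) fun h' =>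
            sl5_neg.2.1 (χ.injective (h'.trans (map_one χ).symm))
        show lab (φ (χ (qr i))) = lab (φ (qr (lab (χ (qr i)))))
        exact aut_lab φ.toMonoidHom φ.injective hsq (qr_sq _).1 (qr_sq _).2.symm }

theorem autPerm_apply (φ : MulAut SL5) (i : Fin 5) : autPerm φ i = lab (φ (qr i)) := rfl

theorem autPerm_sign (x : SL5) : Equiv.Perm.sign (autPerm (MulAut.conj x)) = 1 := by
  set f : SL5 →* ℤˣ := Equiv.Perm.sign.comp (autPerm.comp MulAut.conj)
  have hc : ∀ a b, f ⁅a, b⁆ = 1 := fun a b => by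
    rw [map_commutatorElement, commutatorElement_eq_one_iff_mul_comm, mul_comm]
  have h : f.ker = ⊤ := Char.SL25Facts.eq_top (MonoidHom.mem_ker.2 (sl5_comm.1 ▸ hc _ _))
    (MonoidHom.mem_ker.2 (sl5_comm.2 ▸ hc _ _))
  have hx : x ∈ f.ker := by rw [h]; exact Subgroup.mem_top x
  exact MonoidHom.mem_ker.1 hx

theorem autPerm_inner (x : SL5) : autPerm (MulAut.conj x) = 1 ↔ x = 1 ∨ x = -1 := by
  constructor
  · exact fun h => inner_triv x fun i => by simpa [autPerm_apply] using Equiv.congr_fun h i
  · rintro (rfl | rfl)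
    · rw [map_one, map_one]
    · ext i
      rw [autPerm_apply]
      simp only [MulAut.conj_apply, ← sl5_neg.2.2, mul_inv_cancel_right, (qr_sq i).2, Equiv.Perm.one_apply]

/-- The inner automorphisms give all even permutations. -/
theorem autPerm_even {p : Equiv.Perm (Fin 5)} (hp : Equiv.Perm.sign p = 1) :
    ∃ x : SL5, autPerm (MulAut.conj x) = p := by
  set f : SL5 →* alternatingGroup (Fin 5) :=
    (autPerm.comp MulAut.conj).codRestrict _ fun x => Equiv.Perm.mem_alternatingGroup.2 (autPerm_sign x)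
  have hker : Nat.card f.ker ≤ 2 := by
    have hsub : ∀ x : f.ker, (x : SL5) = 1 ∨ (x : SL5) = -1 := fun x =>
      (autPerm_inner _).1 (congrArg Subtype.val (MonoidHom.mem_ker.1 x.2))
    refine (Nat.card_le_card_of_injective (fun x : f.ker => decide ((x : SL5) = 1)) fun x y h => ?_).trans (by simp)
    rcases hsub x with hx | hx <;> rcases hsub y with hy | hy <;>
      simp [hx, hy, sl5_neg.2.1] at h <;> exact Subtype.ext (hx.trans hy.symm)
  have h60 : Nat.card (alternatingGroup (Fin 5)) = 60 := by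
    rw [Nat.card_eq_fintype_card]; decide +kernel
  have h := f.ker.card_mul_index
  rw [Subgroup.index_ker, Nat.card_eq_fintype_card (α := SL5), sl5_card] at h
  have hr : f.range = ⊤ := Subgroup.eq_top_of_card_eq _ (le_antisymm
    (Subgroup.card_le_card_group _) (by rw [h60]; nlinarith))
  obtain ⟨x, hx⟩ := MonoidHom.range_eq_top.1 hr ⟨p, Equiv.Perm.mem_alternatingGroup.2 hp⟩
  exact ⟨x, congrArg Subtype.val hx⟩

/-- An automorphism fixing the five classes is trivial. -/
theorem autPerm_inj {φ : MulAut SL5} (h : autPerm φ = 1) : φ = 1 := by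
  have hx : ∀ x, φ x = x ∨ φ x = -1 * x := by
    intro x
    have e : φ * MulAut.conj x * φ⁻¹ = MulAut.conj (φ x) := by
      ext y
      simp [MulAut.mul_apply]
    have h2 : autPerm (MulAut.conj (φ x * x⁻¹)) = 1 := by
      rw [map_mul MulAut.conj, map_inv MulAut.conj, map_mul autPerm, ← e, map_mul, map_mul, map_inv, map_inv, h]
      simp
    rcases (autPerm_inner _).1 h2 with h' | h'
    · exact Or.inl (mul_inv_eq_one.1 h')
    · exact Or.inr (by rw [← h', inv_mul_cancel_right])
  have hc : ∀ a b : SL5, φ ⁅a, b⁆ = ⁅a, b⁆ := by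
    intro a b
    have hm : ∀ y : SL5, Commute (-1 : SL5) y := fun y => (sl5_neg.2.2 y).symm
    have hl : ∀ a b : SL5, ⁅-1 * a, b⁆ = ⁅a, b⁆ := fun a b => by
      calc ⁅-1 * a, b⁆ = -1 * (a * b * a⁻¹ * ((-1 : SL5))⁻¹) * b⁻¹ := by simp only [commutatorElement_def]; group
        _ = a * b * a⁻¹ * b⁻¹ := by
          rw [inv_eq_of_mul_eq_one_right sl5_neg.1, ← (hm (a * b * a⁻¹)).eq, ← mul_assoc, sl5_neg.1, one_mul]
        _ = _ := (commutatorElement_def a b).symm
    have hr : ∀ a b : SL5, ⁅a, -1 * b⁆ = ⁅a, b⁆ := fun a b => by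
      rw [← commutatorElement_inv, hl, commutatorElement_inv]
    rw [map_commutatorElement]
    rcases hx a with ha | ha <;> rcases hx b with hb | hb <;> rw [ha, hb] <;> simp only [hl, hr]
  have htop : Subgroup.closure {Char.SL25Facts.T, Char.SL25Facts.a} = ⊤ :=
    Char.SL25Facts.eq_top (Subgroup.subset_closure (Or.inl rfl)) (Subgroup.subset_closure (Or.inr rfl))
  have := MonoidHom.eq_of_eqOn_dense htop (f := φ.toMonoidHom) (g := MonoidHom.id SL5) (by
    rintro y (rfl | rfl)
    · rw [← sl5_comm.1]; exact hc _ _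
    · rw [← sl5_comm.2]; exact hc _ _)
  exact MulEquiv.ext fun y => DFunLike.congr_fun this y

end Cfsg.Agent.Spor.McLThree
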