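import Cfsg.Agent.Lib.Spor.McLThree.Basic
import Cfsg.Agent.Lib.Spor.McLThree.SLFive

/-!
An element of order five of `L` leaves no subgroup between the centre and `Q` invariant, so an element of order
three outside `Q` fixes exactly `J ∩ Q` modulo the centre; hence `J` is the only abelian subgroup of order `81`
of its Sylow group.
-/

set_option autoImplicit false
set_option linter.unusedSectionVars false

namespace Cfsg.Agent.Spor.McLThree

open Subgroup

universe u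

namespace Hyp

variable {G : Type u} [Group G] [Finite G] (H : Hyp G)

theorem psi_lift (x : SL5) : ∃ g : G, ∃ hg : g ∈ H.L, H.ψ ⟨g, hg⟩ = x := by
  obtain ⟨g, rfl⟩ := H.ψ_surj x
  exact ⟨g, g.2, rfl⟩

theorem card_L : Nat.card H.L = 243 * 120 := by
  have h1 := H.ψ.ker.card_mul_index
  rw [index_ker, MonoidHom.range_eq_top.2 H.ψ_surj, card_top, Nat.card_eq_fintype_card (α := SL5), sl5_card,
    show H.ψ.ker = H.Q.subgroupOf H.L from Subgroup.ext fun x => by
      rw [MonoidHom.mem_ker, H.ψ_ker, mem_subgroupOf],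
    Nat.card_congr (subgroupOfEquivOfLe H.Q_le_L).toEquiv, H.Q_card] at h1
  exact h1.symm

/-- An element of order five of `L` leaves only trivial sections invariant. -/
theorem five_invariant {u : G} (hu : u ∈ H.L) (ho : orderOf u = 5) {A : Subgroup G} (hA : A ≤ H.Q)
    (hzA : H.z ∈ A) (hinv : ∀ a ∈ A, u * a * u⁻¹ ∈ A) : A = zpowers H.z ∨ A = H.Q := by
  haveI : Fact (Nat.Prime 5) := ⟨by norm_num⟩
  haveI : Fact (Nat.Prime 3) := ⟨by norm_num⟩
  let U := zpowers u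
  have hU : IsPGroup 5 U := IsPGroup.of_card (n := 1) (by rw [Nat.card_zpowers, ho]; rfl)
  have key : ∀ B : Subgroup G, B ≤ H.Q → H.z ∈ B → (∀ a ∈ B, u * a * u⁻¹ ∈ B) →
      Nat.card B ≡ Nat.card ↥(B ⊓ centralizer ({u} : Set G)) [MOD 5] := by
    intro B hB _ hBi
    have hn : U ≤ normalizer (B : Set G) := zpowers_le.2 (Subgroup.mem_normalizer_fintype hBi)
    letI act : MulAction U B :=
      { smul := fun w b => ⟨(w : G) * b * (w : G)⁻¹, ((mem_normalizer_iff.1 (hn w.2)) _).1 b.2⟩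
        one_smul := fun b => Subtype.ext (by show (1 : G) * b * (1 : G)⁻¹ = b; group)
        mul_smul := fun v w b => Subtype.ext (by
          show ((v : G) * w) * b * ((v : G) * w)⁻¹ = v * (w * b * (w : G)⁻¹) * (v : G)⁻¹
          group) }
    have h := hU.card_modEq_card_fixedPoints B
    have e : MulAction.fixedPoints U B ≃ ↥(B ⊓ centralizer ({u} : Set G)) :=
      { toFun := fun b => ⟨b.1.1, b.1.2, mem_centralizer_singleton_iff.2
          (mul_inv_eq_iff_eq_mul.1 (congrArg Subtype.val (b.2 ⟨u, mem_zpowers u⟩) :)).symm⟩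
        invFun := fun b => ⟨⟨b.1, b.2.1⟩, fun w => Subtype.ext (by
          obtain ⟨i, hi⟩ := mem_zpowers_iff.1 w.2
          show (w : G) * b.1 * (w : G)⁻¹ = b.1
          rw [← hi, ((show Commute u b.1 from
            (mem_centralizer_singleton_iff.1 b.2.2).symm).zpow_left i).eq, mul_inv_cancel_right])⟩
        left_inv := fun _ => rfl
        right_inv := fun _ => rfl }
    rwa [Nat.card_congr e] at h
  have hzc : H.z ∈ centralizer ({u} : Set G) := mem_centralizer_singleton_iff.2 (H.L_cz hu).symm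
  have hC : H.Q ⊓ centralizer ({u} : Set G) = zpowers H.z := by
    have hle : zpowers H.z ≤ H.Q ⊓ centralizer ({u} : Set G) := zpowers_le.2 ⟨H.z_Q, hzc⟩
    have hd := card_dvd_of_le (inf_le_left : H.Q ⊓ centralizer ({u} : Set G) ≤ H.Q)
    rw [H.Q_card, show (243 : ℕ) = 3 ^ 5 by norm_num] at hd
    obtain ⟨n, hn, hc⟩ := (Nat.dvd_prime_pow Nat.prime_three).1 hd
    have hk := key H.Q le_rfl H.z_Q fun a ha => H.norm_Q u (H.L_cz hu) a ha
    rw [H.Q_card, hc] at hk
    unfold Nat.ModEq at hk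
    obtain rfl | rfl : n = 1 ∨ n = 5 := by interval_cases n <;> simp_all
    · exact (eq_of_le_of_card_ge hle (by rw [hc, H.card_Z]; norm_num)).symm
    · exfalso
      have he := eq_of_le_of_card_ge (inf_le_left : H.Q ⊓ centralizer ({u} : Set G) ≤ H.Q)
        (by rw [hc, H.Q_card]; norm_num)
      have huQ : u ∈ H.Q := H.cent_Q u fun q hq => by
        have : q ∈ H.Q ⊓ centralizer ({u} : Set G) := he.symm ▸ hq
        exact (mem_centralizer_singleton_iff.1 this.2).symm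
      have := Subgroup.orderOf_dvd_natCard _ huQ
      rw [ho, H.Q_card] at this
      norm_num at this
  have hk := key A hA hzA hinv
  rw [show A ⊓ centralizer ({u} : Set G) = zpowers H.z from le_antisymm
    (hC ▸ inf_le_inf_right _ hA) (zpowers_le.2 ⟨hzA, hzc⟩), H.card_Z] at hk
  have hd := card_dvd_of_le hA
  rw [H.Q_card, show (243 : ℕ) = 3 ^ 5 by norm_num] at hd
  obtain ⟨n, hn, hc⟩ := (Nat.dvd_prime_pow Nat.prime_three).1 hd
  rw [hc] at hk
  unfold Nat.ModEq at hk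
  obtain rfl | rfl : n = 1 ∨ n = 5 := by interval_cases n <;> simp_all
  · exact Or.inl (eq_of_le_of_card_ge (zpowers_le.2 hzA) (by rw [hc, H.card_Z]; norm_num)).symm
  · exact Or.inr (eq_of_le_of_card_ge hA (by rw [hc, H.Q_card]; norm_num))

/-- The elements of `Q` fixed modulo the centre by `x`. -/
def fixQ (x : G) : Subgroup G := H.Q ⊓ centMod H.z {x}

theorem mem_fixQ {x q : G} : q ∈ H.fixQ x ↔ q ∈ H.Q ∧ q * x * q⁻¹ * x⁻¹ ∈ zpowers H.z := by
  constructor
  · exact fun h => ⟨h.1, h.2.2 x rfl⟩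
  · rintro ⟨hq, h⟩
    exact ⟨hq, (H.z_cen q hq).symm, fun y hy => by rwa [Set.mem_singleton_iff.1 hy]⟩

theorem z_fixQ {x : G} (hx : x * H.z = H.z * x) : H.z ∈ H.fixQ x :=
  H.mem_fixQ.2 ⟨H.z_Q, by rw [← hx]; simp⟩

theorem conj_fixQ {γ x q : G} (hγz : γ * H.z = H.z * γ) (hq : q ∈ H.fixQ x) :
    γ * q * γ⁻¹ ∈ H.fixQ (γ * x * γ⁻¹) := by
  obtain ⟨hqQ, i, hi⟩ := H.mem_fixQ.1 hq
  refine H.mem_fixQ.2 ⟨H.norm_Q γ hγz q hqQ, i, ?_⟩
  show H.z ^ i = _
  have hi' : H.z ^ i = q * x * q⁻¹ * x⁻¹ := hi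
  calc H.z ^ i = γ * H.z ^ i * γ⁻¹ := by
        rw [((show Commute γ H.z from hγz).zpow_right i).eq, mul_inv_cancel_right]
    _ = _ := by rw [hi']; group

/-- An element of order three of `SL₂(5)` fixes at most `27` elements of `Q` modulo the centre. -/
theorem fix_le {j : G} (hj : j ∈ H.L) (h3 : H.ψ ⟨j, hj⟩ * H.ψ ⟨j, hj⟩ * H.ψ ⟨j, hj⟩ = 1)
    (h1 : H.ψ ⟨j, hj⟩ ≠ 1) : Nat.card (H.fixQ j) ≤ 27 := by
  by_contra hlt
  push Not at hlt
  obtain ⟨g, hg10, hg2⟩ := sl5_pair _ h3 h1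
  obtain ⟨γ, hγ, rfl⟩ := H.psi_lift g
  have hγz := H.L_cz hγ
  set j' := γ * j * γ⁻¹ with hj'
  set A := H.fixQ j ⊓ H.fixQ j' with hA
  have hF' : Nat.card (H.fixQ j') = Nat.card (H.fixQ j) := by
    refine le_antisymm (Nat.card_le_card_of_injective
        (fun q : H.fixQ j' => (⟨γ⁻¹ * (q : G) * γ⁻¹⁻¹, ?_⟩ : H.fixQ j)) fun a b h => ?_)
      (Nat.card_le_card_of_injective (fun q : H.fixQ j => (⟨γ * (q : G) * γ⁻¹, H.conj_fixQ hγz q.2⟩ : H.fixQ j'))
        fun a b h => Subtype.ext (mul_left_cancel (mul_right_cancel (congrArg Subtype.val h :))))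
    · have h := H.conj_fixQ (show Commute γ H.z from hγz).inv_left.eq q.2
      rwa [show γ⁻¹ * j' * γ⁻¹⁻¹ = j by rw [hj']; group] at h
    · exact Subtype.ext (mul_left_cancel (mul_right_cancel (congrArg Subtype.val h :)))
  have hnQ : ∀ y, H.fixQ y ≤ H.Q := fun y => inf_le_left
  -- the intersection has order at least 27
  have hAge : 27 ≤ Nat.card A := by
    have hd : ∀ y : G, Nat.card (H.fixQ y) ∣ 3 ^ 5 := fun y => by
      have := card_dvd_of_le (hnQ y)
      rwa [H.Q_card] at this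
    obtain ⟨n, hn, hc⟩ := (Nat.dvd_prime_pow Nat.prime_three).1 (hd j)
    have h81 : 81 ≤ Nat.card (H.fixQ j) := by
      rw [hc] at hlt ⊢
      interval_cases n <;> simp_all
    have hrel : (H.fixQ j).relIndex H.Q * Nat.card (H.fixQ j) = 243 := by
      rw [mul_comm, Grp.card_mul_relIndex (hnQ j), H.Q_card]
    have hrel' : (H.fixQ j').relIndex H.Q * Nat.card (H.fixQ j') = 243 := by
      rw [mul_comm, Grp.card_mul_relIndex (hnQ j'), H.Q_card]
    have hinf := Subgroup.relIndex_inf_le (H := H.fixQ j) (K := H.fixQ j') (L := H.Q)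
    have hA' := Grp.card_mul_relIndex (inf_le_left.trans (hnQ j) : A ≤ H.Q)
    rw [H.Q_card] at hA'
    have b1 : (H.fixQ j).relIndex H.Q ≤ 3 := by nlinarith
    have b2 : (H.fixQ j').relIndex H.Q ≤ 3 := by nlinarith [hF']
    have b3 : A.relIndex H.Q ≤ 9 := hinf.trans (Nat.mul_le_mul b1 b2)
    nlinarith
  -- it is invariant under a product of order five
  let K := centMod H.z (A : Set G)
  have hjz := H.L_cz hj
  have hj'L : j' ∈ H.L := mul_mem (mul_mem hγ hj) (inv_mem hγ)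
  have hfix : ∀ y, y * H.z = H.z * y → A ≤ H.fixQ y → y ∈ K := fun y hy hle => ⟨hy, fun q hq => by
    have := inv_mem (H.mem_fixQ.1 (hle hq)).2
    rwa [show (q * y * q⁻¹ * y⁻¹)⁻¹ = y * q * y⁻¹ * q⁻¹ by group] at this⟩
  have hmK : j * j' ∈ K := mul_mem (hfix j hjz inf_le_left) (hfix j' (H.L_cz hj'L) inf_le_right)
  set m : G := j * j' with hm
  have hmL : m ∈ H.L := mul_mem hj hj'L
  have hψm : H.ψ ⟨m, hmL⟩ = H.ψ ⟨j, hj⟩ * (H.ψ ⟨γ, hγ⟩ * H.ψ ⟨j, hj⟩ * (H.ψ ⟨γ, hγ⟩)⁻¹) := by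
    rw [← map_inv, ← map_mul, ← map_mul, ← map_mul]; rfl
  have h5 : 5 ∣ orderOf (⟨m, hmL⟩ : H.L) := by
    refine dvd_trans ?_ (orderOf_map_dvd H.ψ _)
    rw [hψm]
    have hd := orderOf_dvd_of_pow_eq_one hg10
    have h2 : ¬ orderOf (H.ψ ⟨j, hj⟩ * (H.ψ ⟨γ, hγ⟩ * H.ψ ⟨j, hj⟩ * (H.ψ ⟨γ, hγ⟩)⁻¹)) ∣ 2 := fun h =>
      hg2 (by rw [← sq]; exact orderOf_dvd_iff_pow_eq_one.1 h)
    generalize orderOf (H.ψ ⟨j, hj⟩ * (H.ψ ⟨γ, hγ⟩ * H.ψ ⟨j, hj⟩ * (H.ψ ⟨γ, hγ⟩)⁻¹)) = k at hd h2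
    have : k ≤ 10 := Nat.le_of_dvd (by norm_num) hd
    interval_cases k <;> simp_all
  rw [Subgroup.orderOf_mk] at h5
  set u := m ^ (orderOf m / 5) with hu
  have huo : orderOf u = 5 := orderOf_pow_orderOf_div (orderOf_pos m).ne' h5
  have hAQ : A ≤ H.Q := inf_le_left.trans (hnQ j)
  have hzA : H.z ∈ A := ⟨H.z_fixQ hjz, H.z_fixQ (H.L_cz hj'L)⟩
  have huinv : ∀ a ∈ A, u * a * u⁻¹ ∈ A := fun a ha => by
    have := (pow_mem hmK _ : u ∈ K).2 a ha
    have h := mul_mem (zpowers_le.2 hzA this) ha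
    rwa [inv_mul_cancel_right] at h
  have huL : u ∈ H.L := pow_mem hmL _
  rcases H.five_invariant huL huo hAQ hzA huinv with h | h
  · rw [h, H.card_Z] at hAge
    omega
  -- so `j` acts trivially on `Q` modulo the centre, and so does `u`
  have huK : u ∈ centMod H.z (H.Q : Set G) := by
    refine ⟨H.L_cz huL, fun q hq => (pow_mem hmK _ : u ∈ K).2 q ?_⟩
    rw [h]; exact hq
  obtain ⟨a, haQ, ha⟩ : ∃ a ∈ H.Q, a ∉ zpowers H.z := by
    by_contra hh
    push Not at hh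
    have := card_le_of_le (show H.Q ≤ zpowers H.z from hh)
    rw [H.Q_card, H.card_Z] at this
    omega
  rcases H.five_invariant huL huo (A := zpowers H.z ⊔ zpowers a) (sup_le H.Z_le_Q (zpowers_le.2 haQ))
    (le_sup_left (b := zpowers a) (mem_zpowers H.z)) (fun b hb => by
      have := huK.2 b ((sup_le H.Z_le_Q (zpowers_le.2 haQ)) hb)
      have h' := mul_mem ((le_sup_left : zpowers H.z ≤ zpowers H.z ⊔ zpowers a) this) hb
      rwa [inv_mul_cancel_right] at h') with h' | h'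
  · exact ha (h' ▸ (le_sup_right : zpowers a ≤ zpowers H.z ⊔ zpowers a) (mem_zpowers a))
  · have hc : Nat.card ↥(zpowers H.z ⊔ zpowers a) ≤ 9 := by
      have hn : zpowers a ≤ normalizer (zpowers H.z : Set G) := zpowers_le.2
        (Subgroup.mem_normalizer_fintype fun b hb => by
          rw [← H.Z_cen hb haQ, mul_inv_cancel_right]; exact hb)
      have := Grp.card_sup_mul_card_inf hn
      rw [sup_comm, H.card_Z, Nat.card_zpowers] at this
      have h3a : orderOf a ≤ 3 := orderOf_le_of_pow_eq_one (by norm_num) (H.Q_cube a haQ)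
      have := Nat.card_pos (α := ↥(zpowers a ⊓ zpowers H.z))
      nlinarith
    rw [h', H.Q_card] at hc
    omega

end Hyp

end Cfsg.Agent.Spor.McLThree
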