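import Mathlib
import Cfsg.Agent.Lib.Recog.DihedralHom

/-!
The dihedral group of order eight on four points.
-/

set_option autoImplicit false
set_option maxRecDepth 100000
set_option synthInstance.maxSize 4096

namespace Cfsg.Agent.Spor.McLThree

open Equiv

/-- The four cycle. -/
def fc4 : Perm (Fin 4) := swap 0 1 * swap 1 2 * swap 2 3

/-- The reflection. -/
def fs4 : Perm (Fin 4) := swap 1 3

theorem four_facts : fc4 ^ 4 = 1 ∧ fs4 * fs4 = 1 ∧ fs4 * fc4 * fs4⁻¹ = fc4⁻¹ ∧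
    (∀ p : Perm (Fin 4), p * fc4 ^ 2 = fc4 ^ 2 * p → ∃ i : Fin 4, p = fc4 ^ (i : ℕ) ∨ p = fs4 * fc4 ^ (i : ℕ)) ∧
    (∀ i j : Fin 4, fs4 * fc4 ^ (i : ℕ) ≠ fc4 ^ (j : ℕ) ∧ (fc4 ^ (i : ℕ) = fc4 ^ (j : ℕ) → i = j)) ∧
    fc4 ^ 2 = swap 0 2 * swap 1 3 := by
  decide +kernel

/-- The embedding of the dihedral group. -/
noncomputable def dih4 : DihedralGroup 4 →* Perm (Fin 4) :=
  Recog.dihedralHom fc4 fs4 four_facts.1 four_facts.2.1 four_facts.2.2.1

theorem dih4_range {p : Perm (Fin 4)} (h : p * fc4 ^ 2 = fc4 ^ 2 * p) : p ∈ dih4.range := by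
  have hc : fc4 ∈ dih4.range := ⟨.r 1, Recog.dihedralHom_r ..⟩
  have hs : fs4 ∈ dih4.range := ⟨.sr 0, Recog.dihedralHom_sr ..⟩
  obtain ⟨i, rfl | rfl⟩ := four_facts.2.2.2.1 p h
  exacts [pow_mem hc _, mul_mem hs (pow_mem hc _)]

theorem dih4_inj : Function.Injective dih4 := by
  have h8 : Nat.card (DihedralGroup 4) = 8 := DihedralGroup.nat_card
  have hr : 8 ≤ Nat.card dih4.range := by
    have hmem : ∀ i : Fin 4, fc4 ^ (i : ℕ) ∈ dih4.range ∧ fs4 * fc4 ^ (i : ℕ) ∈ dih4.range := fun i =>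
      ⟨dih4.range.pow_mem ⟨.r 1, Recog.dihedralHom_r ..⟩ _, dih4.range.mul_mem ⟨.sr 0, Recog.dihedralHom_sr ..⟩
        (dih4.range.pow_mem ⟨.r 1, Recog.dihedralHom_r ..⟩ _)⟩
    let f : Fin 4 ⊕ Fin 4 → dih4.range := Sum.elim (fun i => ⟨_, (hmem i).1⟩) (fun i => ⟨_, (hmem i).2⟩)
    have hf : Function.Injective f := by
      rintro (i | i) (j | j) h <;> have h' := congrArg Subtype.val h
      · exact congrArg _ ((four_facts.2.2.2.2.1 i j).2 h')
      · exact absurd h'.symm (four_facts.2.2.2.2.1 j i).1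
      · exact absurd h' (four_facts.2.2.2.2.1 i j).1
      · exact congrArg _ ((four_facts.2.2.2.2.1 i j).2 (mul_left_cancel h'))
    simpa using Nat.card_le_card_of_injective f hf
  rw [← MonoidHom.ker_eq_bot_iff]
  refine Subgroup.eq_bot_of_card_le _ ?_
  have h := dih4.ker.card_mul_index
  rw [Subgroup.index_ker, h8] at h
  nlinarith

end Cfsg.Agent.Spor.McLThree
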