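import Cfsg.Agent.Lib.Spor.McLThree.NormLocal

/-!
Fusion in `J` is controlled by its normalizer; elements centralising `z` and fixing a further line of `J ∩ Q`
normalise `J`.
-/

set_option autoImplicit false
set_option maxRecDepth 100000
set_option linter.unusedSectionVars false

namespace Cfsg.Agent.Spor.McLThree

open Subgroup Cfsg.Agent.Spor.UFourType

universe u

variable {G : Type u} [Group G] [Finite G]

namespace Hyp

variable (H : Hyp G)

theorem exists_sylow : ∃ P : Sylow 3 G, (P : Subgroup G) = H.S := by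
  haveI : Fact (Nat.Prime 3) := ⟨Nat.prime_three⟩
  obtain ⟨P, hP⟩ := H.S_isPGroup.exists_le_sylow
  exact ⟨P, (eq_of_le_of_card_ge hP (H.S_card.symm ▸ H.S_max _ P.isPGroup')).symm⟩

/-- `J` is the only abelian subgroup of order `81` of any three-subgroup above it. -/
theorem abel_unique_pGroup {R A : Subgroup G} (hR : IsPGroup 3 R) (hJR : H.J ≤ R) (hA : A ≤ R)
    (hc : ∀ a ∈ A, ∀ b ∈ A, a * b = b * a) (h81 : Nat.card A = 81) : A = H.J := by
  haveI : Fact (Nat.Prime 3) := ⟨Nat.prime_three⟩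
  obtain ⟨P, hP⟩ := hR.exists_le_sylow
  obtain ⟨P0, hP0⟩ := H.exists_sylow
  obtain ⟨h, hh⟩ := MulAction.exists_smul_eq G P P0
  have hmap : (P : Subgroup G).map (MulAut.conj h).toMonoidHom = H.S := by
    rw [← hP0, ← hh]; exact (Sylow.coe_subgroup_smul ..).symm
  have key : ∀ B : Subgroup G, B ≤ R → (∀ a ∈ B, ∀ b ∈ B, a * b = b * a) → Nat.card B = 81 →
      B.map (MulAut.conj h).toMonoidHom = H.J := by
    intro B hB hBc hB81
    refine H.abel81_unique (hmap ▸ map_mono (hB.trans hP)) ?_ (by rw [card_map_of_injective (MulAut.conj h).injective, hB81])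
    rintro _ ⟨a, ha, rfl⟩ _ ⟨b, hb, rfl⟩
    rw [← map_mul, ← map_mul, hBc a ha b hb]
  exact map_injective (f := (MulAut.conj h).toMonoidHom) (MulAut.conj h).injective
    ((key A hA hc h81).trans (key H.J hJR H.J_comm H.J_card).symm)

/-- Burnside's fusion. -/
theorem fusion {a b g : G} (ha : a ∈ H.J) (hb : b ∈ H.J) (h : g * a * g⁻¹ = b) :
    ∃ n ∈ normalizer (H.J : Set G), n * a * n⁻¹ = b := by
  haveI : Fact (Nat.Prime 3) := ⟨Nat.prime_three⟩
  set K := centralizer ({b} : Set G)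
  set J' := H.J.map (MulAut.conj g).toMonoidHom
  have hJK : H.J ≤ K := fun x hx => mem_centralizer_singleton_iff.2 (H.J_comm x hx b hb)
  have hJ'K : J' ≤ K := by
    rintro _ ⟨x, hx, rfl⟩
    refine mem_centralizer_singleton_iff.2 ?_
    rw [← h, MulEquiv.coe_toMonoidHom, ← MulAut.conj_apply, ← map_mul, ← map_mul, H.J_comm x hx a ha]
  have hp : ∀ T : Subgroup G, Nat.card T = 81 → T ≤ K → IsPGroup 3 (T.subgroupOf K) := fun T hT hle =>
    IsPGroup.of_card (n := 4) (by rw [Nat.card_congr (subgroupOfEquivOfLe hle).toEquiv, hT]; norm_num)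
  have hJ'81 : Nat.card J' = 81 := by rw [card_map_of_injective (MulAut.conj g).injective, H.J_card]
  obtain ⟨P, hP⟩ := (hp _ H.J_card hJK).exists_le_sylow
  obtain ⟨P', hP'⟩ := (hp _ hJ'81 hJ'K).exists_le_sylow
  obtain ⟨c, hc⟩ := MulAction.exists_smul_eq K P' P
  set A := J'.map (MulAut.conj (c : G)).toMonoidHom with hA
  have hAP : A ≤ (P : Subgroup K).map K.subtype := by
    rintro _ ⟨y, hy, rfl⟩
    have h1 : (⟨y, hJ'K hy⟩ : K) ∈ (P' : Subgroup K) := hP' (mem_subgroupOf.2 hy)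
    have h2 : MulAut.conj c (⟨y, hJ'K hy⟩ : K) ∈ (P : Subgroup K) := by
      rw [← hc, Sylow.coe_subgroup_smul]
      exact mem_map_of_mem (MulAut.conj c).toMonoidHom h1
    exact ⟨_, h2, rfl⟩
  have hJP : H.J ≤ (P : Subgroup K).map K.subtype := fun x hx => ⟨⟨x, hJK hx⟩, hP (mem_subgroupOf.2 hx), rfl⟩
  have hAJ := H.abel_unique_pGroup (P.isPGroup'.map K.subtype) hJP hAP (A := A)
    (by
      rintro _ ⟨_, ⟨x, hx, rfl⟩, rfl⟩ _ ⟨_, ⟨y, hy, rfl⟩, rfl⟩
      rw [← map_mul, ← map_mul, ← map_mul, ← map_mul, H.J_comm x hx y hy])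
    (by rw [hA, card_map_of_injective (MulAut.conj (c : G)).injective, hJ'81])
  refine ⟨(c : G) * g, Subgroup.mem_normalizer_fintype fun x hx => ?_, ?_⟩
  · rw [← hAJ]
    refine ⟨g * x * g⁻¹, ⟨x, hx, rfl⟩, ?_⟩
    show (c : G) * (g * x * g⁻¹) * (c : G)⁻¹ = _
    group
  · have hcb := mem_centralizer_singleton_iff.1 c.2
    rw [show (c : G) * g * a * ((c : G) * g)⁻¹ = (c : G) * (g * a * g⁻¹) * (c : G)⁻¹ by group, h, hcb,
      mul_inv_cancel_right]

end Hyp

namespace Sec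

variable {H : Hyp G} (C : Sec H)

/-- Singular vectors are preserved by all conjugations. -/
theorem fusion_sng {g : G} {u v : ℕ} (hu : u < 81) (hv : v < 81) (h : g * C.ev u * g⁻¹ = C.ev v)
    (hs : sngP u = true) : sngP v = true := by
  obtain ⟨n, hn, hn'⟩ := H.fusion (C.ev_J u) (C.ev_J v) h
  obtain ⟨A, hA⟩ := C.exists_act hn
  rw [hA.2 u hu] at hn'
  rw [← C.ev_inj (ap_lt A u) hv hn']
  exact C.sng_pres hn hA hu hs

include C in
/-- An element centralising `z` and fixing a line of `J ∩ Q` outside the centre normalises `J`. -/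
theorem cz_x_norm {g x : G} (hgz : g * H.z = H.z * g) (hx : x ∈ H.J ⊓ H.Q) (hxZ : x ∉ zpowers H.z)
    (hgx : g * x * g⁻¹ ∈ zpowers x) : g ∈ normalizer (H.J : Set G) := by
  have hgfL : g * C.f * g⁻¹ ∈ H.L := H.conj_L_mem hgz C.f_L
  obtain ⟨hu3, hu1⟩ := C.uf_spec
  set y := H.ψ ⟨g * C.f * g⁻¹, hgfL⟩ with hy
  have hy3 : y * y * y = 1 := by
    rw [hy, ← map_mul, ← map_mul, ← map_one H.ψ]
    refine congrArg H.ψ (Subtype.ext ?_)
    show g * C.f * g⁻¹ * (g * C.f * g⁻¹) * (g * C.f * g⁻¹) = 1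
    rw [show g * C.f * g⁻¹ * (g * C.f * g⁻¹) * (g * C.f * g⁻¹) = g * C.f ^ 3 * g⁻¹ by
      rw [pow_succ, sq]; group, C.bas.f3, mul_one, mul_inv_cancel]
  have hy1 : y ≠ 1 := fun h => by
    have h1 := H.norm_Q g⁻¹ (show Commute g H.z from hgz).inv_left.eq _ ((H.ψ_ker _).1 h)
    exact C.f_not_Q (by simpa [mul_assoc] using h1)
  set K := centralizer ({x} : Set G)
  have hfK : C.f ∈ K := mem_centralizer_singleton_iff.2 (H.J_comm _ C.f_J x hx.1)
  have hgfK : g * C.f * g⁻¹ ∈ K := by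
    refine mem_centralizer_singleton_iff.2 ?_
    have hgx' := hgx
    have hc : Commute (g * C.f * g⁻¹) (g * x * g⁻¹) := by
      show _ = _
      rw [← MulAut.conj_apply, ← MulAut.conj_apply, ← map_mul, ← map_mul, H.J_comm _ C.f_J x hx.1]
    obtain ⟨k, hk⟩ : x ∈ zpowers (g * x * g⁻¹) := by
      have hle : zpowers (g * x * g⁻¹) ≤ zpowers x := zpowers_le.2 hgx'
      rw [eq_of_le_of_card_ge hle (by
        rw [Nat.card_zpowers, Nat.card_zpowers, ← MulAut.conj_apply, (MulAut.conj g).orderOf_eq])]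
      exact mem_zpowers x
    rw [← hk]
    exact (hc.zpow_right k).eq
  have hno : ∀ w (hw : w ∈ H.L), w ∈ K → H.ψ ⟨w, hw⟩ ≠ -1 := by
    intro w hw hwK h
    obtain ⟨t, ht, ht2, htψ, -, -⟩ := C.exists_t
    have hq : t⁻¹ * w ∈ H.Q := (H.psi_eq_iff ht hw).1 (htψ.trans h.symm)
    set q := t⁻¹ * w with hq'
    have hwx : w * x * w⁻¹ = x := by rw [mem_centralizer_singleton_iff.1 hwK, mul_inv_cancel_right]
    refine hxZ (H.invol_fix ht ht2 htψ hx.2 ?_)
    obtain ⟨i, hi⟩ := H.Q_comm q hq x hx.2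
    have htz : Commute t (H.z ^ i) := (show Commute t H.z from H.L_cz ht).zpow_right i
    have h1 : q * x * q⁻¹ = H.z ^ i * x := by
      rw [show H.z ^ i = q * x * q⁻¹ * x⁻¹ from hi]; group
    have h2 : t * (H.z ^ i * x) * t⁻¹ = x := by
      rw [← h1]
      calc t * (q * x * q⁻¹) * t⁻¹ = (t * q) * x * (t * q)⁻¹ := by group
        _ = x := by rw [hq', mul_inv_cancel_left, hwx]
    refine ⟨-i, ?_⟩
    show H.z ^ (-i) = _
    calc H.z ^ (-i) = (t * H.z ^ i * t⁻¹)⁻¹ := by rw [htz.eq, mul_inv_cancel_right, zpow_neg]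
      _ = (t * H.z ^ i * t⁻¹)⁻¹ * (t * (H.z ^ i * x) * t⁻¹ * x⁻¹) := by rw [h2, mul_inv_cancel, mul_one]
      _ = _ := by group
  have hyu : y = C.uf ∨ y = C.uf * C.uf := by
    by_contra hcon
    push Not at hcon
    have hm := mul_mem C.f_L hgfL
    have hm' := mul_mem C.f_L (mul_mem hgfL hgfL)
    have hmK := mul_mem hfK hgfK
    have hmK' := mul_mem hfK (mul_mem hgfK hgfK)
    have e : H.ψ ⟨_, hm⟩ = C.uf * y := H.psi_mul C.f_L hgfL
    have e' : H.ψ ⟨_, hm'⟩ = C.uf * (y * y) := by rw [H.psi_mul C.f_L (mul_mem hgfL hgfL), H.psi_mul hgfL hgfL]; rfl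
    rcases sl5_minus _ hu3 hu1 y hy3 hcon.1 hcon.2 hy1 with (h | h | h) | (h | h | h)
    exacts [hno _ (pow_mem hm 2) (pow_mem hmK 2) (by rw [H.psi_pow hm, e, h]),
      hno _ (pow_mem hm 3) (pow_mem hmK 3) (by rw [H.psi_pow hm, e, h]),
      hno _ (pow_mem hm 5) (pow_mem hmK 5) (by rw [H.psi_pow hm, e, h]),
      hno _ (pow_mem hm' 2) (pow_mem hmK' 2) (by rw [H.psi_pow hm', e', h]),
      hno _ (pow_mem hm' 3) (pow_mem hmK' 3) (by rw [H.psi_pow hm', e', h]),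
      hno _ (pow_mem hm' 5) (pow_mem hmK' 5) (by rw [H.psi_pow hm', e', h])]
  have hgf : g * C.f * g⁻¹ ∈ H.S := by
    rcases hyu with h | h
    · exact C.mem_S_of_psi hgfL (i := 1) (by rw [pow_one]; exact h)
    · exact C.mem_S_of_psi hgfL (i := 2) (by rw [sq]; exact h)
  refine H.norm_J_of_norm_S fun s hs => ?_
  obtain ⟨i, -, hi⟩ := C.psi_S hs
  have hq : (C.f ^ i)⁻¹ * s ∈ H.Q := (H.psi_eq_iff (pow_mem C.f_L i) (H.S_le_L hs)).1 (by rw [H.psi_pow C.f_L, hi]; rfl)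
  rw [show g * s * g⁻¹ = g * C.f ^ i * g⁻¹ * (g * ((C.f ^ i)⁻¹ * s) * g⁻¹) by group, ← conj_pow]
  exact mul_mem (pow_mem hgf i) (H.Q_le_S (H.norm_Q g hgz _ hq))

end Sec

end Cfsg.Agent.Spor.McLThree
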