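import Cfsg.Agent.Lib.Spor.UFourType.Vec

/-!
The matrices by which the lifts of four permutations of six points can act on the elementary group: they are
determined, and they generate the table of 360 matrices.
-/

set_option autoImplicit false
set_option maxRecDepth 100000
set_option synthInstance.maxSize 1024
set_option synthInstance.maxHeartbeats 200000

namespace Cfsg.Agent.Spor.McLThree

open Cfsg.Agent.Spor.UFourType

/-- The matrix with given images of `z`, `f`, `e₁`, `e₂`, coded `4, 7, 18, 54`. -/
def mB (iz jf i1 i2 : ℕ) : ℕ := mK (vA (vS 2 iz) (vS 2 jf)) (vA (vS 2 iz) jf) (vS 2 i1) (vS 2 i2)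

/-- The matrix of the first generator. -/
def mA0 : ℕ := 14436240

/-- The matrix of the second generator. -/
def mB0 : ℕ := 16538694

/-- The matrix of the element of order four. -/
def mH0 : ℕ := 5137751

/-- The matrix of the outer involution. -/
def mW0 : ℕ := 14467492

/-- The matrix of the central involution of the dihedral group. -/
def mT0 : ℕ := mK 1 3 18 54

/-- The word of the element of order four in the three generators. -/
def hWord : List ℕ := [1, 2, 0, 1, 2, 0, 0, 1, 2, 1]

/-- The shape of the first generator. -/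
def shapeA (k p r : ℕ) : ℕ := mB 4 (vA 7 (vA 18 (vS k 4))) (vA 18 (vS p 4)) (vA 54 (vS r 4))

/-- The shape of the second generator. -/
def shapeB (k p r : ℕ) : ℕ := mB 4 (vA 7 (vA 54 (vS k 4))) (vA 18 (vS p 4)) (vA 54 (vS r 4))

/-- The shape of the element of order four. -/
def shapeH (c x y : ℕ) : ℕ := mB (vS c 4) (vS c 7) x y

/-- The shape of the outer involution. -/
def shapeW (x y : ℕ) : ℕ := mB 7 4 x y

/-- The vectors of the middle plane. -/
def midL : List ℕ := [0, 9, 18, 27, 36, 45, 54, 63, 72]

theorem mid_codes : ∀ v < 81, ap mT0 v = vS 2 v → v ∈ midL := by decide +kernel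

/-- What is checked on the first generator. -/
def okA (A : ℕ) : Bool := Nat.beq (mM (mM mT0 A) (mM mT0 A)) mI

/-- What is checked on the second generator. -/
def okB (A B : ℕ) : Bool := okA B && Nat.beq (mM A B) (mM B A)

/-- What is checked on the element of order four. -/
def okH (A B H : ℕ) : Bool := Nat.beq (mM H H) mT0 && Nat.beq (mM (mM H A) (mM mT0 H)) B

/-- What is checked on the outer involution. -/
def okW (A B H W : ℕ) : Bool :=
  Nat.beq (mM W W) mI && (Nat.beq (mM (mM W H) (mM W H)) mI && (Nat.beq (mW [mM A W] [0, 0, 0]) mI &&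
    (Nat.beq (mW [mM B W] [0, 0, 0, 0]) mI && Nat.beq (mW [A, B, W] hWord) H)))

/-- The whole search. -/
def chkAct : Bool :=
  (List.range 27).all fun i => !okA (shapeA (i % 3) (i / 3 % 3) (i / 9)) ||
    ((List.range 27).all fun j => !okB (shapeA (i % 3) (i / 3 % 3) (i / 9)) (shapeB (j % 3) (j / 3 % 3) (j / 9)) ||
      ([1, 2].all fun c => midL.all fun x => midL.all fun y =>
        !okH (shapeA (i % 3) (i / 3 % 3) (i / 9)) (shapeB (j % 3) (j / 3 % 3) (j / 9)) (shapeH c x y) ||
          (midL.all fun u => midL.all fun v =>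
            !okW (shapeA (i % 3) (i / 3 % 3) (i / 9)) (shapeB (j % 3) (j / 3 % 3) (j / 9)) (shapeH c x y) (shapeW u v) ||
              (Nat.beq (shapeA (i % 3) (i / 3 % 3) (i / 9)) mA0 &&
                (Nat.beq (shapeB (j % 3) (j / 3 % 3) (j / 9)) mB0 &&
                  (Nat.beq (shapeH c x y) mH0 && Nat.beq (shapeW u v) mW0))))))

theorem chkAct_ok : chkAct = true := by decide +kernel

theorem act_unique {k p r k' p' r' c x y u v : ℕ} (hk : k < 3) (hp : p < 3) (hr : r < 3) (hk' : k' < 3) (hp' : p' < 3)
    (hr' : r' < 3) (hc : c = 1 ∨ c = 2) (hx : x ∈ midL) (hy : y ∈ midL) (hu : u ∈ midL) (hv : v ∈ midL)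
    (h1 : okA (shapeA k p r) = true) (h2 : okB (shapeA k p r) (shapeB k' p' r') = true)
    (h3 : okH (shapeA k p r) (shapeB k' p' r') (shapeH c x y) = true)
    (h4 : okW (shapeA k p r) (shapeB k' p' r') (shapeH c x y) (shapeW u v) = true) :
    shapeA k p r = mA0 ∧ shapeB k' p' r' = mB0 ∧ shapeH c x y = mH0 ∧ shapeW u v = mW0 := by
  have h := chkAct_ok
  simp only [chkAct, List.all_eq_true, List.mem_range, Bool.or_eq_true, Bool.not_eq_true'] at h
  have a := (h (k + 3 * p + 9 * r) (by omega)).resolve_left
  rw [show (k + 3 * p + 9 * r) % 3 = k by omega, show (k + 3 * p + 9 * r) / 3 % 3 = p by omega,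
    show (k + 3 * p + 9 * r) / 9 = r by omega] at a
  have b := (a (by simp [h1]) (k' + 3 * p' + 9 * r') (by omega)).resolve_left
  rw [show (k' + 3 * p' + 9 * r') % 3 = k' by omega, show (k' + 3 * p' + 9 * r') / 3 % 3 = p' by omega,
    show (k' + 3 * p' + 9 * r') / 9 = r' by omega] at b
  have d := (b (by simp [h2]) c (by rcases hc with rfl | rfl <;> simp) x hx y hy).resolve_left (by simp [h3])
  have e := (d u hu v hv).resolve_left (by simp [h4])
  simp only [Bool.and_eq_true] at e
  exact ⟨Nat.eq_of_beq_eq_true e.1, Nat.eq_of_beq_eq_true e.2.1, Nat.eq_of_beq_eq_true e.2.2.1,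
    Nat.eq_of_beq_eq_true e.2.2.2⟩

end Cfsg.Agent.Spor.McLThree
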