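import Cfsg.Agent.Lib.Spor.McLThree.Base

/-!
The two elements inverted by `(12)(45)`, and the independence of the four basis elements.
-/

set_option autoImplicit false
set_option linter.unusedSectionVars false

namespace Cfsg.Agent.Spor.McLThree

open Subgroup

universe u

variable {G : Type u} [Group G] [Finite G]

namespace Hyp

variable (H : Hyp G)

theorem pow_Z {x : G} (hx : x ∈ zpowers H.z) : ∃ k < 3, x = H.z ^ k := by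
  obtain ⟨k, hk⟩ := (IsPGroup.of_card (n := 1) (by rw [H.card_Z]; rfl) : IsPGroup 3 (zpowers H.z)) ⟨x, hx⟩
  obtain ⟨i, hi⟩ := mem_zpowers_iff.1 hx
  refine ⟨(i % 3).toNat, ?_, ?_⟩
  · have := Int.emod_lt_of_pos i (show (0 : ℤ) < 3 by norm_num)
    omega
  · rw [← zpow_natCast, Int.toNat_of_nonneg (Int.emod_nonneg i (by norm_num)), ← hi]
    conv_lhs => rw [← Int.emod_add_mul_ediv i 3, zpow_add, zpow_mul,
      show H.z ^ (3 : ℤ) = 1 by exact_mod_cast H.z_cube, one_zpow, mul_one]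

theorem S_comm_Q {s t : G} (hs : s ∈ H.S) (ht : t ∈ H.S) : s * t * s⁻¹ * t⁻¹ ∈ H.Q := by
  obtain ⟨j, hj, q, hq, rfl⟩ := H.mem_S hs
  obtain ⟨k, hk, r, hr, rfl⟩ := H.mem_S ht
  have hjn : ∀ {a b : G}, a ∈ H.J → b ∈ H.Q → a * b * a⁻¹ ∈ H.Q := fun {a b} ha hb =>
    H.norm_Q a (H.S_cz a (H.J_le_S ha)) b hb
  have e : j * q * (k * r) * (j * q)⁻¹ * (k * r)⁻¹ =
      (j * q * j⁻¹) * ((j * k) * r * (j * k)⁻¹) * ((j * k) * q⁻¹ * (j * k)⁻¹) * (k * r⁻¹ * k⁻¹) := by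
    have hc := H.J_comm j hj k hk
    rw [show j * k * q⁻¹ * (j * k)⁻¹ = j * k * q⁻¹ * (k * j)⁻¹ by rw [hc]]
    group
  rw [e]
  exact mul_mem (mul_mem (mul_mem (hjn hj hq) (hjn (mul_mem hj hk) hr)) (hjn (mul_mem hj hk) (inv_mem hq)))
    (hjn hk (inv_mem hr))

end Hyp

namespace Sec

variable {H : Hyp G} (C : Sec H)

/-- The component inverted by `(12)(45)`. -/
noncomputable def mid (x : G) : G := (x * (C.cj pt x)⁻¹) ^ 2

/-- The displacement of `f`. -/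
noncomputable def dsp (σ : A6) : G := C.cj σ C.f * C.f⁻¹

/-- The first element of the middle plane. -/
noncomputable def e1 : G := C.mid (C.dsp pa)

/-- The second element of the middle plane. -/
noncomputable def e2 : G := C.mid (C.dsp pb)

theorem dsp_JQ {σ : A6} (hσ : σ ∈ Sy) : C.dsp σ ∈ H.J ⊓ H.Q :=
  ⟨H.J.mul_mem (C.cj_mem σ C.f_J) (H.J.inv_mem C.f_J), H.S_comm_Q (C.rep_S hσ) (H.J_le_S C.f_J)⟩

theorem pt_JQ {x : G} (hx : x ∈ H.J ⊓ H.Q) : C.cj pt x ∈ H.J ⊓ H.Q :=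
  ⟨C.cj_mem pt hx.1, H.norm_Q _ (mul_inv_eq_iff_eq_mul.1 C.pt_z) x hx.2⟩

theorem pt_pt {x : G} (hx : x ∈ H.J) : C.cj pt (C.cj pt x) = x := by
  rw [C.cj_comp _ _ hx, a6_rels.2.2.2.2.2.2.2.2.1, C.cj_one hx]

theorem mid_JQ {x : G} (hx : x ∈ H.J ⊓ H.Q) : C.mid x ∈ H.J ⊓ H.Q :=
  Subgroup.pow_mem _ (Subgroup.mul_mem _ hx (Subgroup.inv_mem _ (C.pt_JQ hx))) 2

theorem pt_mid {x : G} (hx : x ∈ H.J ⊓ H.Q) : C.cj pt (C.mid x) = (C.mid x)⁻¹ := by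
  rw [mid, C.cj_pow, C.cj_mul, C.cj_inv, C.pt_pt hx.1, ← inv_pow, mul_inv_rev, inv_inv]

theorem mid_rest {x : G} (hx : x ∈ H.J ⊓ H.Q) : x * (C.mid x)⁻¹ ∈ zpowers H.z := by
  set m := C.mid x with hm
  set T := C.cj pt x with hT
  have hmJ := C.mid_JQ hx
  have hTJ := C.pt_JQ hx
  have hc : x * m⁻¹ ∈ H.J ⊓ H.Q := mul_mem hx (inv_mem hmJ)
  have hfix : C.cj pt (x * m⁻¹) = x * m⁻¹ := by
    rw [C.cj_mul, C.cj_inv, hm, C.pt_mid hx, inv_inv, ← hm, ← hT]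
    have h3 : (x * T⁻¹) ^ 3 = 1 := H.J_cube _ (mul_mem hx.1 (inv_mem hTJ.1))
    have hmm : m * m = x * T⁻¹ := by
      rw [hm, mid, ← hT, ← pow_add, show 2 + 2 = 3 + 1 from rfl, pow_succ, h3, one_mul]
    have hx' : x = m * m * T := by rw [hmm, inv_mul_cancel_right]
    calc T * m = m * T := H.J_comm T hTJ.1 m hmJ.1
      _ = m * (T * m) * m⁻¹ := by group
      _ = m * (m * T) * m⁻¹ := by rw [H.J_comm T hTJ.1 m hmJ.1]
      _ = x * m⁻¹ := by rw [hx']; group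
  generalize x * m⁻¹ = c at hc hfix ⊢
  have hσ : ∀ σ ∈ Sy, pt * σ * pt = σ⁻¹ → C.cj σ c = c := by
    intro σ hσ hinv
    set d := C.cj σ c * c⁻¹ with hd
    have hdZ : d ∈ zpowers H.z := by
      have h := inv_mem (H.JQ_comm hc (C.rep_S hσ))
      have e : d = (c * C.rep σ * c⁻¹ * (C.rep σ)⁻¹)⁻¹ := by rw [hd]; unfold cj; group
      rwa [e]
    obtain ⟨k, -, hk⟩ := H.pow_Z hdZ
    have hTd : C.cj pt d = d := by rw [hk, C.cj_pow, C.pt_z]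
    have hd' : C.cj σ⁻¹ c * c⁻¹ = d := by
      rw [← hTd, hd, C.cj_mul, C.cj_inv, hfix, C.cj_comp _ _ hc.1,
        show pt * σ = σ⁻¹ * pt by rw [← hinv, mul_assoc, a6_rels.2.2.2.2.2.2.2.2.1, mul_one],
        ← C.cj_comp _ _ hc.1, hfix]
    have hd'' : C.cj σ⁻¹ d = d := by rw [hk, C.cj_pow, C.cj_Sy_z (inv_mem hσ)]
    have h1 : c = d * (d * c) := by
      have e : C.cj σ c = d * c := by rw [hd, inv_mul_cancel_right]
      calc c = C.cj σ⁻¹ (C.cj σ c) := (C.cj_inv_cancel σ hc.1).symm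
        _ = _ := by rw [e, C.cj_mul, hd'', ← hd', inv_mul_cancel_right]
    have h2 : d * d = 1 := by
      rw [← mul_assoc] at h1
      exact mul_eq_right.1 h1.symm
    have h3 : d = 1 := by
      have h4 : d ^ 3 = 1 := by rw [hk, ← pow_mul, mul_comm, pow_mul, H.z_cube, one_pow]
      rwa [pow_succ, sq, h2, one_mul] at h4
    exact mul_inv_eq_one.1 h3
  exact C.fixed_line hc.1 (hσ pa pa_mem_Sy a6_rels.2.2.2.2.1) (hσ pb pb_mem_Sy a6_rels.2.2.2.2.2.1)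

theorem e1_JQ : C.e1 ∈ H.J ⊓ H.Q := C.mid_JQ (C.dsp_JQ pa_mem_Sy)

theorem e2_JQ : C.e2 ∈ H.J ⊓ H.Q := C.mid_JQ (C.dsp_JQ pb_mem_Sy)

theorem cj_JQ {σ : A6} (hσ : σ ∈ Sy) {x : G} (hx : x ∈ H.J ⊓ H.Q) : C.cj σ x * x⁻¹ ∈ zpowers H.z := by
  have h := inv_mem (H.JQ_comm hx (C.rep_S hσ))
  have e : C.cj σ x * x⁻¹ = (x * C.rep σ * x⁻¹ * (C.rep σ)⁻¹)⁻¹ := by unfold cj; group
  rwa [e]

theorem dsp_pow {σ : A6} (hσ : σ ∈ Sy) (n : ℕ) : C.dsp (σ ^ n) * (C.dsp σ ^ n)⁻¹ ∈ zpowers H.z := by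
  induction n with
  | zero => simp [dsp, C.cj_one C.f_J]
  | succ n ih =>
    have hn : σ ^ n ∈ Sy := pow_mem hσ n
    have e : C.dsp (σ ^ (n + 1)) = C.cj σ (C.dsp (σ ^ n)) * C.dsp σ := by
      rw [dsp, dsp, dsp, pow_succ', ← C.cj_comp _ _ C.f_J, C.cj_mul, C.cj_inv]
      group
    have h1 := C.cj_JQ hσ (C.dsp_JQ hn)
    have hc : ∀ a b : G, a ∈ H.J → b ∈ H.J → a * b = b * a := fun a b ha hb => H.J_comm a ha b hb
    have key : C.dsp (σ ^ (n + 1)) * (C.dsp σ ^ (n + 1))⁻¹ =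
        (C.cj σ (C.dsp (σ ^ n)) * (C.dsp (σ ^ n))⁻¹) * (C.dsp (σ ^ n) * (C.dsp σ ^ n)⁻¹) := by
      rw [e, pow_succ, mul_inv_rev]; group
    rw [key]
    exact mul_mem h1 ih

theorem dsp_mul_Sy {σ τ : A6} (hσ : σ ∈ Sy) (hτ : τ ∈ Sy) : C.dsp (σ * τ) * (C.dsp τ * C.dsp σ)⁻¹ ∈ zpowers H.z := by
  have e : C.dsp (σ * τ) = C.cj σ (C.dsp τ) * C.dsp σ := by
    rw [dsp, dsp, dsp, ← C.cj_comp _ _ C.f_J, C.cj_mul, C.cj_inv]
    group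
  rw [e, show C.cj σ (C.dsp τ) * C.dsp σ * (C.dsp τ * C.dsp σ)⁻¹ = C.cj σ (C.dsp τ) * (C.dsp τ)⁻¹ by group]
  exact C.cj_JQ hσ (C.dsp_JQ hτ)

theorem dsp_trivial {σ : A6} (hσ : σ ∈ Sy) (h : C.dsp σ ∈ zpowers H.z) : σ = 1 := by
  obtain ⟨j, hj, q, hq, hjq⟩ := H.mem_S (C.rep_S hσ)
  have hfJ := C.f_J
  obtain ⟨k, -, hk⟩ := H.pow_Z h
  have hqf : q ∈ H.fixQ C.f := by
    refine H.mem_fixQ.2 ⟨hq, ?_⟩
    have hd : C.dsp σ = j * (q * C.f * q⁻¹) * j⁻¹ * C.f⁻¹ := by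
      simp only [dsp, cj, hjq]; group
    have hjz : Commute j (H.z ^ k) := (show Commute j H.z from H.S_cz _ (H.J_le_S hj)).pow_right k
    have hjf : Commute j C.f := H.J_comm j hj _ hfJ
    have e : q * C.f * q⁻¹ * C.f⁻¹ = j⁻¹ * (H.z ^ k * C.f) * j * C.f⁻¹ := by
      rw [← hk, hd]; group
    rw [e, show j⁻¹ * (H.z ^ k * C.f) * j * C.f⁻¹ = H.z ^ k by
      rw [mul_assoc j⁻¹, ← (hjz.mul_right hjf).eq]; group]
    exact pow_mem (mem_zpowers _) k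
  rw [H.fixQ_J hfJ C.f_not_Q] at hqf
  have hrJ : C.rep σ ∈ H.J := hjq ▸ mul_mem hj hqf.1
  have := (C.ker ⟨_, C.rep_mem σ⟩).2 hrJ
  rwa [C.θ_rep] at this

theorem bas : Bas H.z C.f C.e1 C.e2 := by
  have c : ∀ {a b : G}, a ∈ H.J → b ∈ H.J → Commute a b := fun {a b} ha hb => H.J_comm a ha b hb
  exact ⟨H.z_cube, H.J_cube _ C.f_J, H.J_cube _ C.e1_JQ.1, H.J_cube _ C.e2_JQ.1, c H.z_J C.f_J,
    c H.z_J C.e1_JQ.1, c H.z_J C.e2_JQ.1, c C.f_J C.e1_JQ.1, c C.f_J C.e2_JQ.1, c C.e1_JQ.1 C.e2_JQ.1⟩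

/-- The element with a given code. -/
noncomputable def ev (v : ℕ) : G := evB H.z C.f C.e1 C.e2 v

theorem ev_J (v : ℕ) : C.ev v ∈ H.J :=
  mul_mem (mul_mem (mul_mem (pow_mem H.z_J _) (pow_mem C.f_J _)) (pow_mem C.e1_JQ.1 _)) (pow_mem C.e2_JQ.1 _)

theorem ev_eq_one {v : ℕ} (hv : v < 81) (h : C.ev v = 1) : v = 0 := by
  have hb : (2 * Cfsg.Agent.Spor.UFourType.v0 v + Cfsg.Agent.Spor.UFourType.v1 v) % 3 = 0 := by
    set b := 2 * Cfsg.Agent.Spor.UFourType.v0 v + Cfsg.Agent.Spor.UFourType.v1 v with hbdef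
    by_contra hne
    refine C.f_not_Q ?_
    have hmem : C.f ^ b ∈ H.Q := by
      have h' : C.f ^ b = (H.z ^ (2 * Cfsg.Agent.Spor.UFourType.v0 v + 2 * Cfsg.Agent.Spor.UFourType.v1 v))⁻¹ *
          (C.e1 ^ (2 * Cfsg.Agent.Spor.UFourType.v2 v) * C.e2 ^ (2 * Cfsg.Agent.Spor.UFourType.v3 v))⁻¹ := by
        unfold ev evB at h
        rw [← hbdef] at h
        rw [eq_inv_mul_iff_mul_eq, eq_inv_iff_mul_eq_one, ← mul_assoc]
        exact h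
      rw [h']
      exact mul_mem (inv_mem (pow_mem H.z_Q _)) (inv_mem (mul_mem (pow_mem C.e1_JQ.2 _) (pow_mem C.e2_JQ.2 _)))
    rcases (show b % 3 = 1 ∨ b % 3 = 2 by omega) with hb' | hb' <;>
      rw [pow_eq_pow_mod b C.bas.f3, hb'] at hmem
    · rwa [pow_one] at hmem
    · have := mul_mem hmem hmem
      rwa [← pow_add, show 2 + 2 = 3 + 1 from rfl, pow_succ, C.bas.f3, one_mul] at this
  unfold ev evB at h
  rw [pow_eq_pow_mod _ C.bas.f3, hb, pow_zero, mul_one] at h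
  set a := 2 * Cfsg.Agent.Spor.UFourType.v0 v + 2 * Cfsg.Agent.Spor.UFourType.v1 v with hadef
  set c := 2 * Cfsg.Agent.Spor.UFourType.v2 v with hcdef
  set d := 2 * Cfsg.Agent.Spor.UFourType.v3 v with hddef
  have hcd : C.dsp pa ^ c * C.dsp pb ^ d ∈ zpowers H.z := by
    have r1 := C.mid_rest (C.dsp_JQ pa_mem_Sy)
    have r2 := C.mid_rest (C.dsp_JQ pb_mem_Sy)
    obtain ⟨k1, -, h1⟩ := H.pow_Z r1
    obtain ⟨k2, -, h2⟩ := H.pow_Z r2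
    rw [mul_inv_eq_iff_eq_mul] at h1 h2
    change C.dsp pa = H.z ^ k1 * C.e1 at h1
    change C.dsp pb = H.z ^ k2 * C.e2 at h2
    rw [h1, h2, (show Commute (H.z ^ k1) C.e1 from C.bas.zp.pow_left _).mul_pow,
      (show Commute (H.z ^ k2) C.e2 from C.bas.zq.pow_left _).mul_pow]
    have hmove : Commute (C.e1 ^ c) ((H.z ^ k2) ^ d) := (C.bas.zp.symm.pow_right k2).pow_pow c d
    rw [show (H.z ^ k1) ^ c * C.e1 ^ c * ((H.z ^ k2) ^ d * C.e2 ^ d)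
        = (H.z ^ k1) ^ c * (C.e1 ^ c * (H.z ^ k2) ^ d) * C.e2 ^ d by group, hmove.eq,
      show (H.z ^ k1) ^ c * ((H.z ^ k2) ^ d * C.e1 ^ c) * C.e2 ^ d
        = (H.z ^ k1) ^ c * (H.z ^ k2) ^ d * (H.z ^ a)⁻¹ * (H.z ^ a * C.e1 ^ c * C.e2 ^ d) by group, h, mul_one]
    exact mul_mem (mul_mem (pow_mem (pow_mem (mem_zpowers _) _) _) (pow_mem (pow_mem (mem_zpowers _) _) _))
      (inv_mem (pow_mem (mem_zpowers _) _))
  have hσ : pa ^ c * pb ^ d = 1 := by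
    refine C.dsp_trivial (mul_mem (pow_mem pa_mem_Sy _) (pow_mem pb_mem_Sy _)) ?_
    have h1 := C.dsp_mul_Sy (pow_mem pa_mem_Sy c) (pow_mem pb_mem_Sy d)
    have h2 := C.dsp_pow pa_mem_Sy c
    have h3 := C.dsp_pow pb_mem_Sy d
    have hc' : ∀ {p q : G}, p ∈ H.J → q ∈ H.J → p * q = q * p := fun {p q} hp hq => H.J_comm p hp q hq
    have hJ : ∀ σ, C.dsp σ ∈ H.J := fun σ => mul_mem (C.cj_mem σ C.f_J) (inv_mem C.f_J)
    have key : C.dsp (pa ^ c * pb ^ d) = C.dsp (pa ^ c * pb ^ d) * (C.dsp (pb ^ d) * C.dsp (pa ^ c))⁻¹ *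
        ((C.dsp (pb ^ d) * (C.dsp pb ^ d)⁻¹) * (C.dsp (pa ^ c) * (C.dsp pa ^ c)⁻¹) * (C.dsp pa ^ c * C.dsp pb ^ d)) := by
      rw [hc' (pow_mem (hJ pa) c) (pow_mem (hJ pb) d)]
      have e := hc' (mul_mem (hJ (pa ^ c)) (inv_mem (pow_mem (hJ pa) c))) (pow_mem (hJ pb) d)
      rw [show C.dsp (pb ^ d) * (C.dsp pb ^ d)⁻¹ * (C.dsp (pa ^ c) * (C.dsp pa ^ c)⁻¹) * (C.dsp pb ^ d * C.dsp pa ^ c)
        = C.dsp (pb ^ d) * (C.dsp pb ^ d)⁻¹ * (C.dsp (pa ^ c) * (C.dsp pa ^ c)⁻¹ * C.dsp pb ^ d) * C.dsp pa ^ c by group,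
        e]
      group
    rw [key]
    exact mul_mem h1 (mul_mem (mul_mem h3 h2) hcd)
  have hpa : pa ^ 3 = 1 := by rw [pow_succ, sq]; exact a6_rels.1
  have hpb : pb ^ 3 = 1 := by rw [pow_succ, sq]; exact a6_rels.2.1
  rw [pow_eq_pow_mod c hpa, pow_eq_pow_mod d hpb] at hσ
  obtain ⟨hc0, hd0⟩ := sy_inj ⟨c % 3, Nat.mod_lt _ (by norm_num)⟩ ⟨d % 3, Nat.mod_lt _ (by norm_num)⟩ 0 0
    (by simpa using hσ)
  have hc0' : c % 3 = 0 := congrArg Fin.val hc0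
  have hd0' : d % 3 = 0 := congrArg Fin.val hd0
  rw [pow_eq_pow_mod c C.bas.p3, hc0', pow_eq_pow_mod d C.bas.q3, hd0', pow_zero, pow_zero, mul_one, mul_one,
    pow_eq_pow_mod a H.z_cube] at h
  have ha : a % 3 = 0 := by
    by_contra hne
    have h' : H.z ^ (a % 3) = 1 := h
    have hd := orderOf_dvd_of_pow_eq_one h'
    rw [H.z_order] at hd
    have := Nat.le_of_dvd (by omega) hd
    omega
  simp only [Cfsg.Agent.Spor.UFourType.v0, Cfsg.Agent.Spor.UFourType.v1, Cfsg.Agent.Spor.UFourType.v2,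
    Cfsg.Agent.Spor.UFourType.v3] at hb hadef hcdef hddef
  omega

theorem ev_inj {u v : ℕ} (hu : u < 81) (hv : v < 81) (h : C.ev u = C.ev v) : u = v := by
  refine (sub_codes' u hu v hv (C.ev_eq_one (Cfsg.Agent.Spor.UFourType.vA_lt _ _) ?_))
  show evB H.z C.f C.e1 C.e2 _ = 1
  rw [C.bas.ev_add, C.bas.ev_smul]
  change C.ev u * C.ev v ^ 2 = 1
  rw [h, ← pow_succ']
  exact C.bas.ev_three v
where
  sub_codes' : ∀ u < 81, ∀ v < 81, Cfsg.Agent.Spor.UFourType.vA u (Cfsg.Agent.Spor.UFourType.vS 2 v) = 0 → u = v := by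
    decide +kernel

theorem ev_surj {x : G} (hx : x ∈ H.J) : ∃ v < 81, C.ev v = x := by
  have hinj : Function.Injective (fun v : Fin 81 => (⟨C.ev v, C.ev_J v⟩ : H.J)) := fun u v h =>
    Fin.ext (C.ev_inj u.2 v.2 (congrArg Subtype.val h))
  obtain ⟨v, hv⟩ := ((Nat.bijective_iff_injective_and_card _).2 ⟨hinj, by rw [H.J_card, Nat.card_fin]⟩).2 ⟨x, hx⟩
  exact ⟨v, v.2, congrArg Subtype.val hv⟩

end Sec

end Cfsg.Agent.Spor.McLThree
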