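import Cfsg.Agent.Lib.Spor.McLThree.NBase

/-!
The stabilizer of the far point in `M` acts by affine maps with a nonzero translation part.
-/

set_option autoImplicit false
set_option maxRecDepth 100000
set_option synthInstance.maxSize 4096
set_option linter.unusedSectionVars false

namespace Cfsg.Agent.Spor.McLThree

open Subgroup Cfsg.Agent.Spor.UFourType

universe u

variable {G : Type u} [Group G] [Finite G] {H : Hyp G}

/-- The cube of an affine map. -/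
theorem Sec.affine_cube (C : Sec H) {c : ℕ} (hc : c < 81) {k : G} {A : ℕ} (hA : ActB C.ev k A) (hk : k * (k * k) = 1)
    (hg : C.ev c * k * (C.ev c * k * (C.ev c * k)) = 1) :
    vA c (vA (ap A c) (ap (mM A A) c)) = 0 := by
  refine C.ev_eq_one (vA_lt _ _) ?_
  rw [C.ev_add, C.ev_add, ← hA.2 c hc, ← (C.nact_mul hA hA).2 c hc]
  calc C.ev c * (k * C.ev c * k⁻¹ * (k * k * C.ev c * (k * k)⁻¹))
      = C.ev c * k * (C.ev c * k * (C.ev c * k)) * (k * (k * k))⁻¹ := by group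
    _ = 1 := by rw [hk, hg]; group

namespace Wl

variable {C : Sec H} {T : Tt C} {S : Swap T} {O : Co S} (W : Wl O)

include W in
theorem JQ_code {u : ℕ} (hu : u < 81) (h : C.ev u ∈ H.Q) : qB 4 u = 0 := by
  have e := W.R_fix h
  rw [W.trans0 hu] at e
  have h0 : cs H.M W.w = cs H.M (W.av ((0 : Fin 3) : ℕ) * W.w) := by
    rw [show W.av ((0 : Fin 3) : ℕ) = 1 by rw [W.av_eq]; simp, one_mul]
  exact congrArg Fin.val (W.line_inj (c := ⟨qB 4 u, Nat.mod_lt _ (by norm_num)⟩) (d := 0) (e.trans h0))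

theorem Lr_cube {g : G} (hg : g ∈ W.Lr) {A : ℕ} (hA : ActB C.ev g A) (h : mM A (mM A A) = mI) : g * (g * g) = 1 :=
  W.Lr_J (C.act_mI_mem (h ▸ C.nact_mul hA (C.nact_mul hA hA))) (mul_mem hg (mul_mem hg hg))

theorem Kst_cube {g : G} (hg : g ∈ W.Kst) {A : ℕ} (hA : ActB C.ev g A) (h : mM A (mM A A) = mI) : g * (g * g) = 1 :=
  W.K_E (C.act_mI_mem (h ▸ C.nact_mul hA (C.nact_mul hA hA))) (mul_mem hg (mul_mem hg hg))

include W in
/-- The stabilizer of the far point is not the one of the opposite point. -/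
theorem Lr_ne_Kst : ¬ W.Kst ≤ W.Lr := by
  intro hle
  obtain ⟨hv81, -, -, hz⟩ := mid_facts.2.2 18 (by simp [midL])
  set k := W.w * C.ev 18 * W.w⁻¹ with hk
  obtain ⟨hkQ, hkK⟩ := W.y_Kst (show 18 ∈ midL by simp [midL])
  have hM : O.n * k * O.n⁻¹ ∈ H.M := (O.n_M (W.mem_Kst.1 hkK).1).1
  have hQ : O.n * k * O.n⁻¹ ∈ H.Q := H.norm_Q _ (H.L_cz O.n_L) k hkQ
  obtain ⟨X, hX, hXA⟩ := C.mat_of_S (H.Q_le_S hQ)
  obtain ⟨u, hu, huA⟩ := W.mid_onto hX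
  have he : O.n * k * O.n⁻¹ = W.w * C.ev u * W.w⁻¹ :=
    W.Lr_inj (W.conj_Kst hkK) (hle (W.y_Kst hu).2) hXA huA
  set v := W.w⁻¹ * O.n * W.w with hv
  have hvK : v ∈ T.K := T.K.mul_mem (T.K.mul_mem (T.K.inv_mem W.w_K) O.n_K) W.w_K
  have hπv : O.π ⟨v, hvK⟩ = P8.wP⁻¹ * P8.nP * P8.wP := by
    rw [π_conj W.w_K O.n_K W.w_K, W.pw, O.pn]
  have hve : v * C.ev 18 * v⁻¹ = C.ev u := by
    calc v * C.ev 18 * v⁻¹ = W.w⁻¹ * (O.n * k * O.n⁻¹) * W.w := by rw [hv, hk]; group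
      _ = _ := by rw [he]; group
  have hvz : v * H.z * v⁻¹ = H.z := by
    refine O.three_eq (T.K.mul_mem (T.K.mul_mem hvK T.z_K) (T.K.inv_mem hvK)) T.z_K
      (by rw [conj_pow, H.z_cube, mul_one, mul_inv_cancel]) H.z_cube ?_
    rw [show (⟨v * H.z * v⁻¹, T.K.mul_mem (T.K.mul_mem hvK T.z_K) (T.K.inv_mem hvK)⟩ : T.K) =
      ⟨v, hvK⟩ * ⟨H.z, T.z_K⟩ * ⟨v, hvK⟩⁻¹ from rfl, map_mul, map_mul, map_inv, hπv, O.pz]
    exact P8.mid_fact.1
  set g := v * C.f * v⁻¹ with hg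
  have hgK : g ∈ T.K := T.K.mul_mem (T.K.mul_mem hvK T.f_K) (T.K.inv_mem hvK)
  have hgz : g * H.z = H.z * g := by
    conv_lhs => arg 2; rw [← hvz]
    conv_rhs => arg 1; rw [← hvz]
    rw [hg, ← MulAut.conj_apply, ← MulAut.conj_apply, ← map_mul, ← map_mul, H.J_comm _ C.f_J _ H.z_J]
  have hgu : g * C.ev u * g⁻¹ = C.ev u := by
    rw [← hve, hg]
    calc v * C.f * v⁻¹ * (v * C.ev 18 * v⁻¹) * (v * C.f * v⁻¹)⁻¹ = v * (C.f * C.ev 18 * C.f⁻¹) * v⁻¹ := by group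
      _ = _ := by rw [H.J_comm _ C.f_J _ (C.ev_J 18), mul_inv_cancel_right]
  have hN := C.cz_x_norm hgz (x := C.ev u) ⟨C.ev_J u, C.ev_mid hu⟩ (fun hzp => by
      obtain ⟨i, hi⟩ := hzp
      have e18 : C.ev 18 ∈ zpowers H.z := ⟨i, by
        show H.z ^ i = _
        rw [show C.ev 18 = v⁻¹ * C.ev u * v by rw [← hve]; group,
          ← show H.z ^ i = C.ev u from hi]
        conv_rhs => arg 1; arg 2; rw [← hvz, conj_zpow]
        group⟩
      obtain ⟨j, hj, hje⟩ := C.ev_Z e18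
      exact hz (by norm_num) ⟨j, hj⟩ (C.ev_inj hv81 (vS_lt _ _) hje))
    (by rw [hgu]; exact mem_zpowers _)
  have h := O.norm9_of hgK hN
  rw [show (⟨g, hgK⟩ : T.K) = ⟨v, hvK⟩ * ⟨C.f, T.f_K⟩ * ⟨v, hvK⟩⁻¹ from rfl, map_mul, map_mul, map_inv, hπv,
    O.pf] at h
  exact P8.mid_fact.2 h

include W in
/-- An element of the stabilizer with the matrix of order three and nonzero translation part. -/
theorem exists_affine : ∃ c ∈ codeC, ∃ k ∈ W.Kst, ActB C.ev k mA0 ∧ C.ev c * k ∈ W.Lr := by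
  obtain ⟨hA0, hA0g, hA3, hAW3, hconj, hword⟩ := a0_facts
  obtain ⟨X, hX, hXA⟩ := hconj T.B T.B_mem
  obtain ⟨k1, hk1, hk1Q, hk1A⟩ := W.K_onto_syT hX
  set y := O.n * k1 * O.n⁻¹ with hy
  have hyL : y ∈ W.Lr := W.conj_Kst hk1
  have hyQ : y ∈ H.Q := H.norm_Q _ (H.L_cz O.n_L) k1 hk1Q
  have hyA : ActB C.ev y mA0 := by
    rw [hy, O.n_inv, ← hXA]
    exact C.nact_mul (C.nact_mul O.n_act hk1A) (C.nact_mul O.n_act T.t_act)
  obtain ⟨k, hk, hkQ, hkA⟩ := W.K_onto_syT hA0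
  have hyk : y * k⁻¹ ∈ H.J := by
    have h1 := C.same_act hkA hyA
    have := ((mem_normalizer_iff.1 (H.M_norm (W.mem_Kst.1 hk).1)) _).1 h1
    rwa [show k * (k⁻¹ * y) * k⁻¹ = y * k⁻¹ by group] at this
  obtain ⟨c, hc, hce⟩ := C.ev_surj hyk
  have hye : y = C.ev c * k := by rw [hce]; group
  have hcQ : qB 4 c = 0 := W.JQ_code hc (hce ▸ mul_mem hyQ (inv_mem hkQ))
  have h1 := C.affine_cube hc hkA (W.Kst_cube hk hkA hA3) (hye ▸ W.Lr_cube hyL hyA hA3)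
  have hkx : ActB C.ev (k * S.x) (mM mA0 mW0) := C.nact_mul hkA S.x_act
  have h2 := C.affine_cube hc hkx (W.Kst_cube (mul_mem hk W.x_Kst.1) hkx hAW3)
    (by rw [← mul_assoc (C.ev c), ← hye]; exact W.Lr_cube (mul_mem hyL W.x_Lr) (C.nact_mul hyA S.x_act) hAW3)
  rcases code_left c hc hcQ h1 h2 with h0 | h0
  swap
  · exact ⟨c, h0, k, hk, hkA, hye ▸ hyL⟩
  refine absurd ?_ W.Lr_ne_Kst
  rw [h0, C.ev0, one_mul] at hye
  have hle : W.Kst ⊓ W.Lr ≤ H.M := inf_le_left.trans inf_le_left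
  set L := ((W.Kst ⊓ W.Lr).subgroupOf H.M).map C.θ with hL
  have key : ∀ {g : G}, g ∈ W.Kst → g ∈ W.Lr → ∀ {σ : A6}, ActB C.ev g (C.mat σ) → σ ∈ L :=
    fun {g} hg hg' {σ} hA => ⟨⟨g, hle ⟨hg, hg'⟩⟩, mem_subgroupOf.2 ⟨hg, hg'⟩,
      C.mat_inj (C.nact_unique (C.nact_M (hle ⟨hg, hg'⟩)) hA)⟩
  have hact : ∀ {σ : A6} {X : ℕ}, C.Act σ X → C.mat σ = X := fun h => C.act_eq (C.mat_act _) h
  obtain ⟨ha, hb, -, hw⟩ := C.act_gens
  have hkL : k ∈ W.Lr := hye ▸ hyL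
  have hh := W.h_Kst.1
  have hx := W.x_Kst.1
  have hb0 : ∃ g, g ∈ W.Kst ∧ g ∈ W.Lr ∧ ActB C.ev g mB0 := by
    rcases hword T.B T.B_mem with hw' | hw' <;> rw [← hw']
    · exact ⟨_, mul_mem (mul_mem (mul_mem (mul_mem hh hk) hx) hh) hx,
        mul_mem (mul_mem (mul_mem (mul_mem W.h_Lr hkL) W.x_Lr) W.h_Lr) W.x_Lr,
        C.nact_mul (C.nact_mul (C.nact_mul (C.nact_mul O.h_act hkA) S.x_act) O.h_act) S.x_act⟩
    · exact ⟨_, mul_mem (mul_mem (mul_mem (mul_mem hx hh) hx) hk) hh,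
        mul_mem (mul_mem (mul_mem (mul_mem W.x_Lr W.h_Lr) W.x_Lr) hkL) W.h_Lr,
        C.nact_mul (C.nact_mul (C.nact_mul (C.nact_mul S.x_act O.h_act) S.x_act) hkA) O.h_act⟩
  obtain ⟨g, hg, hg', hgA⟩ := hb0
  have htop : L = ⊤ := gen_top (key hk hkL ((hact ha).symm ▸ hkA)) (key hg hg' ((hact hb).symm ▸ hgA))
    (key hx W.x_Lr ((hact hw).symm ▸ S.x_act))
  intro g hg
  have hgM : g ∈ H.M := (W.mem_Kst.1 hg).1
  obtain ⟨⟨g', hg'M⟩, hg', hgσ⟩ := (htop.symm ▸ mem_top (C.θ ⟨g, hgM⟩) : C.θ ⟨g, hgM⟩ ∈ L)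
  have h' : g' ∈ W.Kst ∧ g' ∈ W.Lr := mem_subgroupOf.1 hg'
  rw [W.K_inj hg h'.1 (C.nact_M hgM) (hgσ ▸ C.nact_M hg'M)]
  exact h'.2

/-- Affine maps move the points by the table. -/
theorem Reps.img_pt {W : Wl O} {kk : ℕ → G} (R : W.Reps kk) {k : G} (hk : k ∈ W.Kst) {A : ℕ}
    (hA : ActB C.ev k A) (c : ℕ) (n : Fin 112) :
    ∃ m : Fin 112, m.1 = img c A n.1 ∧ (C.ev c * k) • W.pt kk n = W.pt kk m := by
  unfold img
  rcases R.pt_cases n with ⟨hn, en⟩ | ⟨i, hi, cc, hcc, hn, en⟩ | ⟨v, hv, hn, en⟩ <;> rw [en]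
  · exact ⟨0, by simp [hn], by
      rw [W.fix_base.2 (mul_mem (H.J_le_M (C.ev_J c)) (W.mem_Kst.1 hk).1), R.pt_base]⟩
  · obtain ⟨j, hj, e, hz⟩ := R.K_pt (mul_mem hk (R.mem i hi))
    have hz' := (C.nact_mul hA (R.act i hi)).2 4 (by norm_num)
    rw [C.ev_basis.1] at hz'
    have hap : ap A (ap (lineM.getD i 0) 4) = lC j ∨ ap A (ap (lineM.getD i 0) 4) = vS 2 (lC j) := by
      have e2 : C.ev (ap A (ap (lineM.getD i 0) 4)) = k * kk i * H.z * (k * kk i)⁻¹ := by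
        rw [← hA.2 _ (ap_lt _ _), ← (R.act i hi).2 4 (by norm_num), C.ev_basis.1]
        group
      rcases hz with h | h <;> rw [h] at e2
      exacts [Or.inl (C.ev_inj (ap_lt _ _) (lineM_spec j hj).2.1 e2), Or.inr (C.ev_inj (ap_lt _ _) (vS_lt _ _) e2)]
    have hjL : jL (ap A (ap (lineM.getD i 0) 4)) = j := by
      rcases hap with h | h <;> rw [h]
      exacts [(jL_spec j hj).1, (jL_spec j hj).2]
    obtain ⟨hw, -⟩ := wL_spec i hi cc hcc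
    obtain ⟨m, hm, em⟩ := R.pt_N hj (show qB (lC j) (vA c (ap A (wL i cc))) < 3 from Nat.mod_lt _ (by norm_num))
    refine ⟨m, ?_, ?_⟩
    · rw [if_neg (by simp; omega), if_pos (by simp; omega), show (n.1 - 1) / 3 = i by omega,
        show (n.1 - 1) % 3 = cc by omega]
      dsimp only
      rw [hjL]
      exact hm
    · rw [em, ← R.trans hj (vA_lt _ _), C.ev_add, ← hA.2 _ hw, PN, ← e]
      simp only [← mul_smul]
      congr 1
      group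
  · obtain ⟨m, hm, em⟩ := R.pt_D (vA_lt c (ap A v))
    refine ⟨m, ?_, ?_⟩
    · rw [if_neg (by simp; omega), if_neg (by simp; omega), show n.1 - 31 = v by omega]
      exact hm
    · rw [em, PD, PD, C.ev_add, ← hA.2 v hv]
      conv_rhs => rw [show C.ev c * (k * C.ev v * k⁻¹) = C.ev c * k * C.ev v * k⁻¹ by group, mul_smul _ k⁻¹,
        W.K_fix (inv_mem hk)]
      rw [← mul_smul]

end Wl

end Cfsg.Agent.Spor.McLThree
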