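import Cfsg.Agent.Lib.Spor.McLThree.NPerm

/-!
Six elements generate the alternating group on eight points.
-/

set_option autoImplicit false
set_option maxRecDepth 100000
set_option synthInstance.maxSize 4096

namespace Cfsg.Agent.Spor.McLThree.P8

attribute [local instance 10000] List.decidableBAll List.decidableBEx

/-- Words for the three-cycles through the first two points. -/
def cycW : List (List ℕ) := [[0, 0], [1, 4, 0, 2, 4, 5, 4, 1, 2, 4, 1, 1], [1, 1, 4, 0, 2, 4, 5, 4, 1, 2, 4, 1],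
  [4, 0, 2, 4, 5, 4, 1, 2, 4], [2, 5, 4, 1, 4, 5, 2], [2, 4, 1, 1, 4, 2]]

theorem cycW_spec : ∀ k : Fin 8, 2 ≤ (k : ℕ) → ∀ i : Fin 8,
    evW nP (cycW.getD ((k : ℕ) - 2) []) i = Equiv.swap 0 1 (Equiv.swap 0 k i) := by
  decide +kernel

/-- A subgroup containing the six generators contains the alternating group. -/
theorem alt_le {R : Subgroup Pm} (hR : ∀ i, genP nP i ∈ R) {σ : Pm} (hσ : Equiv.Perm.sign σ = 1) : σ ∈ R := by
  have hw : ∀ ws : List ℕ, evW nP ws ∈ R := fun ws => list_prod_mem fun a ha => by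
    obtain ⟨i, -, rfl⟩ := List.mem_map.1 ha
    exact hR i
  set s : Pm := Equiv.swap 0 1 with hs
  have hss : s * s = 1 := Equiv.swap_mul_self 0 1
  have h0 : ∀ k : Fin 8, k ≠ 0 → s * Equiv.swap 0 k ∈ R := fun k hk => by
    rcases (show k = 1 ∨ 2 ≤ (k : ℕ) by
      rcases Nat.lt_or_ge (k : ℕ) 2 with h | h
      · exact Or.inl (Fin.ext (by
          have : (k : ℕ) ≠ 0 := fun h' => hk (Fin.ext h')
          show (k : ℕ) = 1
          omega))
      · exact Or.inr h) with rfl | h
    · rw [hss]; exact one_mem _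
    · rw [show s * Equiv.swap 0 k = evW nP (cycW.getD ((k : ℕ) - 2) []) from
        (Equiv.ext fun i => (cycW_spec k h i).symm)]
      exact hw _
  have h1 : ∀ k : Fin 8, k ≠ 0 → Equiv.swap 0 k * s ∈ R := fun k hk => by
    have := inv_mem (h0 k hk)
    rwa [mul_inv_rev, Equiv.swap_inv, hs, Equiv.swap_inv] at this
  have h2 : ∀ a b : Fin 8, a ≠ b → s * Equiv.swap a b ∈ R := by
    intro a b hab
    rcases eq_or_ne a 0 with rfl | ha
    · exact h0 b hab.symm
    rcases eq_or_ne b 0 with rfl | hb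
    · rw [Equiv.swap_comm]; exact h0 a ha
    rw [show Equiv.swap a b = Equiv.swap 0 a * Equiv.swap 0 b * Equiv.swap 0 a by
      have h := (Equiv.swap_apply_apply (Equiv.swap 0 a) 0 b)
      rw [Equiv.swap_apply_left, Equiv.swap_apply_of_ne_of_ne hb hab.symm] at h
      rw [h, Equiv.swap_inv]]
    have := mul_mem (mul_mem (h0 a ha) (h1 b hb)) (h0 a ha)
    rwa [show s * Equiv.swap 0 a * (Equiv.swap 0 b * s) * (s * Equiv.swap 0 a) =
      s * (Equiv.swap 0 a * Equiv.swap 0 b * (s * s) * Equiv.swap 0 a) by group, hss, mul_one] at this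
  suffices key : ∀ τ : Pm, (Equiv.Perm.sign τ = 1 → τ ∈ R) ∧ (Equiv.Perm.sign τ = -1 → s * τ ∈ R) from (key σ).1 hσ
  intro τ
  induction τ using Equiv.Perm.swap_induction_on with
  | one => exact ⟨fun _ => one_mem _, fun h => absurd (h.symm.trans (map_one _)) (by decide)⟩
  | swap_mul τ a b hab ih =>
    have hsign : Equiv.Perm.sign (Equiv.swap a b * τ) = -Equiv.Perm.sign τ := by
      rw [map_mul, Equiv.Perm.sign_swap hab, neg_one_mul]
    refine ⟨fun h => ?_, fun h => ?_⟩ <;> rw [hsign] at h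
    · have := mul_mem (inv_mem (h2 a b hab)) (ih.2 (neg_eq_iff_eq_neg.1 h))
      rwa [mul_inv_rev, Equiv.swap_inv, show Equiv.swap a b * s⁻¹ * (s * τ) = Equiv.swap a b * τ by group] at this
    · have := mul_mem (h2 a b hab) (ih.1 (neg_injective h))
      rwa [mul_assoc] at this

end Cfsg.Agent.Spor.McLThree.P8
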