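import Cfsg.Agent.Lib.Spor.McLThree.NData

/-!
The affine maps on the 112 points and the arithmetic behind the bound on the far orbit.
-/

set_option autoImplicit false
set_option maxRecDepth 100000
set_option synthInstance.maxSize 4096

namespace Cfsg.Agent.Spor.McLThree

open Cfsg.Agent.Spor.UFourType

/-- The line with the given vector. -/
def jL (v : ℕ) : ℕ := (List.range 10).findIdx fun j => Nat.beq v (lC j) || Nat.beq v (vS 2 (lC j))

/-- The image of a point under a translation after a matrix. -/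
def img (c A n : ℕ) : ℕ :=
  if Nat.beq n 0 then 0 else if Nat.blt n 31 then
    let i := (n - 1) / 3
    let j := jL (ap A (ap (lineM.getD i 0) 4))
    1 + 3 * j + qB (lC j) (vA c (ap A (wL i ((n - 1) % 3))))
  else 31 + vA c (ap A (n - 31))

/-- The three generators. -/
def nGen (c h : ℕ) (k : ℕ) : ℕ × ℕ := [(c, mA0), (0, mW0), (0, h)].getD k (0, mI)

/-- Every edge starts at an earlier member. -/
def okEdges (c h : ℕ) : List ℕ → List ℕ → Bool
  | _, [] => true
  | seen, k :: es =>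
    Nat.blt (k / 12544) 3 && (seen.contains (k / 112 % 112) &&
      (Nat.beq (img (nGen c h (k / 12544)).1 (nGen c h (k / 12544)).2 (k / 112 % 112)) (k % 112) &&
        okEdges c h (k % 112 :: seen) es))

/-- The members of an orbit. -/
def orbM (o : ℕ × List ℕ) : List ℕ := o.1 :: o.2.map fun k => k % 112

/-- The possible sizes of a union of orbits. -/
def oSums : List (ℕ × List ℕ) → List ℕ
  | [] => [0]
  | o :: os => (oSums os).flatMap fun s => [s, s + (orbM o).length]

/-- The check of one certificate. -/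
def okCert (c h : ℕ) (os : List (ℕ × List ℕ)) : Bool :=
  ((os.all fun o => Nat.blt o.1 112 && okEdges c h [o.1] o.2) &&
    ((List.range 112).all (fun n => (os.flatMap orbM).contains n) && Nat.beq (os.flatMap orbM).length 112)) &&
    (Nat.beq (os.getD 0 (9999, [])).1 0 && Nat.beq (os.getD 1 (9999, [])).1 1 &&
      ((oSums (os.drop 2)).all fun s =>
        let t := (orbM (os.getD 0 (0, []))).length + (orbM (os.getD 1 (0, []))).length + s
        !(Nat.beq (t % 8) 0 && Nat.beq (9072 % t) 0) || Nat.ble 56 t))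

/-- The translation parts left by the relations. -/
def codeC : List ℕ := [17, 22, 27, 44, 49, 54, 71, 76]

theorem nCert_ok : (codeC.all fun c => [5137751, 9743573].all fun h =>
    (nCert.any fun e => Nat.beq e.1.1 c && (Nat.beq e.1.2 h && okCert c h e.2))) = true := by
  decide +kernel

theorem mh_cases : ∀ B ∈ ordT, mh B ∈ [5137751, 9743573] ∧ B ∉ gT := by decide +kernel

theorem jL_spec : ∀ j < 10, jL (lC j) = j ∧ jL (vS 2 (lC j)) = j := by decide +kernel

theorem a0_facts : mA0 ∈ syT ∧ mA0 ∈ gT ∧ mM mA0 (mM mA0 mA0) = mI ∧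
    mM (mM mA0 mW0) (mM (mM mA0 mW0) (mM mA0 mW0)) = mI ∧ (∀ B ∈ ordT, ∃ X ∈ syT, mM (mM B X) (mM B mT0) = mA0) ∧
    (∀ B ∈ ordT, mM (mM (mM (mM (mh B) mA0) mW0) (mh B)) mW0 = mB0 ∨
      mM (mM (mM (mM mW0 (mh B)) mW0) mA0) (mh B) = mB0) := by
  decide +kernel

theorem code_left : ∀ c < 81, qB 4 c = 0 → vA c (vA (ap mA0 c) (ap (mM mA0 mA0) c)) = 0 →
    vA c (vA (ap (mM mA0 mW0) c) (ap (mM (mM mA0 mW0) (mM mA0 mW0)) c)) = 0 → c = 0 ∨ c ∈ codeC := by
  decide +kernel

theorem spread : (∀ v < 81, v ≠ 0 → ∃ r ∈ [1, 3, 4], ∃ A ∈ gT, ap A v = r) ∧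
    (1843038 ∈ gT ∧ 7667041 ∈ gT ∧ vA (ap 1843038 1) (ap 7667041 1) = 4) ∧
    (1655561 ∈ gT ∧ 5174826 ∈ gT ∧ vA (ap 1655561 3) (ap 5174826 3) = 4) := by
  decide +kernel

theorem mid_irr : ∀ B ∈ ordT, ∀ v ∈ midL, v ≠ 0 → ∀ u ∈ midL,
    ∃ i : Fin 3, ∃ j : Fin 3, vA (vS (i : ℕ) v) (vS (j : ℕ) (ap (mh B) v)) = u := by
  decide +kernel

theorem mid_stab : ((gT.filter fun A => midL.all fun v => midL.contains (ap A v)).length ≤ 8) := by decide +kernel

end Cfsg.Agent.Spor.McLThree
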