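import Cfsg.Agent.Lib.Spor.McLThree.UPerm

/-!
The permutations behind the 275 points: words in the images of five elements of the unitary group.
-/

set_option autoImplicit false
set_option maxRecDepth 100000
set_option synthInstance.maxSize 4096

namespace Cfsg.Agent.Spor.McLThree.P8

attribute [local instance 10000] List.decidableBAll List.decidableBEx

/-- The permutation of the far point. -/
def rP : Pm := mkP [3, 4, 7, 0, 1, 6, 5, 2] [3, 4, 7, 0, 1, 6, 5, 2] (by decide +kernel) (by decide +kernel)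

/-- The permutation of the second far point. -/
def rQ : Pm := mkP [5, 6, 7, 1, 0, 3, 4, 2] [4, 3, 7, 5, 6, 0, 1, 2] (by decide +kernel) (by decide +kernel)

/-- Five images and one more. -/
def genP (σ : Pm) (i : ℕ) : Pm := [c1, c2, wA, hP, wP, σ].getD i 1

/-- The product along a word. -/
def evW (σ : Pm) (ws : List ℕ) : Pm := (ws.map (genP σ)).prod

/-- Words leading out of the unitary group from the conjugates of the plane at the second far point. -/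
def negQ : List (List ℕ) := [[4, 1, 2, 4, 5, 0, 2, 4], [4, 1, 1, 2, 5, 0, 4, 2, 4], [4, 1, 5, 1, 4],
  [0, 5, 1, 4, 0, 5, 4], [4, 0, 5, 4, 0, 1, 5], [4, 1, 5, 5, 1, 4], [0, 5, 1, 1, 4, 0, 5, 4],
  [0, 5, 5, 1, 3, 0, 5, 3]]

/-- Words leading out of the unitary group between the two far points. -/
def negR : List (List ℕ) := [[2, 4, 5, 1, 4, 0, 1, 5], [2, 5, 1, 5, 0, 3, 1, 5, 5], [0, 1, 5, 2, 5, 3, 1, 5],
  [4, 1, 3, 5, 3, 5, 1, 4], [4, 1, 1, 5, 4, 1, 1, 5], [4, 5, 1, 1, 5, 1, 5, 4], [4, 1, 5, 3, 5, 3, 1, 4],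
  [4, 1, 5, 4, 1, 5], [4, 1, 4, 5, 4, 1, 4, 5]]

/-- A group of order thirty-two in the stabilizer of the far point, with the conjugates. -/
def s32 : List (List ℕ × List ℕ) := [
  ([], []), ([2], [2]), ([3], [3]),
  ([4], [3, 4]), ([2, 3], [2, 3]), ([2, 4], [2, 3, 4]),
  ([3, 4], [4]), ([4, 2], [3, 4, 2]), ([2, 3, 4], [2, 4]),
  ([2, 4, 2], [2, 3, 4, 2]), ([3, 4, 2], [4, 2]), ([4, 2, 4], [4, 2, 4]),
  ([2, 3, 4, 2], [2, 4, 2]), ([2, 4, 2, 4], [2, 4, 2, 4]), ([3, 4, 2, 4], [3, 4, 2, 4]),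
  ([2, 3, 4, 2, 4], [2, 3, 4, 2, 4]), ([1, 4, 0, 1, 2, 4, 1], [0, 1, 2, 4, 1, 4, 2, 4, 1]), ([0, 1, 3, 4, 2, 4, 0, 1], [1, 4, 0, 1, 2, 4, 1, 2, 4]),
  ([0, 1, 4, 1, 2, 4, 1, 1], [0, 0, 2, 4, 0, 2, 4, 0, 1]), ([0, 1, 4, 1, 4, 2, 4, 1], [0, 2, 4, 0, 1, 2, 4, 1]), ([0, 2, 4, 0, 1, 2, 4, 1], [0, 1, 4, 1, 4, 2, 4, 1]),
  ([1, 1, 4, 0, 2, 4, 0, 1], [0, 1, 2, 4, 1, 2, 4, 1, 1]), ([1, 4, 0, 1, 2, 4, 1, 2], [1, 4, 0, 1, 2, 4, 1, 3]), ([1, 4, 0, 1, 2, 4, 1, 3], [1, 4, 0, 1, 2, 4, 1, 2]),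
  ([0, 0, 2, 4, 0, 2, 4, 0, 1], [0, 1, 4, 1, 2, 4, 1, 1]), ([0, 1, 1, 4, 2, 4, 0, 1, 1], [0, 1, 4, 1, 2, 4, 2, 4, 0]), ([0, 1, 2, 3, 4, 2, 4, 0, 1], [1, 1, 4, 0, 2, 4, 0, 1, 3]),
  ([0, 1, 2, 4, 1, 2, 4, 1, 1], [1, 1, 4, 0, 2, 4, 0, 1]), ([0, 1, 2, 4, 1, 4, 2, 4, 1], [1, 4, 0, 1, 2, 4, 1]), ([0, 1, 4, 1, 2, 4, 2, 4, 0], [0, 1, 1, 4, 2, 4, 0, 1, 1]),
  ([1, 1, 4, 0, 2, 4, 0, 1, 3], [0, 1, 2, 3, 4, 2, 4, 0, 1]), ([1, 4, 0, 1, 2, 4, 1, 2, 4], [0, 1, 3, 4, 2, 4, 0, 1])]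

/-- The images of the group of order thirty-two. -/
def s32P : List Pm := s32.map fun p => evW 1 p.1

theorem far_facts : rP = nP * pP * nP ∧ rQ = c2 * wP * c2 * rP := by decide +kernel

theorem neg_facts : evW (nP⁻¹ * wP * nP) [3, 4, 5, 4] = nP ∧
    evW (nP⁻¹ * pP * nP) [4, 1, 5, 0, 0, 5, 1, 4] = nP ∧
    evW (rP⁻¹ * c1 * rP) [4, 1, 5, 5, 1, 4] = nP := by
  decide +kernel

theorem negQ_spec : ∀ d ∈ d9, d = 1 ∨ ∃ ws ∈ negQ, evW (rQ⁻¹ * d * rQ) ws = nP := by decide +kernel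

theorem negR_spec : ∀ d ∈ d9, ∃ ws ∈ negR, evW (rQ⁻¹ * d * rP) ws = nP := by decide +kernel

theorem pos_facts : evW 1 [2] = rP⁻¹ * wA * rP ∧ evW 1 [3] = rP⁻¹ * hP * rP ∧
    evW 1 [3, 4] = rP⁻¹ * wP * rP ∧
    evW 1 [3, 4] = rQ⁻¹ * hP * rQ ∧ evW 1 [4, 0] = rQ⁻¹ * nP * rQ ∧
    evW 1 [3, 4] = (wP * nP)⁻¹ * (nP * wP * nP) := by
  decide +kernel

theorem mid_fact : (wP⁻¹ * nP * wP) * c1 * (wP⁻¹ * nP * wP)⁻¹ = c1 ∧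
    ¬ norm9 ((wP⁻¹ * nP * wP) * c2 * (wP⁻¹ * nP * wP)⁻¹) := by
  decide +kernel

theorem s32_spec : (∀ p ∈ s32, evW 1 p.2 = rP⁻¹ * evW 1 p.1 * rP) ∧
    (∀ a ∈ s32P, ∀ b ∈ s32P, a * b ∈ s32P) ∧ s32P.Nodup ∧ s32P.length = 32 ∧ 1 ∈ s32P := by
  decide +kernel

end Cfsg.Agent.Spor.McLThree.P8
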