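import Cfsg.Agent.Lib.Spor.McLThree.UGraph
import Cfsg.Agent.Lib.Spor.McLThree.NPerm
import Cfsg.Agent.Lib.Spor.McLThree.NModel

/-!
The element of order four outside the unitary group, the far point, and its stabilizer.
-/

set_option autoImplicit false
set_option maxRecDepth 100000
set_option synthInstance.maxSize 4096
set_option linter.unusedSectionVars false

namespace Cfsg.Agent.Spor.McLThree

open Subgroup Cfsg.Agent.Spor.UFourType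

universe u

variable {G : Type u} [Group G] [Finite G] {H : Hyp G}

namespace Sec

variable (C : Sec H)

theorem ev0 : C.ev 0 = 1 := by
  have := C.ev_add 0 0
  rw [show vA 0 0 = 0 from rfl] at this
  exact mul_eq_left.1 this.symm

/-- A translation does not change the matrix. -/
theorem act_J_left {j g : G} (hj : j ∈ H.J) {A : ℕ} (h : ActB C.ev g A) : ActB C.ev (j * g) A :=
  ⟨h.1, fun v hv => by
    rw [show j * g * C.ev v * (j * g)⁻¹ = j * (g * C.ev v * g⁻¹) * j⁻¹ by group, h.2 v hv,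
      H.J_comm _ hj _ (C.ev_J _), mul_inv_cancel_right]⟩

end Sec

namespace Co

variable {C : Sec H} {T : Tt C} {S : Swap T} (O : Co S)

theorem n_inv : O.n⁻¹ = O.n * T.t := by
  refine inv_eq_of_mul_eq_one_right ?_
  rw [← mul_assoc, O.n_sq, T.t_sq]

theorem n_N : O.n ∈ normalizer (H.J : Set G) := by
  have hni : ActB C.ev O.n⁻¹ (mM T.B mT0) := by rw [O.n_inv]; exact C.nact_mul O.n_act T.t_act
  refine mem_normalizer_iff.2 fun a => ⟨fun ha => ?_, fun ha => ?_⟩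
  · obtain ⟨v, hv, rfl⟩ := C.ev_surj ha
    rw [O.n_act.2 v hv]
    exact C.ev_J _
  · obtain ⟨v, hv, hv'⟩ := C.ev_surj ha
    have h := hni.2 v hv
    rw [hv', show O.n⁻¹ * (O.n * a * O.n⁻¹) * O.n⁻¹⁻¹ = a by group] at h
    exact h ▸ C.ev_J _

theorem n_M {m : G} (hm : m ∈ H.M) : O.n * m * O.n⁻¹ ∈ H.M ∧ O.n⁻¹ * m * O.n ∈ H.M := by
  refine ⟨H.conj_M_mem O.n_N hm, ?_⟩
  have := H.conj_M_mem (inv_mem O.n_N) hm
  rwa [inv_inv] at this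

end Co

namespace Wl

variable {C : Sec H} {T : Tt C} {S : Swap T} {O : Co S} (W : Wl O)

theorem t_U : T.t ∈ W.U := W.M_le_U O.t_M

include W in
/-- The element of order four is outside the unitary group. -/
theorem n_not_U : O.n ∉ W.U := by
  intro hn
  obtain ⟨kk, R⟩ := W.exists_reps
  have hfix : ∀ u, C.ev u • O.n • cs H.M (1 : G) = O.n • cs H.M 1 := fun u => by
    rw [← mul_smul, show C.ev u * O.n = O.n * (O.n⁻¹ * C.ev u * O.n) by group, mul_smul,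
      W.fix_base.2 (O.n_M (H.J_le_M (C.ev_J u))).2]
  obtain ⟨n', hn'⟩ := R.U_range hn 0
  rw [R.pt_base] at hn'
  simp only [hn'] at hfix
  rcases R.pt_cases n' with ⟨-, en⟩ | ⟨i, hi, c, -, -, en⟩ | ⟨v, -, -, en⟩ <;> rw [en] at hn' hfix
  · have hM := W.fix_base.1 hn'
    exact (mh_cases T.B T.B_mem).2 (C.nact_unique O.n_act (C.nact_M hM) ▸ C.mat_mem _)
  · obtain ⟨hu, hq⟩ := wL_spec i hi 1 (by norm_num)
    have h := hfix (wL i 1)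
    rw [PN, R.ev_swap, (MulAction.injective (C.ev (wL i c))).eq_iff] at h
    have := R.perp_conv hi hu h
    omega
  · have h := hfix 4
    rw [PD, R.ev_swap, (MulAction.injective (C.ev v)).eq_iff] at h
    exact absurd (R.fix_p (by norm_num) h) (by norm_num)

/-- The images of the elements of the unitary group. -/
noncomputable def RU : Subgroup P8.Pm := (W.U.subgroupOf T.K).map O.π

theorem mem_RU {g : G} (hg : g ∈ T.K) : O.π ⟨g, hg⟩ ∈ W.RU ↔ g ∈ W.U := by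
  refine ⟨?_, fun h => ⟨⟨g, hg⟩, mem_subgroupOf.2 h, rfl⟩⟩
  rintro ⟨a, ha, hag⟩
  rcases O.fibre hag with h | h <;> rw [show g = _ from h]
  exacts [mem_subgroupOf.1 ha, mul_mem (mem_subgroupOf.1 ha) W.t_U]

theorem nP_RU : P8.nP ∉ W.RU := fun h => W.n_not_U ((W.mem_RU O.n_K).1 (O.pn.symm ▸ h))

theorem evW_RU {σ : P8.Pm} (hσ : σ ∈ W.RU) (ws : List ℕ) : P8.evW σ ws ∈ W.RU := by
  refine list_prod_mem fun a ha => ?_
  obtain ⟨i, -, rfl⟩ := List.mem_map.1 ha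
  have hz : P8.c1 ∈ W.RU := O.pz ▸ (W.mem_RU T.z_K).2 (W.M_le_U (H.J_le_M H.z_J))
  have hf : P8.c2 ∈ W.RU := O.pf ▸ (W.mem_RU T.f_K).2 (W.M_le_U (H.J_le_M C.f_J))
  have hx : P8.wA ∈ W.RU := O.px_A ▸ (W.mem_RU S.x_K).2 W.x_U
  have hh : P8.hP ∈ W.RU := O.ph ▸ (W.mem_RU O.h_K).2 (W.M_le_U O.h_M)
  have hw : P8.wP ∈ W.RU := W.pw ▸ (W.mem_RU W.w_K).2 W.w_U
  unfold P8.genP
  rcases Nat.lt_or_ge i 6 with hi | hi
  · interval_cases i <;> assumption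
  · rw [List.getD_eq_default _ _ (by simpa using hi)]
    exact one_mem _

/-- Elements reached by words are in the unitary group. -/
theorem pos {g : G} (hg : g ∈ T.K) {ws : List ℕ} (h : P8.evW 1 ws = O.π ⟨g, hg⟩) : g ∈ W.U :=
  (W.mem_RU hg).1 (h ▸ W.evW_RU (one_mem _) ws)

/-- Elements from which words reach the element of order four are outside. -/
theorem neg {g : G} (hg : g ∈ T.K) {ws : List ℕ} (h : P8.evW (O.π ⟨g, hg⟩) ws = P8.nP) : g ∉ W.U :=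
  fun hU => W.nP_RU (h ▸ W.evW_RU ((W.mem_RU hg).2 hU) ws)

/-- The far point. -/
def r : G := O.n * W.p * O.n

theorem r_K : W.r ∈ T.K := T.K.mul_mem (T.K.mul_mem O.n_K W.p_K) O.n_K

theorem pr : O.π ⟨W.r, W.r_K⟩ = P8.rP := by
  rw [show (⟨W.r, W.r_K⟩ : T.K) = ⟨O.n, O.n_K⟩ * ⟨W.p, W.p_K⟩ * ⟨O.n, O.n_K⟩ from rfl, map_mul, map_mul, W.pp,
    O.pn]
  exact P8.far_facts.1.symm

/-- The image of a conjugate. -/
theorem π_conj {a g b : G} (ha : a ∈ T.K) (hg : g ∈ T.K) (hb : b ∈ T.K) :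
    O.π ⟨a⁻¹ * g * b, T.K.mul_mem (T.K.mul_mem (T.K.inv_mem ha) hg) hb⟩ =
      (O.π ⟨a, ha⟩)⁻¹ * O.π ⟨g, hg⟩ * O.π ⟨b, hb⟩ := by
  rw [← map_inv, ← map_mul, ← map_mul]
  rfl

include W in
theorem fix_U {g a : G} : g • cs W.U a = cs W.U a ↔ a⁻¹ * g * a ∈ W.U := by
  rw [cs_smul, cs_eq, show (g * a)⁻¹ * a = (a⁻¹ * g * a)⁻¹ by group]
  exact inv_mem_iff

/-- An element of the unitary group fixes the near point only in `M`. -/
theorem conj_U {g : G} (hg : g ∈ W.U) : O.n⁻¹ * g * O.n ∈ W.U ↔ g ∈ H.M := by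
  refine ⟨fun h => ?_, fun h => W.M_le_U (O.n_M h).2⟩
  obtain ⟨kk, R⟩ := W.exists_reps
  obtain ⟨n', hn'⟩ := R.U_range hg 0
  rw [R.pt_base] at hn'
  have out : ∀ {a m : G}, a ∈ T.K → m ∈ H.M → (∀ ha : a ∈ T.K, O.n⁻¹ * a * O.n ∉ W.U) →
      g • cs H.M 1 = cs H.M (m * a) → False := by
    intro a m ha hm hno he
    rw [cs_smul, mul_one, cs_eq] at he
    refine hno ha ?_
    rw [show O.n⁻¹ * a * O.n = (O.n⁻¹ * m * O.n)⁻¹ * (O.n⁻¹ * g * O.n) * (O.n⁻¹ * (g⁻¹ * (m * a)) * O.n) by group]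
    exact mul_mem (mul_mem (inv_mem (W.M_le_U (O.n_M hm).2)) h) (W.M_le_U (O.n_M he).2)
  rcases R.pt_cases n' with ⟨-, en⟩ | ⟨i, hi, c, -, -, en⟩ | ⟨v, -, -, en⟩ <;> rw [en] at hn'
  · exact W.fix_base.1 hn'
  · rw [R.PN_def, cs_smul _ _ W.w] at hn'
    refine (out W.w_K (R.PN_M hi c) (fun ha => W.neg (T.K.mul_mem (T.K.mul_mem (T.K.inv_mem O.n_K) ha) O.n_K)
      (ws := [3, 4, 5, 4]) ?_) hn').elim
    rw [π_conj O.n_K ha O.n_K, O.pn, W.pw]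
    exact P8.neg_facts.1
  · rw [PD, cs_smul] at hn'
    refine (out W.p_K (H.J_le_M (C.ev_J v)) (fun ha => W.neg (T.K.mul_mem (T.K.mul_mem (T.K.inv_mem O.n_K) ha) O.n_K)
      (ws := [4, 1, 5, 0, 0, 5, 1, 4]) ?_) hn').elim
    rw [π_conj O.n_K ha O.n_K, O.pn, W.pp]
    exact P8.neg_facts.2.1

/-- The stabilizer of the far point. -/
noncomputable def Lr : Subgroup G := W.U ⊓ W.U.comap (MulAut.conj W.r⁻¹).toMonoidHom

theorem mem_Lr {g : G} : g ∈ W.Lr ↔ g ∈ W.U ∧ W.r⁻¹ * g * W.r ∈ W.U := by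
  rw [Lr, Subgroup.mem_inf, Subgroup.mem_comap, MulEquiv.coe_toMonoidHom, MulAut.conj_apply, inv_inv]

theorem Lr_K {g : G} (hg : g ∈ T.K) (hU : g ∈ W.U) {ws : List ℕ}
    (h : P8.evW 1 ws = P8.rP⁻¹ * O.π ⟨g, hg⟩ * P8.rP) : g ∈ W.Lr := by
  refine W.mem_Lr.2 ⟨hU, W.pos (T.K.mul_mem (T.K.mul_mem (T.K.inv_mem W.r_K) hg) W.r_K) (ws := ws) ?_⟩
  rw [π_conj W.r_K hg W.r_K, W.pr, h]

theorem x_Lr : S.x ∈ W.Lr := W.Lr_K S.x_K W.x_U (O.px_A.symm ▸ P8.pos_facts.1)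

theorem h_Lr : O.h ∈ W.Lr := W.Lr_K O.h_K (W.M_le_U O.h_M) (O.ph.symm ▸ P8.pos_facts.2.1)

theorem w_Lr : W.w ∈ W.Lr := W.Lr_K W.w_K W.w_U (W.pw.symm ▸ P8.pos_facts.2.2.1)

theorem t_Lr : T.t ∈ W.Lr := by
  refine W.Lr_K T.t_K W.t_U (ws := []) ?_
  rw [O.π_t, mul_one, inv_mul_cancel]
  rfl

theorem conj_Kst {k : G} (hk : k ∈ W.Kst) : O.n * k * O.n⁻¹ ∈ W.Lr := by
  refine W.mem_Lr.2 ⟨W.M_le_U (O.n_M (W.mem_Kst.1 hk).1).1, ?_⟩
  rw [show W.r⁻¹ * (O.n * k * O.n⁻¹) * W.r = O.n⁻¹ * (W.p⁻¹ * (O.n⁻¹ * O.n) * k * (O.n⁻¹ * O.n) * W.p) * O.n by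
    unfold r; group]
  simp only [inv_mul_cancel, mul_one]
  exact W.M_le_U (O.n_M (W.mem_Kst.1 hk).2).2

/-- Every element of `M` is a translation times one fixing the far point. -/
theorem Lr_split {m : G} (hm : m ∈ H.M) : ∃ j ∈ H.J, ∃ k ∈ W.Lr, k ∈ H.M ∧ m = j * k := by
  obtain ⟨⟨v, -, k, hk, he⟩, -⟩ := W.M_split (O.n_M hm).2
  exact ⟨_, ((mem_normalizer_iff.1 O.n_N) _).1 (C.ev_J v), _, W.conj_Kst hk, (O.n_M (W.mem_Kst.1 hk).1).1, by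
    rw [show O.n * C.ev v * O.n⁻¹ * (O.n * k * O.n⁻¹) = O.n * (C.ev v * k) * O.n⁻¹ by group, ← he]; group⟩

/-- All matrices occur in the stabilizer of the far point. -/
theorem Lr_real {A : ℕ} (hA : A ∈ gT) : ∃ k ∈ W.Lr, k ∈ H.M ∧ ActB C.ev k A := by
  obtain ⟨σ, rfl⟩ := C.mat_surj hA
  obtain ⟨j, hj, k, hk, hkM, he⟩ := W.Lr_split (C.rep_mem σ)
  refine ⟨k, hk, hkM, ?_⟩
  rw [show k = j⁻¹ * C.rep σ by rw [he, inv_mul_cancel_left]]
  exact C.act_J_left (inv_mem hj) (C.nact_rep σ)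

/-- The far point is moved by every translation. -/
theorem Lr_J {a : G} (haJ : a ∈ H.J) (ha : a ∈ W.Lr) : a = 1 := by
  obtain ⟨v, hv, rfl⟩ := C.ev_surj haJ
  by_contra hne
  have hv0 : v ≠ 0 := fun h => hne (h ▸ C.ev0)
  have hgT : ∀ {u : ℕ}, u < 81 → C.ev u ∈ W.Lr → ∀ A ∈ gT, C.ev (ap A u) ∈ W.Lr := by
    intro u hu h A hA
    obtain ⟨k, hk, -, hkA⟩ := W.Lr_real hA
    rw [← hkA.2 u hu]
    exact mul_mem (mul_mem hk h) (inv_mem hk)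
  obtain ⟨hs, ⟨a1, b1, e1⟩, a3, b3, e3⟩ := spread
  obtain ⟨r, hr, A, hA, rfl⟩ := hs v hv hv0
  have h := hgT hv ha A hA
  have hz : C.ev 4 ∈ W.Lr := by
    simp only [List.mem_cons, List.not_mem_nil, or_false] at hr
    rcases hr with e | e | e <;> rw [e] at h
    · rw [← e1, C.ev_add]
      exact mul_mem (hgT (by norm_num) h _ a1) (hgT (by norm_num) h _ b1)
    · rw [← e3, C.ev_add]
      exact mul_mem (hgT (by norm_num) h _ a3) (hgT (by norm_num) h _ b3)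
    · exact h
  rw [C.ev_basis.1] at hz
  refine W.neg (T.K.mul_mem (T.K.mul_mem (T.K.inv_mem W.r_K) T.z_K) W.r_K) (ws := [4, 1, 5, 5, 1, 4]) ?_
    (W.mem_Lr.1 hz).2
  rw [π_conj W.r_K T.z_K W.r_K, W.pr, O.pz]
  exact P8.neg_facts.2.2

theorem Lr_inj {g g' : G} (hg : g ∈ W.Lr) (hg' : g' ∈ W.Lr) {A : ℕ} (h : ActB C.ev g A) (h' : ActB C.ev g' A) :
    g = g' :=
  eq_of_inv_mul_eq_one (W.Lr_J (C.same_act h h') (mul_mem (inv_mem hg) hg'))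

include W in
theorem card_Lr_M : Nat.card ↥(W.Lr ⊓ H.M) = 360 := by
  have hb : Function.Bijective fun g : ↥(W.Lr ⊓ H.M) => C.θ ⟨g, g.2.2⟩ := by
    refine ⟨fun g g' e => Subtype.ext (W.Lr_inj g.2.1 g'.2.1 (C.nact_M g.2.2) ?_), fun σ => ?_⟩
    · rw [show C.θ ⟨g, g.2.2⟩ = C.θ ⟨g', g'.2.2⟩ from e]
      exact C.nact_M g'.2.2
    · obtain ⟨k, hk, hkM, hkA⟩ := W.Lr_real (C.mat_mem σ)
      exact ⟨⟨k, hk, hkM⟩, C.mat_inj (C.nact_unique (C.nact_M hkM) hkA)⟩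
  rw [Nat.card_congr (Equiv.ofBijective _ hb), nat_card_alternatingGroup, Nat.card_fin]
  rfl

end Wl

end Cfsg.Agent.Spor.McLThree
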