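import Cfsg.Agent.Lib.Spor.McLThree.NAffine

/-!
The stabilizer of the far point has order at least 20160, so the far orbit has at most 162 points.
-/

set_option autoImplicit false
set_option maxRecDepth 100000
set_option synthInstance.maxSize 4096
set_option linter.unusedSectionVars false

namespace Cfsg.Agent.Spor.McLThree

open Subgroup Cfsg.Agent.Spor.UFourType

universe u

/-- A predicate constant on the orbits selects one of the sums. -/
theorem count_sums {P : ℕ → Prop} [DecidablePred P] :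
    ∀ os : List (ℕ × List ℕ), (∀ o ∈ os, ∀ a ∈ orbM o, (P a ↔ P o.1)) →
      (os.flatMap orbM).countP (fun a => decide (P a)) ∈ oSums os
  | [], _ => by simp [oSums]
  | o :: os, h => by
    have ih := count_sums os fun o' ho' => h o' (List.mem_cons_of_mem _ ho')
    have ho := h o List.mem_cons_self
    rw [List.flatMap_cons, List.countP_append, oSums, List.mem_flatMap]
    refine ⟨_, ih, ?_⟩
    by_cases hP : P o.1
    · rw [(List.countP_eq_length (l := orbM o)).2 fun a ha => by simpa using (ho a ha).2 hP, add_comm]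
      simp
    · rw [(List.countP_eq_zero (l := orbM o)).2 fun a ha => by simpa using fun h' => hP ((ho a ha).1 h'), zero_add]
      simp

/-- An invariant predicate is constant along checked edges. -/
theorem edges_const {P : ℕ → Prop} {c h : ℕ}
    (hP : ∀ k < 3, ∀ u < 112, (P (img (nGen c h k).1 (nGen c h k).2 u) ↔ P u)) {r : ℕ} :
    ∀ (es seen : List ℕ), okEdges c h seen es = true → (∀ a ∈ seen, (P a ↔ P r)) →
      ∀ a ∈ es.map (fun k => k % 112), (P a ↔ P r)
  | [], _, _, _, a, ha => by simp at ha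
  | k :: es, seen, hok, hs, a, ha => by
    simp only [okEdges, Bool.and_eq_true, Nat.blt_eq, List.contains_iff_mem] at hok
    obtain ⟨hk, hu, he, hrest⟩ := hok
    replace he := Nat.eq_of_beq_eq_true he
    have hk' : P (k % 112) ↔ P r := by
      have := hP _ hk _ (Nat.mod_lt (k / 112) (by norm_num))
      rw [he] at this
      exact this.trans (hs _ hu)
    rcases List.mem_cons.1 ha with rfl | ha
    · exact hk'
    · exact edges_const hP es _ hrest (fun b hb => (List.mem_cons.1 hb).elim (fun e => e ▸ hk') (hs b)) a ha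

variable {G : Type u} [Group G] [Finite G] {H : Hyp G}

namespace Wl

variable {C : Sec H} {T : Tt C} {S : Swap T} {O : Co S} (W : Wl O)

theorem Lr_le_U : W.Lr ≤ W.U := inf_le_left

include W in
theorem dvd_Lr : 64 ∣ Nat.card W.Lr := by
  haveI : Finite T.K := inferInstance
  set f := O.π.comp (W.Lr.subgroupOf T.K).subtype with hf
  obtain ⟨hconj, hmul, hnd, hlen, hone⟩ := P8.s32_spec
  let R : Subgroup P8.Pm :=
    { carrier := {σ | σ ∈ P8.s32P}
      one_mem' := hone
      mul_mem' := fun {a b} ha hb => hmul a ha b hb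
      inv_mem' := fun {a} ha => by
        have hpow : ∀ m : ℕ, a ^ (m + 1) ∈ P8.s32P := fun m => by
          induction m with
          | zero => rwa [pow_one]
          | succ m ih => rw [pow_succ]; exact hmul _ ih _ ha
        have ho := orderOf_pos a
        show a⁻¹ ∈ P8.s32P
        rcases (show orderOf a = 1 ∨ 2 ≤ orderOf a by omega) with h | h
        · rw [orderOf_eq_one_iff.1 h, inv_one]; exact hone
        · rw [show a⁻¹ = a ^ (orderOf a - 2 + 1) from inv_eq_of_mul_eq_one_right (by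
            rw [← pow_succ', show orderOf a - 2 + 1 + 1 = orderOf a by omega, pow_orderOf_eq_one])]
          exact hpow _ }
  have hRc : Nat.card R = 32 := by
    show Nat.card {σ : P8.Pm // σ ∈ P8.s32P} = 32
    rw [Nat.card_congr (Equiv.subtypeEquivRight fun σ => (List.mem_toFinset (l := P8.s32P)).symm),
      Nat.card_eq_finsetCard, List.toFinset_card_of_nodup hnd, hlen]
  have hRle : R ≤ f.range := fun σ hσ => by
    obtain ⟨p, hp, rfl⟩ := List.mem_map.1 (show σ ∈ P8.s32.map fun p => P8.evW 1 p.1 from hσ)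
    obtain ⟨⟨g, hgK⟩, hgU, hge⟩ := W.evW_RU (one_mem _) p.1
    have hgL : g ∈ W.Lr := W.Lr_K hgK (mem_subgroupOf.1 hgU) (ws := p.2) (by rw [hge, hconj p hp])
    exact ⟨⟨⟨g, hgK⟩, mem_subgroupOf.2 hgL⟩, hge⟩
  have h32 : 32 ∣ Nat.card f.range := hRc ▸ Subgroup.card_dvd_of_le hRle
  let t' : W.Lr.subgroupOf T.K := ⟨⟨T.t, T.t_K⟩, mem_subgroupOf.2 W.t_Lr⟩
  have h2 : 2 ∣ Nat.card f.ker := by
    have ho : orderOf (⟨t', MonoidHom.mem_ker.2 O.π_t⟩ : f.ker) = 2 := by
      rw [← Subgroup.orderOf_coe, ← Subgroup.orderOf_coe, ← Subgroup.orderOf_coe]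
      exact T.t_order
    exact ho ▸ orderOf_dvd_natCard _
  have h := f.ker.card_mul_index
  rw [Subgroup.index_ker] at h
  have h64 : 64 ∣ Nat.card ↥(W.Lr.subgroupOf T.K) := h ▸ mul_dvd_mul h2 h32
  have hle : (W.Lr.subgroupOf T.K).map T.K.subtype ≤ W.Lr := by
    rintro _ ⟨a, ha, rfl⟩
    exact mem_subgroupOf.1 ha
  rw [Nat.card_congr (Subgroup.equivMapOfInjective _ _ T.K.subtype_injective).toEquiv] at h64
  exact h64.trans (Subgroup.card_dvd_of_le hle)

theorem card_Lr_eq : Nat.card W.Lr = 360 * (MulAction.orbit ↥W.Lr (cs H.M (1 : G))).ncard := by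
  have hstab : MulAction.stabilizer ↥W.Lr (cs H.M (1 : G)) = H.M.subgroupOf W.Lr := by
    ext g
    exact W.fix_base
  have h := MulAction.index_stabilizer ↥W.Lr (cs H.M (1 : G))
  rw [hstab] at h
  rw [← h, ← W.card_Lr_M, ← Subgroup.card_mul_index (H.M.subgroupOf W.Lr)]
  congr 1
  rw [← inf_subgroupOf_left]
  exact Nat.card_congr (Subgroup.subgroupOfEquivOfLe inf_le_left).toEquiv

include W in
theorem Lr_large : 20160 ≤ Nat.card W.Lr := by
  classical
  obtain ⟨kk, R⟩ := W.exists_reps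
  set O' := MulAction.orbit ↥W.Lr (cs H.M (1 : G)) with hO'
  have hsub : O' ⊆ Set.range (W.pt kk) := by
    rintro _ ⟨g, rfl⟩
    rw [← R.orbit_eq]
    exact ⟨⟨g, W.Lr_le_U g.2⟩, rfl⟩
  let P : ℕ → Prop := fun a => ∃ n : Fin 112, n.1 = a ∧ W.pt kk n ∈ O'
  have hPn : ∀ n : Fin 112, P n.1 ↔ W.pt kk n ∈ O' := fun n =>
    ⟨fun ⟨m, hm, h⟩ => Fin.ext hm ▸ h, fun h => ⟨n, rfl, h⟩⟩
  have hcount : O'.ncard = (List.range 112).countP fun a => decide (P a) := by
    have e : O' = W.pt kk '' {n | W.pt kk n ∈ O'} := by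
      ext y
      refine ⟨fun hy => ?_, fun ⟨n, hn, e⟩ => e ▸ hn⟩
      obtain ⟨n, rfl⟩ := hsub hy
      exact ⟨n, hy, rfl⟩
    have e2 : Fin.val '' {n : Fin 112 | W.pt kk n ∈ O'} =
        (((List.range 112).filter fun a => decide (P a)).toFinset : Set ℕ) := by
      ext a
      simp only [Set.mem_image, List.coe_toFinset, Set.mem_ofPred_eq, List.mem_filter, List.mem_range,
        decide_eq_true_eq]
      exact ⟨fun ⟨n, hn, e⟩ => e ▸ ⟨n.2, (hPn n).2 hn⟩, fun ⟨_, n, hn, h⟩ => ⟨n, h, hn⟩⟩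
    conv_lhs => rw [e]
    rw [Set.ncard_image_of_injective _ R.pt_inj, ← Set.ncard_image_of_injective _ Fin.val_injective, e2,
      Set.ncard_coe_finset, List.toFinset_card_of_nodup (List.nodup_range.filter _), List.countP_eq_length_filter]
  obtain ⟨c, hc, k, hk, hkA, hck⟩ := W.exists_affine
  have hh := (mh_cases T.B T.B_mem).1
  have hcert := List.all_eq_true.1 (List.all_eq_true.1 nCert_ok c hc) _ hh
  obtain ⟨⟨⟨c', h'⟩, os⟩, -, he⟩ := List.any_eq_true.1 hcert
  simp only [okCert, Bool.and_eq_true, Nat.beq_eq_true_eq, List.all_eq_true, Nat.blt_eq, List.contains_iff_mem,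
    List.mem_range, Bool.or_eq_true, Bool.not_eq_true', Nat.ble_eq] at he
  obtain ⟨-, -, ⟨hedge, hcov, hlen⟩, ⟨hr0, hr1⟩, hsum⟩ := he
  replace hlen := Nat.eq_of_beq_eq_true hlen
  replace hr0 := Nat.eq_of_beq_eq_true hr0
  replace hr1 := Nat.eq_of_beq_eq_true hr1
  have hinv : ∀ {g : G}, g ∈ W.Lr → ∀ n m : Fin 112, g • W.pt kk n = W.pt kk m → (P m.1 ↔ P n.1) := by
    intro g hg n m e
    rw [hPn, hPn, ← e]
    constructor <;> rintro ⟨a, ha⟩
    · exact ⟨(⟨g, hg⟩ : W.Lr)⁻¹ * a, by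
        show ((⟨g, hg⟩ : W.Lr)⁻¹ * a) • cs H.M (1 : G) = _
        rw [mul_smul, show a • cs H.M (1 : G) = _ from ha]
        exact inv_smul_smul g _⟩
    · exact ⟨(⟨g, hg⟩ : W.Lr) * a, by
        show ((⟨g, hg⟩ : W.Lr) * a) • cs H.M (1 : G) = _
        rw [mul_smul, show a • cs H.M (1 : G) = _ from ha]
        rfl⟩
  have hP : ∀ j < 3, ∀ u < 112, (P (img (nGen c (mh T.B) j).1 (nGen c (mh T.B) j).2 u) ↔ P u) := by
    intro j hj u hu
    obtain ⟨g, A, d, hg, hA, hgL, hd⟩ : ∃ g A d, g ∈ W.Kst ∧ ActB C.ev g A ∧ C.ev d * g ∈ W.Lr ∧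
        nGen c (mh T.B) j = (d, A) := by
      interval_cases j
      · exact ⟨k, mA0, c, hk, hkA, hck, rfl⟩
      · exact ⟨S.x, mW0, 0, W.x_Kst.1, S.x_act, by rw [C.ev0, one_mul]; exact W.x_Lr, rfl⟩
      · exact ⟨O.h, _, 0, W.h_Kst.1, O.h_act, by rw [C.ev0, one_mul]; exact W.h_Lr, rfl⟩
    obtain ⟨m, hm, em⟩ := R.img_pt hg hA d ⟨u, hu⟩
    rw [hd]
    simp only at hm ⊢
    rw [← hm]
    exact hinv hgL _ _ em
  have hperm : (os.flatMap orbM).Perm (List.range 112) :=
    ((List.nodup_range.subperm fun a ha => hcov a (List.mem_range.1 ha)).perm_of_length_le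
      (by rw [hlen, List.length_range])).symm
  have hconst : ∀ o ∈ os, ∀ a ∈ orbM o, (P a ↔ P o.1) := fun o ho a ha => by
    rcases List.mem_cons.1 ha with rfl | ha
    · exact Iff.rfl
    · exact edges_const hP o.2 [o.1] (hedge o ho).2 (fun b hb => by rw [List.mem_singleton.1 hb]) a ha
  obtain ⟨o0, o1, rest, rfl⟩ : ∃ o0 o1 rest, os = o0 :: o1 :: rest := by
    match os, hr0, hr1 with
    | [], h, _ => simp at h
    | [_], _, h => simp at h
    | o0 :: o1 :: rest, _, _ => exact ⟨_, _, _, rfl⟩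
  simp only [List.getD_cons_zero, List.getD_cons_succ] at hr0 hr1 hsum
  have hP0 : P 0 := ⟨0, rfl, R.pt_base ▸ MulAction.mem_orbit_self _⟩
  have hP1 : P 1 := by
    obtain ⟨n, hn, en⟩ := R.pt_N (show 0 < 10 by norm_num) (show ((0 : Fin 3) : ℕ) < 3 by norm_num)
    refine ⟨n, hn, ?_⟩
    rw [en, ← R.first_eq]
    exact ⟨⟨W.w, W.w_Lr⟩, by show W.w • cs H.M 1 = _; rw [cs_smul, mul_one]⟩
  have hc0 : (orbM o0).countP (fun a => decide (P a)) = (orbM o0).length := List.countP_eq_length.2 fun a ha => by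
    exact decide_eq_true ((hconst o0 List.mem_cons_self a ha).2 (hr0 ▸ hP0))
  have hc1 : (orbM o1).countP (fun a => decide (P a)) = (orbM o1).length := List.countP_eq_length.2 fun a ha => by
    exact decide_eq_true ((hconst o1 (List.mem_cons_of_mem _ List.mem_cons_self) a ha).2 (hr1 ▸ hP1))
  have hN : O'.ncard = (orbM o0).length + (orbM o1).length + (rest.flatMap orbM).countP (fun a => decide (P a)) := by
    rw [hcount, ← hperm.countP_eq, List.flatMap_cons, List.flatMap_cons, List.countP_append, List.countP_append,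
      hc0, hc1, add_assoc]
  have hs := hsum _ (count_sums rest fun o ho => hconst o (List.mem_cons_of_mem _ (List.mem_cons_of_mem _ ho)))
  rw [← hN] at hs
  have hL := W.card_Lr_eq
  rw [← hO'] at hL
  have hdU : Nat.card W.Lr ∣ 3265920 := W.card_U' ▸ Subgroup.card_dvd_of_le W.Lr_le_U
  have h64 := W.dvd_Lr
  rw [hL] at hdU h64 ⊢
  have h9 : O'.ncard ∣ 9072 := Nat.dvd_of_mul_dvd_mul_left (show 0 < 360 by norm_num) hdU
  have h8 : 8 ∣ O'.ncard := by omega
  rcases hs with h | h
  · rw [Bool.and_eq_false_iff] at h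
    rcases h with h | h
    · rw [Nat.mod_eq_zero_of_dvd h8] at h; exact absurd h (by decide)
    · rw [Nat.mod_eq_zero_of_dvd h9] at h; exact absurd h (by decide)
  · omega

include W in
/-- The far orbit has at most 162 points. -/
theorem far_le : (MulAction.orbit ↥W.U (cs W.U W.r)).ncard ≤ 162 := by
  have hstab : MulAction.stabilizer ↥W.U (cs W.U W.r) = W.Lr.subgroupOf W.U := by
    ext g
    rw [MulAction.mem_stabilizer_iff, mem_subgroupOf, W.mem_Lr]
    exact ⟨fun h => ⟨g.2, W.fix_U.1 h⟩, fun h => W.fix_U.2 h.2⟩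
  have h := MulAction.index_stabilizer ↥W.U (cs W.U W.r)
  rw [hstab] at h
  have hcard := Subgroup.card_mul_index (W.Lr.subgroupOf W.U)
  rw [h, Nat.card_congr (Subgroup.subgroupOfEquivOfLe W.Lr_le_U).toEquiv, W.card_U'] at hcard
  have := W.Lr_large
  nlinarith

end Wl

end Cfsg.Agent.Spor.McLThree
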