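import Cfsg.Agent.Lib.Spor.McLThree.NBound

/-!
The far orbit: two regular orbits of `J`, with 162 points.
-/

set_option autoImplicit false
set_option maxRecDepth 100000
set_option synthInstance.maxSize 4096
set_option linter.unusedSectionVars false

namespace Cfsg.Agent.Spor.McLThree

open Subgroup Cfsg.Agent.Spor.UFourType

universe u

variable {G : Type u} [Group G] [Finite G] {H : Hyp G}

namespace Wl

variable {C : Sec H} {T : Tt C} {S : Swap T} {O : Co S} (W : Wl O)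

/-- The second far point. -/
noncomputable def rq : G := C.f * W.w * C.f * W.r

theorem u2_U : C.f * W.w * C.f ∈ W.U :=
  mul_mem (mul_mem (W.M_le_U (H.J_le_M C.f_J)) W.w_U) (W.M_le_U (H.J_le_M C.f_J))

theorem rq_K : W.rq ∈ T.K :=
  T.K.mul_mem (T.K.mul_mem (T.K.mul_mem T.f_K W.w_K) T.f_K) W.r_K

theorem prq : O.π ⟨W.rq, W.rq_K⟩ = P8.rQ := by
  rw [show (⟨W.rq, W.rq_K⟩ : T.K) = ⟨C.f, T.f_K⟩ * ⟨W.w, W.w_K⟩ * ⟨C.f, T.f_K⟩ * ⟨W.r, W.r_K⟩ from rfl, map_mul,
    map_mul, map_mul, O.pf, W.pw, W.pr]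
  exact P8.far_facts.2.symm

include W in
/-- An element commuting with `t` fixes a point when its conjugate is reached by a word. -/
theorem K_fixes {a g : G} (ha : a ∈ T.K) (hg : g ∈ T.K) {ws : List ℕ}
    (h : P8.evW 1 ws = (O.π ⟨a, ha⟩)⁻¹ * O.π ⟨g, hg⟩ * O.π ⟨a, ha⟩) : g • cs W.U a = cs W.U a :=
  W.fix_U.2 (W.pos (T.K.mul_mem (T.K.mul_mem (T.K.inv_mem ha) hg) ha) (by rw [π_conj ha hg ha]; exact h))

theorem t_fix {a : G} (ha : a ∈ T.K) : T.t • cs W.U a = cs W.U a :=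
  W.fix_U.2 (by rw [mul_assoc, (Co.t_cen ha).eq, inv_mul_cancel_left]; exact W.t_U)

theorem h_fix : O.h • cs W.U W.rq = cs W.U W.rq :=
  W.K_fixes W.rq_K O.h_K (ws := [3, 4]) (by rw [W.prq, O.ph]; exact P8.pos_facts.2.2.2.1)

theorem n_fix : O.n • cs W.U W.rq = cs W.U W.rq :=
  W.K_fixes W.rq_K O.n_K (ws := [4, 0]) (by rw [W.prq, O.pn]; exact P8.pos_facts.2.2.2.2.1)

/-- No element of the plane fixes the second far point. -/
theorem P_fix {a : G} (ha : a ∈ T.P) (h : a • cs W.U W.rq = cs W.U W.rq) : a = 1 := by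
  rcases P8.negQ_spec _ (O.π_P ha) with hd | ⟨ws, -, hws⟩
  · exact O.three_eq ha.2 T.K.one_mem (H.J_cube _ ha.1) (one_pow 3) (hd.trans (map_one O.π).symm)
  · refine absurd (W.fix_U.1 h) (W.neg (T.K.mul_mem (T.K.mul_mem (T.K.inv_mem W.rq_K) ha.2) W.rq_K) (ws := ws) ?_)
    rw [π_conj W.rq_K ha.2 W.rq_K, W.prq]
    exact hws

/-- A translation fixing the second far point is inverted by `t`. -/
theorem rq_mid {v : ℕ} (hv : v < 81) (h : C.ev v • cs W.U W.rq = cs W.U W.rq) : v ∈ midL := by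
  set a := C.ev v
  set a' := T.t * a * T.t⁻¹ with ha'
  have ha'J : a' ∈ H.J := ((mem_normalizer_iff.1 T.t_N) a).1 (C.ev_J v)
  have htt : T.t⁻¹ = T.t := inv_eq_of_mul_eq_one_right T.t_sq
  have hfix : (a * a') • cs W.U W.rq = cs W.U W.rq := by
    rw [ha', htt]
    simp only [mul_smul, W.t_fix W.rq_K, h]
  have hc : a * a' = 1 := by
    refine W.P_fix ⟨mul_mem (C.ev_J v) ha'J, T.mem_K.2 ?_⟩ hfix
    calc a * a' * T.t = a * (T.t * a) := by rw [ha']; group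
      _ = T.t * (a' * a) := by
        rw [ha', show T.t * (T.t * a * T.t⁻¹ * a) = T.t * T.t * a * T.t⁻¹ * a by group, T.t_sq, htt]; group
      _ = _ := by rw [H.J_comm _ ha'J _ (C.ev_J v)]
  exact mid_codes v hv (C.ev_inj (ap_lt _ _) (vS_lt _ _) (by
    rw [← T.t_act.2 v hv, C.ev_smul, sq, three_sq (H.J_cube _ (C.ev_J v))]
    exact eq_inv_of_mul_eq_one_right hc))

/-- The stabilizer in `M` of the second far point. -/
noncomputable def Sm : Subgroup G := H.M ⊓ W.U.comap (MulAut.conj W.rq⁻¹).toMonoidHom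

theorem mem_Sm {g : G} : g ∈ W.Sm ↔ g ∈ H.M ∧ g • cs W.U W.rq = cs W.U W.rq := by
  rw [Sm, Subgroup.mem_inf, Subgroup.mem_comap, MulEquiv.coe_toMonoidHom, MulAut.conj_apply, inv_inv, W.fix_U]

include W in
/-- The second far point is moved by every translation. -/
theorem rq_J {v : ℕ} (hv : v < 81) (h : C.ev v • cs W.U W.rq = cs W.U W.rq) : v = 0 := by
  classical
  by_contra hne
  have hvm := W.rq_mid hv h
  have hall : ∀ u ∈ midL, C.ev u • cs W.U W.rq = cs W.U W.rq := by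
    intro u hu
    obtain ⟨i, j, hij⟩ := mid_irr T.B T.B_mem v hvm hne u hu
    have hh' : C.ev (ap (mh T.B) v) • cs W.U W.rq = cs W.U W.rq := by
      rw [← O.h_act.2 v hv, mul_smul, mul_smul, inv_smul_eq_iff.2 W.h_fix.symm, h, W.h_fix]
    rw [← hij, C.ev_add, C.ev_smul, C.ev_smul]
    exact (MulAction.stabilizer G (cs W.U W.rq)).mul_mem (pow_mem (MulAction.mem_stabilizer_iff.2 h) _)
      (pow_mem (MulAction.mem_stabilizer_iff.2 hh') _)
  have hle : W.Sm ≤ H.M := inf_le_left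
  set f := C.θ.comp (inclusion hle) with hf
  have hker : Nat.card f.ker ≤ 9 := by
    have hmem : ∀ g : f.ker, ∃ u ∈ midL, C.ev u = ((g : W.Sm) : G) := fun g => by
      obtain ⟨hgM, hgf⟩ := W.mem_Sm.1 g.1.2
      have hA := C.nact_M hgM
      rw [show C.θ ⟨_, hgM⟩ = 1 from MonoidHom.mem_ker.1 g.2, C.mat_one] at hA
      obtain ⟨u, hu, hue⟩ := C.ev_surj (C.act_mI_mem hA)
      exact ⟨u, W.rq_mid hu (hue ▸ hgf), hue⟩
    choose F hF hFe using hmem
    have := Nat.card_le_card_of_injective (fun g => (⟨F g, hF g⟩ : {u // u ∈ midL})) fun a b e =>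
      Subtype.ext (Subtype.ext (by rw [← hFe a, ← hFe b, show F a = F b from congrArg Subtype.val e]))
    rwa [Nat.card_congr (Equiv.subtypeEquivRight fun u => (List.mem_toFinset (l := midL)).symm),
      Nat.card_eq_finsetCard, List.toFinset_card_of_nodup mid_facts.1, mid_facts.2.1] at this
  have hrange : Nat.card f.range ≤ 8 := by
    set L8 := gT.filter fun A => midL.all fun u => midL.contains (ap A u) with hL8
    have hmem : ∀ σ : f.range, C.mat σ ∈ L8 := by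
      rintro ⟨_, g, rfl⟩
      obtain ⟨hgM, hgf⟩ := W.mem_Sm.1 g.2
      refine List.mem_filter.2 ⟨C.mat_mem _, List.all_eq_true.2 fun u hu => List.contains_iff_mem.2 ?_⟩
      refine W.rq_mid (ap_lt _ _) ?_
      show C.ev (ap (C.mat (C.θ ⟨_, hgM⟩)) u) • _ = _
      rw [← (C.nact_M hgM).2 u (mid_facts.2.2 u hu).1, mul_smul, mul_smul, inv_smul_eq_iff.2 hgf.symm, hall u hu,
        hgf]
    have := Nat.card_le_card_of_injective (fun σ : f.range => (⟨C.mat σ, hmem σ⟩ : {A // A ∈ L8})) fun a b e =>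
      Subtype.ext (C.mat_inj (congrArg Subtype.val e))
    rw [Nat.card_congr (Equiv.subtypeEquivRight fun u => (List.mem_toFinset (l := L8)).symm),
      Nat.card_eq_finsetCard] at this
    exact this.trans ((List.toFinset_card_le _).trans mid_stab)
  have hcard : Nat.card W.Sm ≤ 72 := by
    rw [← f.ker.card_mul_index, Subgroup.index_ker]
    calc _ ≤ 9 * 8 := Nat.mul_le_mul hker hrange
      _ = 72 := rfl
  have hstab : MulAction.stabilizer ↥H.M (cs W.U W.rq) = W.Sm.subgroupOf H.M := by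
    ext g
    rw [MulAction.mem_stabilizer_iff, mem_subgroupOf, W.mem_Sm]
    exact ⟨fun h => ⟨g.2, h⟩, fun h => h.2⟩
  have hidx := MulAction.index_stabilizer ↥H.M (cs W.U W.rq)
  rw [hstab] at hidx
  have hc := Subgroup.card_mul_index (W.Sm.subgroupOf H.M)
  rw [hidx, Nat.card_congr (Subgroup.subgroupOfEquivOfLe hle).toEquiv, H.card_M] at hc
  have hsub : (MulAction.orbit ↥H.M (cs W.U W.rq)).ncard ≤ (MulAction.orbit ↥W.U (cs W.U W.r)).ncard := by
    refine Set.ncard_le_ncard ?_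
    rintro _ ⟨g, rfl⟩
    refine ⟨⟨(g : G) * (C.f * W.w * C.f), mul_mem (W.M_le_U g.2) W.u2_U⟩, ?_⟩
    show ((g : G) * (C.f * W.w * C.f)) • cs W.U W.r = (g : G) • cs W.U W.rq
    rw [mul_smul, cs_smul _ _ W.r]
    rfl
  have := W.far_le
  nlinarith

include W in
/-- The far orbit. -/
theorem far_orbit : MulAction.orbit ↥W.U (cs W.U W.r) =
      {y | ∃ v < 81, y = C.ev v • cs W.U W.r ∨ y = C.ev v • cs W.U W.rq} ∧
    (MulAction.orbit ↥W.U (cs W.U W.r)).ncard = 162 := by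
  classical
  have hsub : ∀ {u v : ℕ}, u < 81 → v < 81 → ∀ {b : G ⧸ W.U}, C.ev u • b = C.ev v • b →
      C.ev (vA v (vS 2 u)) • b = b := fun {u v} _ _ {b} h => by
    rw [C.ev_add, C.ev_smul, sq, three_sq (H.J_cube _ (C.ev_J u)), H.J_comm _ (C.ev_J v) _ (inv_mem (C.ev_J u)),
      mul_smul, ← h, inv_smul_smul]
  have heq : ∀ {u v : ℕ}, u < 81 → v < 81 → vA v (vS 2 u) = 0 → u = v := fun {u v} hu hv h => by
    refine C.ev_inj hu hv ?_
    have h' := congrArg C.ev h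
    rw [C.ev_add, C.ev_smul, sq, three_sq (H.J_cube _ (C.ev_J u)), C.ev0, mul_inv_eq_one] at h'
    exact h'.symm
  have hr : ∀ {u v : ℕ}, u < 81 → v < 81 → C.ev u • cs W.U W.r = C.ev v • cs W.U W.r → u = v := by
    intro u v hu hv h
    refine heq hu hv (C.ev_eq_one (vA_lt _ _) (W.Lr_J (C.ev_J _) (W.mem_Lr.2
      ⟨W.M_le_U (H.J_le_M (C.ev_J _)), W.fix_U.1 (hsub hu hv h)⟩)))
  have hq : ∀ {u v : ℕ}, u < 81 → v < 81 → C.ev u • cs W.U W.rq = C.ev v • cs W.U W.rq → u = v :=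
    fun hu hv h => heq hu hv (W.rq_J (vA_lt _ _) (hsub hu hv h))
  have hne : ∀ {v : ℕ}, v < 81 → C.ev v • cs W.U W.r ≠ cs W.U W.rq := by
    intro v hv he
    have h1 := congrArg (fun y => T.t • y) he
    simp only [W.t_fix W.rq_K] at h1
    rw [← mul_smul, show T.t * C.ev v = (T.t * C.ev v * T.t⁻¹) * T.t by group, mul_smul, W.t_fix W.r_K,
      T.t_act.2 v hv] at h1
    have hfix := hr (ap_lt _ _) hv (h1.trans he.symm)
    have hP : C.ev v ∈ T.P := ⟨C.ev_J v, T.mem_K.2 (by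
      have := T.t_act.2 v hv
      rw [hfix] at this
      exact (mul_inv_eq_iff_eq_mul.1 this).symm)⟩
    obtain ⟨ws, -, hws⟩ := P8.negR_spec _ (O.π_P hP)
    refine W.neg (T.K.mul_mem (T.K.mul_mem (T.K.inv_mem W.rq_K) hP.2) W.r_K) (ws := ws) ?_ ?_
    · rw [π_conj W.rq_K hP.2 W.r_K, W.prq, W.pr]
      exact hws
    · rw [cs_smul, cs_eq] at he
      have := inv_mem he
      rwa [show ((C.ev v * W.r)⁻¹ * W.rq)⁻¹ = W.rq⁻¹ * C.ev v * W.r by group] at this
  let A : Set (G ⧸ W.U) := (fun v : Fin 81 => C.ev v • cs W.U W.r) '' Set.univ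
  let B : Set (G ⧸ W.U) := (fun v : Fin 81 => C.ev v • cs W.U W.rq) '' Set.univ
  have hset : {y | ∃ v < 81, y = C.ev v • cs W.U W.r ∨ y = C.ev v • cs W.U W.rq} = A ∪ B := by
    ext y
    constructor
    · rintro ⟨v, hv, rfl | rfl⟩
      exacts [Or.inl ⟨⟨v, hv⟩, Set.mem_univ _, rfl⟩, Or.inr ⟨⟨v, hv⟩, Set.mem_univ _, rfl⟩]
    · rintro (⟨v, -, rfl⟩ | ⟨v, -, rfl⟩)
      exacts [⟨v, v.2, Or.inl rfl⟩, ⟨v, v.2, Or.inr rfl⟩]
  have hdis : Disjoint A B := by
    rw [Set.disjoint_left]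
    rintro _ ⟨u, -, rfl⟩ ⟨v, -, he⟩
    refine hne (vA_lt (u : ℕ) (vS 2 (v : ℕ))) ?_
    rw [C.ev_add, C.ev_smul, sq, three_sq (H.J_cube _ (C.ev_J v)), H.J_comm _ (C.ev_J u) _ (inv_mem (C.ev_J v)),
      mul_smul, ← (show C.ev v • cs W.U W.rq = C.ev u • cs W.U W.r from he), inv_smul_smul]
  have hAB : (A ∪ B).ncard = 162 := by
    rw [Set.ncard_union_eq hdis, Set.ncard_image_of_injective _ fun u v h => Fin.ext (hr u.2 v.2 h),
      Set.ncard_image_of_injective _ fun u v h => Fin.ext (hq u.2 v.2 h), Set.ncard_univ, Nat.card_fin]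
  have hle : A ∪ B ⊆ MulAction.orbit ↥W.U (cs W.U W.r) := by
    rintro _ (⟨v, -, rfl⟩ | ⟨v, -, rfl⟩)
    · exact ⟨⟨C.ev v, W.M_le_U (H.J_le_M (C.ev_J _))⟩, rfl⟩
    · refine ⟨⟨C.ev v * (C.f * W.w * C.f), mul_mem (W.M_le_U (H.J_le_M (C.ev_J _))) W.u2_U⟩, ?_⟩
      show (C.ev v * (C.f * W.w * C.f)) • cs W.U W.r = _
      rw [mul_smul, cs_smul _ _ W.r]
      rfl
  have he := Set.eq_of_subset_of_ncard_le hle (by rw [hAB]; exact W.far_le)
  exact ⟨hset ▸ he.symm, he ▸ hAB⟩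

end Wl

end Cfsg.Agent.Spor.McLThree
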