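import Cfsg.Agent.Lib.Spor.McLThree.NEntry
import Cfsg.Agent.Lib.Grp.Components
import Cfsg.Agent.Lib.Grp.ComponentSplit

/-!
The three-local data from generalized Fitting subgroups.
-/

set_option autoImplicit false
set_option maxRecDepth 100000
set_option synthInstance.maxSize 4096
set_option linter.unusedSectionVars false

namespace Cfsg.Agent.Spor.McLThree

open Subgroup

universe u

open Char.SL25Facts in
theorem sl5_outer_sq : ∃ w : SL5, w * T * w⁻¹ = (T ^ 2) ^ 2 ∧ w * a * w⁻¹ = i * (i * a) := by decide +kernel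

theorem sl5_three_gen : (∃ x : SL5, x * x * x = 1 ∧ ∃ y : SL5, y * y * y = 1 ∧ ∃ v : SL5, v * v * v = 1 ∧
      x * y * v = Char.SL25Facts.T) ∧
    ∃ x : SL5, x * x * x = 1 ∧ ∃ y : SL5, y * y * y = 1 ∧ x * y = Char.SL25Facts.a := by
  decide +kernel

open Char.SL25Facts in
/-- The square of an automorphism of `SL₂(5)` is inner. -/
theorem sl5_aut_sq (α : SL5 ≃* SL5) : ∃ y : SL5, ∀ x, α (α x) = y * x * y⁻¹ := by
  have ext2 : ∀ f g : SL5 →* SL5, f T = g T → f a = g a → ∀ x, f x = g x := fun f g hT ha x =>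
    (show x ∈ f.eqLocus g from (eq_top (K := f.eqLocus g) hT ha).symm ▸ mem_top x)
  obtain ⟨y, hy⟩ := hom_cases α.toMonoidHom α.injective
  suffices h : ∃ w, α (α T) = w * T * w⁻¹ ∧ α (α a) = w * a * w⁻¹ from by
    obtain ⟨w, h1, h2⟩ := h
    exact ⟨w, ext2 (α.toMonoidHom.comp α.toMonoidHom) (MulAut.conj w).toMonoidHom h1 h2⟩
  simp only [MulEquiv.coe_toMonoidHom] at hy
  rcases hy with ⟨hT, ha⟩ | ⟨hT, ha⟩
  · have hT' : α T = y⁻¹ * T * y := by
      calc α T = y⁻¹ * (y * α T * y⁻¹) * y := by group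
        _ = _ := by rw [hT]
    have ha' : α a = y⁻¹ * a * y := by
      calc α a = y⁻¹ * (y * α a * y⁻¹) * y := by group
        _ = _ := by rw [ha]
    refine ⟨(α y)⁻¹ * y⁻¹, ?_, ?_⟩
    · rw [hT', map_mul, map_mul, map_inv, hT']; group
    · rw [ha', map_mul, map_mul, map_inv, ha']; group
  · have hT' : α T = y⁻¹ * T ^ 2 * y := by
      calc α T = y⁻¹ * (y * α T * y⁻¹) * y := by group
        _ = _ := by rw [hT]
    have ha' : α a = y⁻¹ * (i * a) * y := by
      calc α a = y⁻¹ * (y * α a * y⁻¹) * y := by group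
        _ = _ := by rw [ha]
    have hTn : ∀ n : ℕ, α (T ^ n) = y⁻¹ * (T ^ 2) ^ n * y := fun n => by
      rw [map_pow, hT', show y⁻¹ * T ^ 2 * y = y⁻¹ * T ^ 2 * y⁻¹⁻¹ by group, conj_pow]; group
    have hi' : α i = y⁻¹ * i * y := by
      calc α i = α (a * T ^ 3 * a * T ^ 2 * a * T ^ 3) := by rw [i_word]
        _ = y⁻¹ * ((i * a) * (T ^ 2) ^ 3 * (i * a) * (T ^ 2) ^ 2 * (i * a) * (T ^ 2) ^ 3) * y := by
          rw [map_mul, map_mul, map_mul, map_mul, map_mul, ha', hTn, hTn]; group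
        _ = _ := by rw [i_image]
    obtain ⟨w, hw1, hw2⟩ := sl5_outer_sq
    refine ⟨(α y)⁻¹ * y⁻¹ * w, ?_, ?_⟩
    · rw [show (α y)⁻¹ * y⁻¹ * w * T * ((α y)⁻¹ * y⁻¹ * w)⁻¹ = (α y)⁻¹ * y⁻¹ * (w * T * w⁻¹) * (y * α y) by group,
        hw1, hT', map_mul, map_mul, map_inv, hTn]
      group
    · rw [show (α y)⁻¹ * y⁻¹ * w * a * ((α y)⁻¹ * y⁻¹ * w)⁻¹ = (α y)⁻¹ * y⁻¹ * (w * a * w⁻¹) * (y * α y) by group,
        hw2, ha', map_mul, map_mul, map_inv, map_mul, hi', ha']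
      group

/-- Lifting elements of three-power order. -/
theorem three_lift {K K' : Type*} [Group K] [Finite K] [Group K'] (f : K →* K') {g : K} {k : ℕ}
    (h : f g ^ 3 ^ k = 1) : ∃ g' : K, f g' = f g ∧ ∃ n : ℕ, g' ^ 3 ^ n = 1 := by
  obtain ⟨e, b, hb, hn⟩ := Nat.exists_eq_pow_mul_and_not_dvd (orderOf_pos g).ne' 3 (by norm_num)
  set N := k + e
  have hcop : Nat.Coprime b (3 ^ N) :=
    Nat.Coprime.pow_right N ((Nat.prime_three.coprime_iff_not_dvd.2 hb).symm)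
  have hbz := Nat.gcd_eq_gcd_ab b (3 ^ N)
  rw [hcop.gcd_eq_one] at hbz
  set u := Nat.gcdA b (3 ^ N)
  set v := Nat.gcdB b (3 ^ N)
  have hg : g ^ (b * 3 ^ N) = 1 := orderOf_dvd_iff_pow_eq_one.1 (hn ▸ by
    rw [mul_comm b]
    exact mul_dvd_mul_right (pow_dvd_pow 3 (Nat.le_add_left e k)) b)
  have hf : f g ^ (3 ^ N : ℕ) = 1 := by rw [pow_add, pow_mul, h, one_pow]
  refine ⟨g ^ ((b : ℤ) * u), ?_, N, ?_⟩
  · rw [map_zpow, show ((b : ℤ) * u) = 1 - ((3 ^ N : ℕ) : ℤ) * v by push_cast at hbz ⊢; omega, zpow_sub, zpow_one,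
      zpow_mul, zpow_natCast, hf, one_zpow, inv_one, mul_one]
  · rw [← zpow_natCast, ← zpow_mul, show (b : ℤ) * u * ((3 ^ N : ℕ) : ℤ) = ((b * 3 ^ N : ℕ) : ℤ) * u by
      push_cast; ring, zpow_mul, zpow_natCast, hg, one_zpow]

variable {G : Type u} [Group G] [Finite G]

theorem gfit_normal (X : Type*) [Group X] [Finite X] : (Cfsg.generalizedFittingSubgroup X).Normal := by
  haveI := Transfer.fittingSubgroup_normal' X
  haveI := Grp.ComponentSplit.layer_normal (G := X)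
  exact Subgroup.sup_normal _ _

/-- In a group with `F*/Q = SL₂(5)` the elements of three-power order generate the preimage. -/
theorem three_in_gfit {X : Type u} [Group X] [Finite X] (e : ↥(Cfsg.generalizedFittingSubgroup X) ≃* SL5)
    {x : X} {k : ℕ} (hx : x ^ 3 ^ k = 1) : x ∈ Cfsg.generalizedFittingSubgroup X := by
  set E := Cfsg.generalizedFittingSubgroup X
  haveI : E.Normal := gfit_normal X
  let α : SL5 ≃* SL5 := e.symm.trans ((MulAut.conjNormal x : MulAut E).trans e)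
  obtain ⟨y, hy⟩ := sl5_aut_sq α
  set w := ((e.symm y : E) : X) with hw
  have hcent : w⁻¹ * (x * x) ∈ centralizer (E : Set X) := mem_centralizer_iff.2 fun b hb => by
    have h := hy (e ⟨b, hb⟩)
    simp only [α, MulEquiv.trans_apply, MulEquiv.symm_apply_apply] at h
    have h' : (MulAut.conjNormal x) ((MulAut.conjNormal x) (⟨b, hb⟩ : E)) = e.symm y * ⟨b, hb⟩ * (e.symm y)⁻¹ :=
      e.injective (by rw [map_mul, map_mul, map_inv, MulEquiv.apply_symm_apply]; exact h)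
    have h'' := congrArg Subtype.val h'
    rw [MulAut.conjNormal_apply, MulAut.conjNormal_apply] at h''
    have h3 : x * (x * b * x⁻¹) * x⁻¹ = w * b * w⁻¹ := h''
    calc b * (w⁻¹ * (x * x)) = w⁻¹ * (w * b * w⁻¹) * (x * x) := by group
      _ = _ := by rw [← h3]; group
  have h2 : x * x ∈ E := by
    have := mul_mem (e.symm y).2 (Grp.centralizer_gfitting_le hcent)
    rwa [← hw, mul_inv_cancel_left] at this
  obtain ⟨m, hm⟩ := (show Odd (3 ^ k) from Odd.pow (by decide))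
  have h1 : x = ((x * x) ^ m)⁻¹ := by
    refine eq_inv_of_mul_eq_one_right ?_
    rw [← sq, ← pow_mul, ← pow_succ, ← hm, hx]
  rw [h1]
  exact inv_mem (pow_mem h2 m)

end Cfsg.Agent.Spor.McLThree
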