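import Cfsg.Agent.Lib.Spor.McLThree.NFit

/-!
The three-local data from the centralizer of a group of order three.
-/

set_option autoImplicit false
set_option maxRecDepth 100000
set_option synthInstance.maxSize 4096
set_option linter.unusedSectionVars false

namespace Cfsg.Agent.Spor.McLThree

open Subgroup

universe u

variable {G : Type u} [Group G] [Finite G]

theorem center_le_gfit (X : Type u) [Group X] [Finite X] : center X ≤ Cfsg.generalizedFittingSubgroup X := by
  have h : center X ≤ Cfsg.fittingSubgroup X := by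
    refine le_sSup ⟨inferInstance, ⟨⟨1, ?_⟩⟩⟩
    rw [Subgroup.upperCentralSeries_one, eq_top_iff]
    exact fun x _ => Subgroup.mem_center_iff.2 fun y => mul_comm' y x
  exact h.trans le_sup_right

theorem exists_hyp (Z : Subgroup G) (hZ : Nat.card ↥Z = 3) (C : Subgroup G)
    (hC : C = Subgroup.centralizer (Z : Set G)) (S : Sylow 3 ↥C)
    (J : Subgroup G)
    (hJS : J ≤ ((S : Subgroup ↥C).map C.subtype))
    (hJ : Cfsg.IsElementaryAbelian 3 J) (hJcard : Nat.card ↥J = 3 ^ 4)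
    (hQ : Cfsg.IsExtraspecial 3 ↥(Cfsg.generalizedFittingSubgroup ↥C))
    (hQcard : Nat.card ↥(Cfsg.generalizedFittingSubgroup ↥C) = 3 ^ 5)
    [hQn : (Cfsg.generalizedFittingSubgroup ↥C).Normal]
    (hexp : ∀ x ∈ Cfsg.generalizedFittingSubgroup ↥C, x ^ 3 = 1)
    (hFMQ : Nonempty (↥(Cfsg.generalizedFittingSubgroup (↥C ⧸ Cfsg.generalizedFittingSubgroup ↥C)) ≃* Matrix.SpecialLinearGroup (Fin 2) (ZMod 5)))
    [hJn : (J.subgroupOf (Subgroup.normalizer (J : Set G))).Normal]
    (hA6 : Nonempty (↥(Subgroup.closure {x : ↥(Subgroup.normalizer (J : Set G)) ⧸ J.subgroupOf (Subgroup.normalizer (J : Set G)) | ∃ k : ℕ, orderOf x = 3 ^ k}) ≃* ↥(alternatingGroup (Fin 6)))) :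
    Nonempty (Hyp G) := by
  haveI : Fact (Nat.Prime 3) := ⟨Nat.prime_three⟩
  obtain ⟨eQ⟩ := hFMQ
  obtain ⟨eM⟩ := hA6
  set F := Cfsg.generalizedFittingSubgroup ↥C with hF
  haveI : IsCyclic Z := isCyclic_of_prime_card hZ
  obtain ⟨⟨z, hzZ⟩, hgen⟩ := IsCyclic.exists_ofOrder_eq_natCard (α := Z)
  rw [hZ, ← Subgroup.orderOf_coe] at hgen
  have hz : orderOf z = 3 := hgen
  have hZz : Z = zpowers z :=
    (eq_of_le_of_card_ge (zpowers_le.2 hzZ) (by rw [Nat.card_zpowers, hz, hZ])).symm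
  have hCeq : ∀ {g : G}, g ∈ C ↔ g * z = z * g := fun {g} => by
    rw [hC]
    refine ⟨fun hg => (mem_centralizer_iff.1 hg z hzZ).symm, fun hg => mem_centralizer_iff.2 fun a ha => ?_⟩
    rw [hZz] at ha
    obtain ⟨i, rfl⟩ := ha
    exact ((show Commute g z from hg).zpow_right i).eq.symm
  have hzC : z ∈ C := hCeq.2 rfl
  have hzF : (⟨z, hzC⟩ : C) ∈ F :=
    center_le_gfit _ (mem_center_iff.2 fun c => Subtype.ext (hCeq.1 c.2))
  set Q : Subgroup G := F.map C.subtype with hQdef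
  have hQC : Q ≤ C := map_subtype_le _
  have hzQ : z ∈ Q := ⟨_, hzF, rfl⟩
  let eF : F ≃* Q := F.equivMapOfInjective C.subtype C.subtype_injective
  have hQ243 : Nat.card Q = 243 := by
    rw [← Nat.card_congr eF.toEquiv, hQcard]
    norm_num
  have hzq : ∀ a ∈ Q, z * a = a * z := fun a ha => (hCeq.1 (hQC ha)).symm
  obtain ⟨hcm, hcen⟩ : (∀ a ∈ Q, ∀ b ∈ Q, a * b * a⁻¹ * b⁻¹ ∈ zpowers z) ∧
      ∀ a ∈ Q, (∀ b ∈ Q, a * b = b * a) → a ∈ zpowers z := by
    obtain ⟨h1, h2⟩ := extra_facts hQ (z := (⟨z, hzC⟩ : C)) (by rw [← Subgroup.orderOf_coe]; exact hz) hzF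
      fun a _ => Subtype.ext (hCeq.1 a.2).symm
    constructor
    · rintro _ ⟨a, ha, rfl⟩ _ ⟨b, hb, rfl⟩
      obtain ⟨i, hi⟩ := h1 a ha b hb
      exact ⟨i, by simpa using congrArg Subtype.val hi⟩
    · rintro _ ⟨a, ha, rfl⟩ h
      obtain ⟨i, hi⟩ := h2 a ha fun b hb => Subtype.ext (h b ⟨b, hb, rfl⟩)
      exact ⟨i, by simpa using congrArg Subtype.val hi⟩
  -- the quotient
  set E := Cfsg.generalizedFittingSubgroup (↥C ⧸ F) with hE
  set P : Subgroup C := E.comap (QuotientGroup.mk' F) with hP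
  have hFP : F ≤ P := fun a ha => by
    rw [hP, mem_comap, QuotientGroup.mk'_apply, (QuotientGroup.eq_one_iff a).2 ha]
    exact one_mem _
  have h3P : ∀ (c : C) (k : ℕ), c ^ 3 ^ k = 1 → c ∈ P := fun c k hk =>
    three_in_gfit eQ (x := QuotientGroup.mk' F c) (k := k) (by rw [← map_pow, hk, map_one])
  let ψP : P →* SL5 := eQ.toMonoidHom.comp ((QuotientGroup.mk' F).subgroupComap E)
  have hψker : ∀ c : P, ψP c = 1 ↔ (c : C) ∈ F := fun c => by
    rw [MonoidHom.comp_apply, MulEquiv.coe_toMonoidHom, MulEquiv.map_eq_one_iff, Subtype.ext_iff]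
    exact QuotientGroup.eq_one_iff _
  have hψsurj : Function.Surjective ψP := fun s => by
    obtain ⟨c, hc⟩ := QuotientGroup.mk'_surjective F ((eQ.symm s : E) : ↥C ⧸ F)
    refine ⟨⟨c, by rw [hP, mem_comap, hc]; exact (eQ.symm s).2⟩, ?_⟩
    show eQ ((QuotientGroup.mk' F).subgroupComap E _) = s
    rw [← eQ.eq_symm_apply]
    exact Subtype.ext hc
  have hcardP : Nat.card P = 29160 := by
    have h := ψP.ker.card_mul_index
    rw [index_ker, MonoidHom.range_eq_top.2 hψsurj, card_top, Nat.card_eq_fintype_card (α := SL5), sl5_card] at h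
    rw [← h, show ψP.ker = F.subgroupOf P from Subgroup.ext fun c => MonoidHom.mem_ker.trans (hψker c),
      Nat.card_congr (subgroupOfEquivOfLe hFP).toEquiv, hQcard]
    norm_num
  -- the Sylow subgroup of the centralizer
  have hS729 : Nat.card (S : Subgroup C) = 729 := by
    obtain ⟨j, hj⟩ := IsPGroup.iff_card.1 S.isPGroup'
    have hSP : (S : Subgroup C) ≤ P := fun s hs => by
      obtain ⟨k, hk⟩ := S.isPGroup' ⟨s, hs⟩
      exact h3P s k (congrArg Subtype.val hk)
    have hd := card_dvd_of_le hSP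
    rw [hcardP, hj] at hd
    have hj6 : j ≤ 6 := by
      by_contra hlt
      exact absurd ((pow_dvd_pow 3 (show 7 ≤ j by omega)).trans hd) (by norm_num)
    obtain ⟨R, hR⟩ := Sylow.exists_subgroup_card_pow_prime 3 (G := P) (n := 6) (by rw [hcardP]; norm_num)
    obtain ⟨T, hT⟩ := ((IsPGroup.of_card hR).map P.subtype).exists_le_sylow
    have h6 : 3 ^ 6 ≤ 3 ^ j := by
      rw [← hj, ← hR, Sylow.card_eq_multiplicity S, ← Sylow.card_eq_multiplicity T,
        Nat.card_congr (equivMapOfInjective R _ P.subtype_injective).toEquiv]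
      exact card_le_of_le hT
    rw [hj, show j = 6 from le_antisymm hj6 ((Nat.pow_le_pow_iff_right (by norm_num)).1 h6)]
    norm_num
  set S' : Subgroup G := (S : Subgroup C).map C.subtype with hS'
  have hS'729 : Nat.card S' = 729 :=
    (Nat.card_congr (equivMapOfInjective _ _ C.subtype_injective).toEquiv).symm.trans hS729
  have hFS : F ≤ (S : Subgroup C) := by
    have hn : (S : Subgroup C) ≤ normalizer (F : Set C) := fun s _ =>
      mem_normalizer_fintype fun q hq => hQn.conj_mem q hq s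
    have h := S.is_maximal' (S.isPGroup'.to_sup_of_normal_right'
      (IsPGroup.of_card (n := 5) hQcard) hn) le_sup_left
    exact h ▸ le_sup_right
  have hQS : Q ≤ S' := map_mono hFS
  have hS'c : ∀ s ∈ S', s * z = z * s := fun s hs => hCeq.1 (map_subtype_le _ hs)
  have hcentQ : ∀ g : G, (∀ q ∈ Q, g * q = q * g) → g ∈ Q := fun g hg => by
    have hgC : g ∈ C := hCeq.2 (hg z hzQ)
    exact ⟨⟨g, hgC⟩, Grp.centralizer_gfitting_le (G := C) (mem_centralizer_iff.2 fun q hq =>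
      Subtype.ext (hg q ⟨q, hq, rfl⟩).symm), rfl⟩
  have hSmax : ∀ R : Subgroup G, IsPGroup 3 R → Nat.card R ≤ 729 := by
    intro R hR
    obtain ⟨T, hT⟩ := hR.exists_le_sylow
    obtain ⟨T', hT'⟩ := (IsPGroup.of_card (n := 6) (by rw [hS'729]; norm_num) : IsPGroup 3 S').exists_le_sylow
    refine (card_le_of_le hT).trans ?_
    rw [Sylow.card_eq_multiplicity T, ← Sylow.card_eq_multiplicity T']
    haveI : Nontrivial (T' : Subgroup G) := by
      rw [← Finite.one_lt_card_iff_nontrivial]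
      have := card_le_of_le hT'
      omega
    obtain ⟨⟨⟨a, haT⟩, hac⟩, ha1⟩ := @exists_ne (center (T' : Subgroup G)) T'.isPGroup'.center_nontrivial 1
    have hcomm : ∀ b ∈ (T' : Subgroup G), a * b = b * a := fun b hb =>
      (congrArg Subtype.val (mem_center_iff.1 hac ⟨b, hb⟩)).symm
    have haQ : a ∈ Q := hcentQ a fun q hq => hcomm q (hT' (hQS hq))
    obtain ⟨i, hi⟩ := hcen a haQ fun b hb => hcomm b (hT' (hQS hb))
    have hle : (T' : Subgroup G) ≤ C := fun b hb => by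
      refine hCeq.2 ?_
      have ha : orderOf a = 3 := orderOf_eq_prime
        (by rw [← hi]; show (z ^ i) ^ 3 = 1
            rw [← zpow_natCast, ← zpow_mul, mul_comm, zpow_mul, zpow_natCast, ← hz, pow_orderOf_eq_one, one_zpow])
        (fun h => ha1 (Subtype.ext (Subtype.ext h)))
      have hle : zpowers a ≤ zpowers z := zpowers_le.2 (show a ∈ zpowers z from ⟨i, hi⟩)
      have hza : z ∈ zpowers a := by
        rw [eq_of_le_of_card_ge hle (by rw [Nat.card_zpowers, Nat.card_zpowers, ha, hz])]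
        exact mem_zpowers _
      obtain ⟨j, hj⟩ := hza
      rw [← show a ^ j = z from hj]
      exact ((show Commute b a from (hcomm b hb).symm).zpow_right j).eq
    have hp : IsPGroup 3 ((T' : Subgroup G).subgroupOf C) :=
      T'.isPGroup'.comap_of_injective C.subtype C.subtype_injective
    have hle' : (S : Subgroup C) ≤ (T' : Subgroup G).subgroupOf C := fun s hs => mem_subgroupOf.2 (hT' ⟨s, hs, rfl⟩)
    rw [← Nat.card_congr (subgroupOfEquivOfLe hle).toEquiv, S.is_maximal' hp hle', hS729]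
  -- generation
  set L : Subgroup G := Subgroup.closure {g : G | g * z = z * g ∧ ∃ k : ℕ, g ^ 3 ^ k = 1} with hL
  have hLP : L ≤ P.map C.subtype := (closure_le _).2 fun g ⟨hg, k, hk⟩ =>
    ⟨⟨g, hCeq.2 hg⟩, h3P _ k (Subtype.ext (by simpa using hk)), rfl⟩
  have hQL : Q ≤ L := by
    rintro _ ⟨a, ha, rfl⟩
    exact subset_closure ⟨hCeq.1 a.2, 1, by rw [pow_one, ← map_pow, hexp a ha, map_one]⟩
  set K : Subgroup SL5 := (((L.subgroupOf C).subgroupOf P)).map ψP with hK
  have hthree : ∀ s : SL5, s * s * s = 1 → s ∈ K := fun s hs => by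
    obtain ⟨c, rfl⟩ := hψsurj s
    obtain ⟨c', hc', n, hn⟩ := three_lift ψP (g := c) (k := 1) (by rw [pow_one, pow_succ, sq]; exact hs)
    exact ⟨c', subset_closure ⟨hCeq.1 (c' : C).2, n, by simpa using congrArg (fun a : P => ((a : C) : G)) hn⟩, hc'⟩
  have hKtop : K = ⊤ := by
    obtain ⟨⟨x, hx, y, hy, v, hv, hT⟩, x', hx', y', hy', ha⟩ := sl5_three_gen
    exact Char.SL25Facts.eq_top (hT ▸ mul_mem (mul_mem (hthree x hx) (hthree y hy)) (hthree v hv))
      (ha ▸ mul_mem (hthree x' hx') (hthree y' hy'))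
  have hLC : ∀ g ∈ L, g ∈ C := fun g hg => map_subtype_le _ (hLP hg)
  let iP : L →* P := (inclusion (show L.subgroupOf C ≤ P from fun c hc => by
      obtain ⟨c', hc', e⟩ := hLP (mem_subgroupOf.1 hc)
      exact C.subtype_injective e ▸ hc')).comp (subgroupOfEquivOfLe (show L ≤ C from hLC)).symm.toMonoidHom
  have hiP : ∀ g : L, (((iP g : P) : C) : G) = (g : G) := fun g => rfl
  -- the quotient of the normalizer of J
  set N := Subgroup.normalizer (J : Set G) with hN
  set JN := J.subgroupOf N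
  set X := Subgroup.closure {x : ↥N ⧸ JN | ∃ k : ℕ, orderOf x = 3 ^ k} with hX
  set M : Subgroup G := Subgroup.closure {g : G | g ∈ N ∧ ∃ k : ℕ, g ^ 3 ^ k = 1} with hM
  have hMN : M ≤ N := (closure_le _).2 fun g hg => hg.1
  have hMmap : (M.subgroupOf N).map (QuotientGroup.mk' JN) = X := by
    rw [hM, subgroupOf_closure_eq N (fun g hg => hg.1), MonoidHom.map_closure, hX]
    congr 1
    ext x
    constructor
    · rintro ⟨g, ⟨-, k, hk⟩, rfl⟩
      exact orderOf_three_iff.2 ⟨k, by rw [← map_pow, show g ^ 3 ^ k = 1 from Subtype.ext (by simpa using hk), map_one]⟩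
    · intro hx
      obtain ⟨k, hk⟩ := orderOf_three_iff.1 hx
      obtain ⟨g, rfl⟩ := QuotientGroup.mk'_surjective JN x
      obtain ⟨g', hg', n, hn⟩ := three_lift (QuotientGroup.mk' JN) (g := g) hk
      exact ⟨g', ⟨g'.2, n, by simpa using congrArg Subtype.val hn⟩, hg'⟩
  let φ : M →* alternatingGroup (Fin 6) := eM.toMonoidHom.comp (((QuotientGroup.mk' JN).comp (inclusion hMN)).codRestrict X
    fun g => hMmap ▸ ⟨inclusion hMN g, mem_subgroupOf.2 g.2, rfl⟩)
  have hJc : ∀ a ∈ J, ∀ b ∈ J, a * b = b * a := fun a ha b hb =>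
    congrArg Subtype.val (hJ.1.is_comm.comm (⟨a, ha⟩ : J) ⟨b, hb⟩)
  refine ⟨{
    z := z
    Q := Q
    J := J
    S := S'
    L := L
    M := M
    ψ := ψP.comp iP
    φ := φ
    z_order := hz
    z_Q := hzQ
    Q_card := hQ243
    Q_cube := ?_
    z_cen := hzq
    Q_comm := hcm
    Q_cen := hcen
    cent_Q := hcentQ
    norm_Q := ?_
    L_def := hL
    ψ_surj := ?_
    ψ_ker := ?_
    S_card := hS'729
    S_cz := hS'c
    S_max := hSmax
    J_le_S := hJS
    J_card := by rw [hJcard]; norm_num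
    J_cube := hJ.2
    J_comm := hJc
    M_def := hM
    φ_surj := ?_
    φ_ker := ?_ }⟩
  · rintro _ ⟨a, ha, rfl⟩
    rw [← map_pow, hexp a ha, map_one]
  · rintro g hg _ ⟨a, ha, rfl⟩
    exact ⟨⟨g, hCeq.2 hg⟩ * a * ⟨g, hCeq.2 hg⟩⁻¹, hQn.conj_mem a ha _, rfl⟩
  · intro s
    obtain ⟨c, hc, hcs⟩ := (hKtop.symm ▸ mem_top s : s ∈ K)
    refine ⟨⟨((c : C) : G), mem_subgroupOf.1 (mem_subgroupOf.1 hc)⟩, ?_⟩
    rw [← hcs]
    exact congrArg ψP (Subtype.ext (Subtype.ext rfl))
  · intro g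
    rw [MonoidHom.comp_apply, hψker]
    exact ⟨fun h => ⟨_, h, hiP g⟩, fun ⟨a, ha, e⟩ => (Subtype.ext (e.trans (hiP g).symm) : a = ((iP g : P) : C)) ▸ ha⟩
  · intro s
    obtain ⟨⟨x, hx⟩, rfl⟩ := eM.surjective s
    obtain ⟨g, hg, hgx⟩ := (hMmap.symm ▸ hx : x ∈ (M.subgroupOf N).map (QuotientGroup.mk' JN))
    exact ⟨⟨g, mem_subgroupOf.1 hg⟩, congrArg eM (Subtype.ext hgx)⟩
  · intro g
    rw [MonoidHom.comp_apply, MulEquiv.coe_toMonoidHom, MulEquiv.map_eq_one_iff, Subtype.ext_iff]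
    exact (QuotientGroup.eq_one_iff _).trans mem_subgroupOf

end Cfsg.Agent.Spor.McLThree
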