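import Cfsg.Agent.Lib.Spor.McLThree.NFar
import Cfsg.Agent.Lib.Spor.McLRec.Main

/-!
The subgroup generated by the unitary group and the element of order four is the McLaughlin group.
-/

set_option autoImplicit false
set_option maxRecDepth 100000
set_option synthInstance.maxSize 4096
set_option linter.unusedSectionVars false

namespace Cfsg.Agent.Spor.McLThree

open Subgroup Cfsg.Agent.Spor.UFourType

universe u

variable {G : Type u} [Group G] [Finite G] {H : Hyp G}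

namespace Wl

variable {C : Sec H} {T : Tt C} {S : Swap T} {O : Co S} (W : Wl O)

/-- The group generated by the unitary group and the element of order four. -/
def G0 : Subgroup G := Subgroup.closure ((W.U : Set G) ∪ {O.n})

theorem U_le_G0 : W.U ≤ W.G0 := fun _ hm => Subgroup.subset_closure (Or.inl hm)

theorem n_G0 : O.n ∈ W.G0 := Subgroup.subset_closure (Or.inr rfl)

theorem r_G0 : W.r ∈ W.G0 := mul_mem (mul_mem W.n_G0 (W.U_le_G0 W.p_U)) W.n_G0

include W in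
/-- The near orbit. -/
theorem near_orbit : (MulAction.orbit ↥W.U (cs W.U O.n)).ncard = 112 ∧
    ∀ y ∈ MulAction.orbit ↥W.U (cs W.U O.n), y = cs W.U O.n ∨ (∃ m ∈ H.M, y = (m * W.w) • cs W.U O.n) ∨
      ∃ v < 81, y = (C.ev v * W.p) • cs W.U O.n := by
  obtain ⟨kk, R⟩ := W.exists_reps
  have hstab : MulAction.stabilizer ↥W.U (cs W.U O.n) = H.M.subgroupOf W.U := by
    ext g
    rw [MulAction.mem_stabilizer_iff, mem_subgroupOf, ← W.conj_U g.2]
    exact W.fix_U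
  constructor
  · have h := MulAction.index_stabilizer ↥W.U (cs W.U O.n)
    rw [hstab] at h
    have hc := Subgroup.card_mul_index (H.M.subgroupOf W.U)
    rw [h, Nat.card_congr (Subgroup.subgroupOfEquivOfLe W.M_le_U).toEquiv, W.card_U', H.card_M] at hc
    omega
  · rintro _ ⟨⟨g, hg⟩, rfl⟩
    show g • cs W.U O.n = _ ∨ _
    have hMn : ∀ {a : G}, a⁻¹ * g ∈ H.M → g • cs W.U O.n = a • cs W.U O.n := fun {a} h => by
      conv_lhs => rw [show g = a * (a⁻¹ * g) by group, mul_smul, W.fix_U.2 (W.M_le_U (O.n_M h).2)]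
    obtain ⟨n', hn'⟩ := R.U_range hg 0
    rw [R.pt_base] at hn'
    rcases R.pt_cases n' with ⟨-, en⟩ | ⟨i, hi, c, -, -, en⟩ | ⟨v, hv, -, en⟩ <;> rw [en] at hn'
    · left
      rw [hMn (a := 1) (by rw [inv_one, one_mul]; exact W.fix_base.1 hn'), one_smul]
    · refine Or.inr (Or.inl ⟨_, R.PN_M hi c, hMn ?_⟩)
      rw [R.PN_def, cs_smul, cs_smul, mul_one, cs_eq] at hn'
      have := inv_mem hn'
      rwa [mul_inv_rev, inv_inv] at this
    · refine Or.inr (Or.inr ⟨v, hv, hMn ?_⟩)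
      rw [PD, cs_smul, cs_smul, mul_one, cs_eq] at hn'
      have := inv_mem hn'
      rwa [mul_inv_rev, inv_inv] at this

/-- The 275 points. -/
def Om : Set (G ⧸ W.U) :=
  {cs W.U 1} ∪ MulAction.orbit ↥W.U (cs W.U O.n) ∪ MulAction.orbit ↥W.U (cs W.U W.r)

theorem card_Om : W.Om.ncard = 275 := by
  have h1 := W.near_orbit.1
  have h2 := W.far_orbit.2
  have hfix : ∀ y ∈ MulAction.orbit ↥W.U (cs W.U (1 : G)), y = cs W.U 1 := by
    rintro _ ⟨g, rfl⟩
    exact W.fix_U.2 (by simp)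
  have hd : ∀ {a b : G ⧸ W.U}, (MulAction.orbit ↥W.U a).ncard ≠ (MulAction.orbit ↥W.U b).ncard →
      Disjoint (MulAction.orbit ↥W.U a) (MulAction.orbit ↥W.U b) := fun {a b} h => by
    rw [Set.disjoint_left]
    intro y hy hy'
    exact h (by rw [← MulAction.orbit_eq_iff.2 hy, ← MulAction.orbit_eq_iff.2 hy'])
  have hone : MulAction.orbit ↥W.U (cs W.U (1 : G)) = {cs W.U 1} :=
    Set.Subset.antisymm (fun y hy => hfix y hy) (Set.singleton_subset_iff.2 (MulAction.mem_orbit_self _))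
  have h0 : (MulAction.orbit ↥W.U (cs W.U (1 : G))).ncard = 1 := by rw [hone, Set.ncard_singleton]
  rw [Om, ← hone, Set.ncard_union_eq (Set.disjoint_union_left.2 ⟨hd (by omega), hd (by omega)⟩),
    Set.ncard_union_eq (hd (by omega)), h0, h1, h2]

theorem U_Om {g : G} (hg : g ∈ W.U) {y : G ⧸ W.U} (hy : y ∈ W.Om) : g • y ∈ W.Om := by
  rcases hy with (rfl | ⟨a, rfl⟩) | ⟨a, rfl⟩
  · exact Or.inl (Or.inl (W.fix_U.2 (by simpa using hg)))
  · exact Or.inl (Or.inr ⟨⟨g, hg⟩ * a, mul_smul (⟨g, hg⟩ : W.U) a _⟩)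
  · exact Or.inr ⟨⟨g, hg⟩ * a, mul_smul (⟨g, hg⟩ : W.U) a _⟩

theorem n_Om {y : G ⧸ W.U} (hy : y ∈ W.Om) : O.n • y ∈ W.Om := by
  have hnear : ∀ g : G, g ∈ W.U → g • cs W.U O.n ∈ W.Om := fun g hg => Or.inl (Or.inr ⟨⟨g, hg⟩, rfl⟩)
  have hfar : ∀ g : G, g ∈ W.U → g • cs W.U W.r ∈ W.Om := fun g hg => Or.inr ⟨⟨g, hg⟩, rfl⟩
  have hbase : O.n • cs W.U O.n = cs W.U 1 := by
    rw [cs_smul, O.n_sq, cs_eq, mul_one]
    exact inv_mem W.t_U
  rcases hy with (rfl | hy) | hy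
  · rw [cs_smul, mul_one]
    exact Or.inl (Or.inr (MulAction.mem_orbit_self _))
  · rcases W.near_orbit.2 y hy with rfl | ⟨m, hm, rfl⟩ | ⟨v, -, rfl⟩
    · rw [hbase]; exact Or.inl (Or.inl rfl)
    · have e : (O.n * W.w) • cs W.U O.n = W.w • cs W.U O.n := by
        rw [cs_smul, cs_smul]
        refine (cs_eq.2 (W.pos (T.K.mul_mem (T.K.inv_mem (T.K.mul_mem W.w_K O.n_K))
          (T.K.mul_mem (T.K.mul_mem O.n_K W.w_K) O.n_K)) (ws := [3, 4]) ?_)).symm
        rw [show (⟨(W.w * O.n)⁻¹ * (O.n * W.w * O.n), _⟩ : T.K) = (⟨W.w, W.w_K⟩ * ⟨O.n, O.n_K⟩)⁻¹ *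
          (⟨O.n, O.n_K⟩ * ⟨W.w, W.w_K⟩ * ⟨O.n, O.n_K⟩) from rfl, map_mul, map_inv, map_mul, map_mul, map_mul, W.pw,
          O.pn]
        exact P8.pos_facts.2.2.2.2.2
      rw [← mul_smul, show O.n * (m * W.w) = (O.n * m * O.n⁻¹) * (O.n * W.w) by group, mul_smul, e, ← mul_smul]
      exact hnear _ (mul_mem (W.M_le_U (O.n_M hm).1) W.w_U)
    · rw [← mul_smul, show O.n * (C.ev v * W.p) = (O.n * C.ev v * O.n⁻¹) * (O.n * W.p) by group, mul_smul,
        cs_smul _ (O.n * W.p)]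
      exact hfar _ (W.M_le_U (O.n_M (H.J_le_M (C.ev_J v))).1)
  · rw [W.far_orbit.1] at hy
    obtain ⟨v, -, h | h⟩ := hy
    · rw [h, ← mul_smul, show O.n * C.ev v = (O.n * C.ev v * O.n⁻¹) * O.n by group, mul_smul,
        show O.n • cs W.U W.r = (T.t * W.p) • cs W.U O.n by
          rw [cs_smul, cs_smul, ← O.n_sq]; unfold r; congr 1; group, ← mul_smul]
      exact hnear _ (mul_mem (W.M_le_U (O.n_M (H.J_le_M (C.ev_J v))).1) (mul_mem W.t_U W.p_U))
    · rw [h, ← mul_smul, show O.n * C.ev v = (O.n * C.ev v * O.n⁻¹) * O.n by group, mul_smul, W.n_fix,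
        show cs W.U W.rq = (C.f * W.w * C.f) • cs W.U W.r from rfl, ← mul_smul]
      exact hfar _ (mul_mem (W.M_le_U (O.n_M (H.J_le_M (C.ev_J v))).1) W.u2_U)

theorem G0_Om {g : G} (hg : g ∈ W.G0) {y : G ⧸ W.U} (hy : y ∈ W.Om) : g • y ∈ W.Om := by
  induction hg using Subgroup.closure_induction generalizing y with
  | mem x hx =>
    rcases hx with hx | rfl
    exacts [W.U_Om hx hy, W.n_Om hy]
  | one => rwa [one_smul]
  | mul a b _ _ iha ihb => rw [mul_smul]; exact iha (ihb hy)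
  | inv x _ ih =>
    let F : W.Om → W.Om := fun y => ⟨x • y.1, ih y.2⟩
    obtain ⟨z, hz⟩ := (Finite.injective_iff_bijective.1 (fun a b h => Subtype.ext (MulAction.injective x
      (congrArg Subtype.val h :))) : Function.Bijective F).2 ⟨y, hy⟩
    have : x • z.1 = y := congrArg Subtype.val hz
    rw [← this, inv_smul_smul]
    exact z.2

include W in
/-- The group is the McLaughlin group. -/
theorem G0_iso : Cfsg.Spor.IsoMcL ↥W.G0 := by
  classical
  haveI : Fintype W.Om := Fintype.ofFinite _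
  have hcard : Fintype.card W.Om = 275 := by rw [← Nat.card_eq_fintype_card, Nat.card_coe_set_eq, W.card_Om]
  let f : W.G0 →* Equiv.Perm W.Om := MonoidHom.toHomPerm
    { toFun := fun g y => ⟨(g : G) • y.1, W.G0_Om g.2 y.2⟩
      map_one' := funext fun y => Subtype.ext (one_smul G y.1)
      map_mul' := fun a b => funext fun y => Subtype.ext (mul_smul (a : G) b y.1) }
  have hf : ∀ g y, ((f g y : W.Om) : G ⧸ W.U) = (g : G) • y.1 := fun _ _ => rfl
  set a : W.Om := ⟨cs W.U 1, Or.inl (Or.inl rfl)⟩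
  have hfa : ∀ g : W.G0, f g a = a ↔ (g : G) ∈ W.U := fun g => by
    rw [Subtype.ext_iff, hf]
    show (g : G) • cs W.U 1 = cs W.U 1 ↔ _
    rw [W.fix_U, inv_one, one_mul, mul_one]
  have hinj : Function.Injective f := by
    refine (injective_iff_map_eq_one f).2 fun g hg => ?_
    have hfix : ∀ y ∈ W.Om, (g : G) • y = y := fun y hy => by
      conv_rhs => rw [show y = ((1 : Equiv.Perm W.Om) ⟨y, hy⟩ : W.Om).1 from rfl, ← hg, hf]
    have hgU : (g : G) ∈ W.U := (hfa g).1 (by rw [hg]; rfl)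
    obtain ⟨kk, R⟩ := W.exists_reps
    obtain ⟨F, hF, -⟩ := R.exists_perm
    refine Subtype.ext (W.K_E ?_ ?_)
    · refine H.J_self_cent fun j hj => ?_
      have hM : ∀ u, u ∈ W.U → u⁻¹ * (g : G) * u ∈ H.M := fun u hu => by
        have h := hfix (u • cs W.U O.n) (Or.inl (Or.inr ⟨⟨u, hu⟩, rfl⟩))
        rw [← inv_smul_eq_iff, ← mul_smul, ← mul_smul] at h
        exact (W.conj_U (mul_mem (mul_mem (inv_mem hu) hgU) hu)).1 (W.fix_U.1 h)
      have hgM : (g : G) ∈ H.M := by simpa using hM 1 (one_mem _)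
      have hJ : (g : G) * j * (g : G)⁻¹ * j⁻¹ ∈ H.J :=
        mul_mem (((mem_normalizer_iff.1 (H.M_norm hgM)) j).1 hj) (inv_mem hj)
      refine mul_inv_eq_iff_eq_mul.1 (mul_inv_eq_one.1 (W.K_E hJ ?_))
      have hgK : ∀ {u}, u ∈ W.U → W.p⁻¹ * (u⁻¹ * (g : G) * u) * W.p ∈ H.M := fun {u} hu => by
        have := hM (u * W.p) (mul_mem hu W.p_U)
        rwa [show (u * W.p)⁻¹ * (g : G) * (u * W.p) = W.p⁻¹ * (u⁻¹ * (g : G) * u) * W.p by group] at this
      have k1 : (g : G) ∈ W.Kst := W.mem_Kst.2 ⟨hgM, by simpa using hgK (one_mem _)⟩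
      have k2 : j⁻¹⁻¹ * (g : G) * j⁻¹ ∈ W.Kst :=
        W.mem_Kst.2 ⟨hM _ (W.M_le_U (H.J_le_M (inv_mem hj))), hgK (W.M_le_U (H.J_le_M (inv_mem hj)))⟩
      have := mul_mem k1 (inv_mem k2)
      rwa [show (g : G) * (j⁻¹⁻¹ * (g : G) * j⁻¹)⁻¹ = (g : G) * j * (g : G)⁻¹ * j⁻¹ by group] at this
    · have hM : ∀ u, u ∈ W.U → u⁻¹ * (g : G) * u ∈ H.M := fun u hu => by
        have h := hfix (u • cs W.U O.n) (Or.inl (Or.inr ⟨⟨u, hu⟩, rfl⟩))
        rw [← inv_smul_eq_iff, ← mul_smul, ← mul_smul] at h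
        exact (W.conj_U (mul_mem (mul_mem (inv_mem hu) hgU) hu)).1 (W.fix_U.1 h)
      exact W.mem_Kst.2 ⟨by simpa using hM 1 (one_mem _), hM _ W.p_U⟩
  set P : Subgroup (Equiv.Perm W.Om) := f.range
  let e : W.G0 ≃* P := MonoidHom.ofInjective hinj
  have hcoe : ∀ (g : P) (y : W.Om), g • y = (g : Equiv.Perm W.Om) y := fun _ _ => rfl
  have hpre : MulAction.IsPretransitive P W.Om := by
    suffices h : ∀ y, ∃ q : P, q • a = y from ⟨fun y y' => by
      obtain ⟨q, rfl⟩ := h y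
      obtain ⟨q', rfl⟩ := h y'
      exact ⟨q' * q⁻¹, by rw [mul_smul, inv_smul_smul]⟩⟩
    intro y
    have key : ∀ g : G, g ∈ W.G0 → g • cs W.U 1 = y.1 → ∃ q : P, q • a = y := fun g hg h =>
      ⟨e ⟨g, hg⟩, Subtype.ext h⟩
    rcases y.2 with (h | ⟨u, hu⟩) | ⟨u, hu⟩
    · exact key 1 (one_mem _) ((one_smul G _).trans h.symm)
    · exact key (u * O.n) (mul_mem (W.U_le_G0 u.2) W.n_G0) (by rw [mul_smul, cs_smul _ O.n, mul_one]; exact hu)
    · exact key (u * W.r) (mul_mem (W.U_le_G0 u.2) W.r_G0) (by rw [mul_smul, cs_smul _ W.r, mul_one]; exact hu)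
  let toU : W.U →* P := e.toMonoidHom.comp (inclusion W.U_le_G0)
  let st : W.U →* MulAction.stabilizer P a := toU.codRestrict _ fun u => Subtype.ext (show
    (u : G) • cs W.U 1 = cs W.U 1 from W.fix_U.2 (by simp))
  have hst : Function.Bijective st := by
    constructor
    · intro u u' h
      exact inclusion_injective W.U_le_G0 (e.injective (congrArg Subtype.val h :))
    · rintro ⟨q, hq⟩
      obtain ⟨g, rfl⟩ := e.surjective q
      exact ⟨⟨g, (hfa g).1 hq⟩, rfl⟩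
  obtain ⟨eU⟩ := W.U_iso
  let ψ : UFourThree.G43 ≃* MulAction.stabilizer P a := eU.trans (MulEquiv.ofBijective st hst)
  have horb : ∀ (b : W.Om), Subtype.val '' MulAction.orbit (MulAction.stabilizer P a) b =
      MulAction.orbit ↥W.U b.1 := fun b => by
    ext y
    constructor
    · rintro ⟨_, ⟨q, rfl⟩, rfl⟩
      obtain ⟨u, rfl⟩ := hst.2 q
      exact ⟨u, rfl⟩
    · rintro ⟨u, rfl⟩
      exact ⟨st u • b, ⟨st u, rfl⟩, rfl⟩
  let b : W.Om := ⟨cs W.U O.n, Or.inl (Or.inr (MulAction.mem_orbit_self _))⟩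
  let c : W.Om := ⟨cs W.U W.r, Or.inr (MulAction.mem_orbit_self _)⟩
  obtain ⟨i⟩ := McLRec.main hcard P a ψ b c
    (by rw [← Set.ncard_image_of_injective _ Subtype.val_injective, horb]; exact W.near_orbit.1)
    (by rw [← Set.ncard_image_of_injective _ Subtype.val_injective, horb]; exact W.far_orbit.2)
  exact ⟨e.trans i⟩

end Wl

end Cfsg.Agent.Spor.McLThree
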