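import Cfsg.Agent.Lib.Spor.McLThree.NRank
import Cfsg.Agent.Lib.Spor.McLThree.NAlt
import Cfsg.Agent.Lib.Spor.Cos.McLOut.Cent
import Cfsg.Agent.Lib.Spor.Cos.McLOut.Rep
import Cfsg.Agent.Lib.Invol.SPEmbedded
import Cfsg.Agent.S0223
import Cfsg.Agent.S2903

/-!
Without the extension the group is the McLaughlin group: otherwise the subgroup found would be strongly embedded.
-/

set_option autoImplicit false
set_option maxRecDepth 100000
set_option synthInstance.maxSize 4096
set_option linter.unusedSectionVars false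

namespace Cfsg.Agent.Spor.McLThree

open Subgroup Cfsg.Agent.Spor.UFourType

universe u

variable {G : Type u} [Group G] [Finite G] {H : Hyp G}

namespace Wl

variable {C : Sec H} {T : Tt C} {S : Swap T} {O : Co S} (W : Wl O)

theorem G0_even {g : G} (hg : g ∈ T.K) (hs : Equiv.Perm.sign (O.π ⟨g, hg⟩) = 1) : g ∈ W.G0 := by
  set R := (W.G0.subgroupOf T.K).map O.π with hR
  have hU : W.RU ≤ R := map_mono fun a ha => mem_subgroupOf.2 (W.U_le_G0 (mem_subgroupOf.1 ha))
  have hn : P8.nP ∈ R := ⟨⟨O.n, O.n_K⟩, mem_subgroupOf.2 W.n_G0, O.pn⟩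
  have hgen : ∀ i, P8.genP P8.nP i ∈ R := by
    intro i
    rcases Nat.lt_or_ge i 5 with hi | hi
    · have h := hU (W.evW_RU (one_mem _) [i])
      simp only [P8.evW, List.map_cons, List.map_nil, List.prod_cons, List.prod_nil, mul_one] at h
      rwa [show P8.genP P8.nP i = P8.genP 1 i by interval_cases i <;> rfl]
    · rcases (show i = 5 ∨ 6 ≤ i by omega) with rfl | h6
      · exact hn
      · unfold P8.genP
        rw [List.getD_eq_default _ _ (by simpa using h6)]
        exact one_mem _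
  obtain ⟨a, ha, hag⟩ := P8.alt_le hgen hs
  rcases O.fibre hag with h | h <;> rw [show g = _ from h]
  exacts [mem_subgroupOf.1 ha, mul_mem (mem_subgroupOf.1 ha) (W.U_le_G0 W.t_U)]

theorem G0_conj {s : G} (hs : s ∈ W.G0) (ho : orderOf s = 2) : ∃ g ∈ W.G0, g * T.t * g⁻¹ = s := by
  obtain ⟨e⟩ := W.G0_iso
  let e' := e.trans Cos.McLOut.equivMcL
  have h1 := Cos.McLOut.conj_z (x := e' ⟨T.t, W.U_le_G0 W.t_U⟩)
    (by rw [e'.orderOf_eq, ← Subgroup.orderOf_coe]; exact T.t_order)
  have h2 := Cos.McLOut.conj_z (x := e' ⟨s, hs⟩) (by rw [e'.orderOf_eq, ← Subgroup.orderOf_coe]; exact ho)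
  obtain ⟨c, hc⟩ := isConj_iff.1 (h1.symm.trans h2)
  obtain ⟨g, rfl⟩ := e'.surjective c
  exact ⟨g, g.2, congrArg Subtype.val (e'.injective (by rw [map_mul, map_mul, map_inv]; exact hc) :
    g * (⟨T.t, W.U_le_G0 W.t_U⟩ : W.G0) * g⁻¹ = ⟨s, hs⟩)⟩

include W in
/-- Without the extension the subgroup is everything. -/
theorem G0_top (hA : ¬ C.Ext) : W.G0 = ⊤ := by
  classical
  by_contra hne
  haveI : Fact (Nat.Prime 2) := ⟨Nat.prime_two⟩
  have hK : T.K ≤ W.G0 := fun g hg => W.G0_even hg (O.caseA hA _)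
  have htG : T.t ∈ W.G0 := W.U_le_G0 W.t_U
  have hev : Even (Nat.card W.G0) := even_iff_two_dvd.2 (by
    have h := orderOf_dvd_natCard (⟨T.t, htG⟩ : W.G0)
    rwa [← Subgroup.orderOf_coe, T.t_order] at h)
  have hSE : Cfsg.IsStronglyEmbedded W.G0 := by
    refine (Cfsg.Agent.S0223.result W.G0 hne hev).2 ⟨fun s hs os g hg => ?_, fun s hs s' hs' os os' _ => ?_⟩
    · obtain ⟨x, hx, ex⟩ := W.G0_conj hs os
      have hc : x⁻¹ * g * x ∈ W.G0 := hK (T.mem_K.2 (by
        have h := (Commute.conj_iff x⁻¹).2 (show Commute g s from mem_centralizer_singleton_iff.1 hg)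
        rw [inv_inv, show x⁻¹ * s * x = T.t by rw [← ex]; group] at h
        exact h.eq))
      have := mul_mem (mul_mem hx hc) (inv_mem hx)
      rwa [show x * (x⁻¹ * g * x) * x⁻¹ = g by group] at this
    · obtain ⟨x, hx, ex⟩ := W.G0_conj hs os
      obtain ⟨y, hy, ey⟩ := W.G0_conj hs' os'
      exact ⟨y * x⁻¹, mul_mem hy (inv_mem hx), by rw [← ey, ← ex]; group⟩
  have hsp : Cfsg.IsStronglyPEmbedded 2 W.G0 := Cfsg.Agent.Invol.isStronglyPEmbedded_iff.2
    ⟨even_iff_two_dvd.1 hev, hSE.1, fun g hg h => Nat.not_even_iff_odd.2 (hSE.2.2 g hg) (even_iff_two_dvd.2 h)⟩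
  have hrank : Cfsg.PRankAtLeast 2 2 G := by
    have htx : Commute T.t S.x := Co.t_cen S.x_K
    have hxt : S.x ≠ T.t := fun h => by
      have := O.px_A
      rw [show (⟨S.x, S.x_K⟩ : T.K) = ⟨T.t, T.t_K⟩ from Subtype.ext h, O.π_t] at this
      exact absurd this (by decide +kernel)
    have hx1 : S.x ≠ 1 := fun h => by
      have := O.px_A
      rw [show (⟨S.x, S.x_K⟩ : T.K) = 1 from Subtype.ext h, map_one] at this
      exact absurd this (by decide +kernel)
    have ht2 := T.t_sq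
    have hx2 := S.x_sq
    have a1 : ∀ a, T.t * (T.t * a) = a := fun a => by rw [← mul_assoc, ht2, one_mul]
    have a2 : S.x * T.t = T.t * S.x := htx.eq.symm
    have a3 : ∀ a, S.x * (T.t * a) = T.t * (S.x * a) := fun a => by rw [← mul_assoc, a2, mul_assoc]
    let V : Subgroup G :=
      { carrier := {g | g = 1 ∨ g = T.t ∨ g = S.x ∨ g = T.t * S.x}
        one_mem' := Or.inl rfl
        mul_mem' := by
          rintro a b (rfl | rfl | rfl | rfl) (rfl | rfl | rfl | rfl) <;>
            simp [mul_assoc, a1, a2, a3, ht2, hx2]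
        inv_mem' := by
          rintro a (rfl | rfl | rfl | rfl) <;>
            simp [inv_eq_of_mul_eq_one_right ht2, inv_eq_of_mul_eq_one_right hx2, a2] }
    refine ⟨V, ⟨⟨?_⟩⟩, ?_, ?_⟩
    · rintro ⟨a, ha⟩ ⟨b, hb⟩
      refine Subtype.ext ?_
      show a * b = b * a
      rcases ha with rfl | rfl | rfl | rfl <;> rcases hb with rfl | rfl | rfl | rfl <;>
        simp [mul_assoc, a1, a2, a3, ht2, hx2]
    · rintro a (rfl | rfl | rfl | rfl) <;> simp [sq, mul_assoc, a1, a2, a3, ht2, hx2]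
    · let f : Fin 4 → V := ![⟨1, Or.inl rfl⟩, ⟨T.t, Or.inr (Or.inl rfl)⟩, ⟨S.x, Or.inr (Or.inr (Or.inl rfl))⟩,
        ⟨T.t * S.x, Or.inr (Or.inr (Or.inr rfl))⟩]
      have hinj : Function.Injective f := by
        intro i j h
        have h' := congrArg Subtype.val h
        fin_cases i <;> fin_cases j <;> simp [f] at h' <;>
          first
            | rfl
            | exact absurd h' hx1
            | exact absurd h' T.t_ne
            | exact absurd h'.symm hx1
            | exact absurd h'.symm T.t_ne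
            | exact absurd h' hxt
            | exact absurd h'.symm hxt
            | exact absurd (mul_left_cancel ((mul_one T.t).trans h')) (Ne.symm hx1)
            | exact absurd (mul_left_cancel (ht2.trans h'.symm)) (Ne.symm hxt)
            | exact absurd ((eq_inv_of_mul_eq_one_right h').trans (inv_eq_of_mul_eq_one_right ht2)) hxt
            | exact absurd ((eq_inv_of_mul_eq_one_right h'.symm).trans (inv_eq_of_mul_eq_one_right ht2)) hxt
      have := Nat.card_le_card_of_injective f hinj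
      simpa using this
  have hsol := Cfsg.Agent.S2903.result hrank W.G0 hsp
  obtain ⟨e⟩ := W.G0_iso
  haveI := Cos.McLOut.isSimple
  haveI : IsSimpleGroup ↥W.G0 := (e.trans Cos.McLOut.equivMcL).isSimpleGroup
  have hwz := IsSimpleGroup.comm_iff_isSolvable.2 hsol ⟨W.w, W.U_le_G0 W.w_U⟩
    ⟨H.z, W.U_le_G0 (W.M_le_U (H.J_le_M H.z_J))⟩
  have hwz' : W.w * H.z = H.z * W.w := congrArg Subtype.val hwz
  have h := W.w_z
  rw [hwz', mul_inv_cancel_right, sq] at h
  exact H.z_ne (mul_eq_left.1 h.symm)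

include W in
theorem iso_of_not_ext (hA : ¬ C.Ext) : Cfsg.Spor.IsoMcL G := by
  obtain ⟨e⟩ := W.G0_iso
  exact ⟨(Subgroup.topEquiv.symm.trans (MulEquiv.subgroupCongr (W.G0_top hA).symm)).trans e⟩

end Wl

/-- Without the extension the group is the McLaughlin group. -/
theorem Hyp.iso_of_not_ext (H : Hyp G) {C : Sec H} (hA : ¬ C.Ext) : Cfsg.Spor.IsoMcL G := by
  obtain ⟨T⟩ := C.exists_Tt
  obtain ⟨S⟩ := T.exists_swap
  obtain ⟨O⟩ := T.exists_co S
  obtain ⟨W⟩ := O.exists_wl
  exact W.iso_of_not_ext hA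

end Cfsg.Agent.Spor.McLThree
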