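import Cfsg.Agent.Lib.Spor.McLThree.NormModel

/-!
The matrices of the elements that normalise `J` and centralise `z`; the involution and the inverting element of `L`.
-/

set_option autoImplicit false
set_option maxRecDepth 100000
set_option synthInstance.maxSize 4096
set_option linter.unusedSectionVars false

namespace Cfsg.Agent.Spor.McLThree

open Subgroup Cfsg.Agent.Spor.UFourType

universe u

variable {G : Type u} [Group G] [Finite G]

namespace Hyp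

variable (H : Hyp G)

theorem cz_norm_S {n : G} (hn : n ∈ normalizer (H.J : Set G)) (hz : n * H.z = H.z * n) :
    ∀ s ∈ H.S, n * s * n⁻¹ ∈ H.S := by
  intro s hs
  obtain ⟨j, hj, q, hq, rfl⟩ := H.mem_S hs
  rw [show n * (j * q) * n⁻¹ = (n * j * n⁻¹) * (n * q * n⁻¹) by group]
  exact mul_mem (H.J_le_S (((mem_normalizer_iff.1 hn) j).1 hj)) (H.Q_le_S (H.norm_Q n hz q hq))

theorem card_M : Nat.card H.M = 81 * 360 := by
  have h1 := H.φ.ker.card_mul_index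
  rw [index_ker, MonoidHom.range_eq_top.2 H.φ_surj, card_top, card_A6,
    show H.φ.ker = H.J.subgroupOf H.M from Subgroup.ext fun x => by rw [MonoidHom.mem_ker, H.φ_ker, mem_subgroupOf],
    Nat.card_congr (subgroupOfEquivOfLe H.J_le_M).toEquiv, H.J_card] at h1
  exact h1.symm

theorem conj_M_mem {n m : G} (hn : n ∈ normalizer (H.J : Set G)) (hm : m ∈ H.M) : n * m * n⁻¹ ∈ H.M := by
  have hle : H.M ≤ H.M.comap (MulAut.conj n).toMonoidHom := by
    conv_lhs => rw [H.M_def]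
    rw [closure_le]
    rintro x ⟨hxN, k, hxk⟩
    exact H.mem_M (k := k) (mul_mem (mul_mem hn hxN) (inv_mem hn))
      (by rw [MulEquiv.coe_toMonoidHom, MulAut.conj_apply, conj_pow, hxk]; group)
  exact hle hm

theorem conj_L_mem {g l : G} (hg : g * H.z = H.z * g) (hl : l ∈ H.L) : g * l * g⁻¹ ∈ H.L := by
  have hle : H.L ≤ H.L.comap (MulAut.conj g).toMonoidHom := by
    conv_lhs => rw [H.L_def]
    rw [closure_le]
    rintro x ⟨hxz, k, hxk⟩
    have hgz : Commute g H.z := hg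
    exact H.mem_L (k := k) ((hgz.mul_left hxz).mul_left hgz.inv_left).eq
      (by rw [MulEquiv.coe_toMonoidHom, MulAut.conj_apply, conj_pow, hxk]; group)
  exact hle hl

/-- An element normalising `J` normalises the Sylow group up to an element of `M`. -/
theorem exists_M_norm_S {n : G} (hn : n ∈ normalizer (H.J : Set G)) :
    ∃ m ∈ H.M, ∀ s ∈ H.S, m⁻¹ * n * s * (m⁻¹ * n)⁻¹ ∈ H.S := by
  haveI : Fact (Nat.Prime 3) := ⟨Nat.prime_three⟩
  have hfac : 3 ^ (Nat.card H.M).factorization 3 = 729 := by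
    have e : (81 * 360 : ℕ).factorization 3 = 6 := by
      rw [show (81 * 360 : ℕ) = 3 ^ 6 * 40 by norm_num, Nat.factorization_mul (by norm_num) (by norm_num),
        Nat.prime_three.factorization_pow]
      simp [Nat.factorization_eq_zero_of_not_dvd (show ¬ 3 ∣ 40 by norm_num)]
    rw [H.card_M, e]
    norm_num
  set R : Subgroup G := H.S.map (MulAut.conj n).toMonoidHom
  have hRM : R ≤ H.M := by
    rintro _ ⟨s, hs, rfl⟩
    exact H.conj_M_mem hn (H.S_le_M hs)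
  let P : Sylow 3 H.M := Sylow.ofCard (H.S.subgroupOf H.M)
    (by rw [Nat.card_congr (subgroupOfEquivOfLe H.S_le_M).toEquiv, H.S_card, hfac])
  let P' : Sylow 3 H.M := Sylow.ofCard (R.subgroupOf H.M)
    (by rw [Nat.card_congr (subgroupOfEquivOfLe hRM).toEquiv,
      card_map_of_injective (MulAut.conj n).injective, H.S_card, hfac])
  obtain ⟨c, hc⟩ := MulAction.exists_smul_eq H.M P' P
  have hc' : (R.subgroupOf H.M).map (MulAut.conj c).toMonoidHom = H.S.subgroupOf H.M := by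
    have := congrArg (fun Y : Sylow 3 H.M => (Y : Subgroup H.M)) hc
    rw [Sylow.coe_subgroup_smul] at this
    exact this
  refine ⟨(c : G)⁻¹, inv_mem c.2, fun s hs => ?_⟩
  have hm : (⟨n * s * n⁻¹, hRM ⟨s, hs, rfl⟩⟩ : H.M) ∈ R.subgroupOf H.M := mem_subgroupOf.2 ⟨s, hs, rfl⟩
  have := mem_subgroupOf.1 (hc' ▸ (mem_map_of_mem (MulAut.conj c).toMonoidHom hm))
  simp only [MulEquiv.coe_toMonoidHom, MulAut.conj_apply, coe_mul, coe_inv] at this
  rw [inv_inv]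
  simpa [mul_assoc] using this

theorem conj_z {g : G} (hg : ∀ s ∈ H.S, g * s * g⁻¹ ∈ H.S) : g * H.z * g⁻¹ = H.z ∨ g * H.z * g⁻¹ = H.z ^ 2 := by
  haveI : Fintype H.S := Fintype.ofFinite _
  have hN : g ∈ normalizer (H.S : Set G) := Subgroup.mem_normalizer_fintype hg
  have hzS : H.z ∈ H.S := H.Q_le_S H.z_Q
  have hy : g * H.z * g⁻¹ ∈ zpowers H.z := H.center_S (hg _ hzS) fun x hx => by
    have hx' : g⁻¹ * x * g ∈ H.S := ((mem_normalizer_iff''.1 hN) x).1 hx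
    have := H.S_cz _ hx'
    calc g * H.z * g⁻¹ * x = g * (H.z * (g⁻¹ * x * g)) * g⁻¹ := by group
      _ = _ := by rw [← this]; group
  obtain ⟨k, hk, hk'⟩ := H.pow_Z hy
  interval_cases k
  · exact absurd (conj_eq_one_iff.1 (hk'.trans (pow_zero _))) H.z_ne
  · exact Or.inl (hk'.trans (pow_one _))
  · exact Or.inr hk'

end Hyp

namespace Sec

variable {H : Hyp G} (C : Sec H)

theorem exists_act {n : G} (hn : n ∈ normalizer (H.J : Set G)) : ∃ A, ActB C.ev n A := by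
  have key : ∀ x ∈ H.J, ∃ v, n * x * n⁻¹ = C.ev v := fun x hx => by
    obtain ⟨v, -, hv⟩ := C.ev_surj (((mem_normalizer_iff.1 hn) x).1 hx)
    exact ⟨v, hv.symm⟩
  obtain ⟨a, ha⟩ := key _ H.z_J
  obtain ⟨b, hb⟩ := key _ C.f_J
  obtain ⟨c, hc⟩ := key _ C.e1_JQ.1
  obtain ⟨d, hd⟩ := key _ C.e2_JQ.1
  exact ⟨_, C.bas.act_of_basis ha hb hc hd⟩

theorem nact_unique {n : G} {A B : ℕ} (hA : ActB C.ev n A) (hB : ActB C.ev n B) : A = B :=
  C.bas.act_unique (fun _ hu _ hv h => C.ev_inj hu hv h) hA hB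

theorem nact_mul {g h : G} {A B : ℕ} (hA : ActB C.ev g A) (hB : ActB C.ev h B) : ActB C.ev (g * h) (mM A B) :=
  C.bas.act_mul hA hB

theorem nact_rep (σ : A6) : ActB C.ev (C.rep σ) (C.mat σ) := C.mat_act σ

theorem nact_M {g : G} (hg : g ∈ H.M) : ActB C.ev g (C.mat (C.θ ⟨g, hg⟩)) :=
  ⟨(C.mat_act _).1, fun _ hv => C.conj_M hg hv⟩

theorem nact_J {j : G} (hj : j ∈ H.J) : ActB C.ev j mI :=
  ⟨C.bas.act_one.1, fun v hv => by
    refine Eq.trans ?_ (C.bas.act_one.2 v hv)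
    show j * C.ev v * j⁻¹ = 1 * C.ev v * (1 : G)⁻¹
    rw [H.J_comm j hj _ (C.ev_J v)]; group⟩

theorem mat_one : C.mat 1 = mI := C.act_eq (C.mat_act 1) C.act_one'

theorem mat_pt : C.mat pt = mT0 := C.act_eq (C.mat_act pt) C.act_T

theorem mat_fin (i k : Fin 3) : C.mat (pa ^ (i : ℕ) * pb ^ (k : ℕ)) =
    mM (List.getD [mI, mA0, mM mA0 mA0] i mI) (List.getD [mI, mB0, mM mB0 mB0] k mI) := by
  have ha : C.mat pa = mA0 := C.act_eq (C.mat_act pa) C.act_gens.1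
  have hb : C.mat pb = mB0 := C.act_eq (C.mat_act pb) C.act_gens.2.1
  rw [C.mat_mul]
  congr 1 <;> [(fin_cases i); (fin_cases k)] <;> simp [C.mat_mul, C.mat_one, ha, hb, pow_succ]

theorem mat_Sy {σ : A6} (hσ : σ ∈ Sy) : C.mat σ ∈ syT := by
  obtain ⟨i, k, rfl⟩ := hσ
  rw [C.mat_fin]
  exact syT_words i k

theorem syT_Sy {X : ℕ} (hX : X ∈ syT) : ∃ σ ∈ Sy, C.mat σ = X := by
  obtain ⟨i, k, rfl⟩ := syT_cases X hX
  exact ⟨_, ⟨i, k, rfl⟩, C.mat_fin i k⟩

theorem mat_of_S {s : G} (hs : s ∈ H.S) : ∃ X ∈ syT, ActB C.ev s X :=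
  ⟨_, C.mat_Sy ((C.sylow _).1 hs), C.nact_M (H.S_le_M hs)⟩

theorem nact_fix {n : G} {A : ℕ} (hA : ActB C.ev n A) (hz : n * H.z = H.z * n) : ap A 4 = 4 := by
  refine C.ev_inj (ap_lt _ _) (by norm_num) ?_
  rw [← hA.2 4 (by norm_num), C.ev_basis.1, hz, mul_inv_cancel_right]

theorem nact_z {n : G} {A : ℕ} (hA : ActB C.ev n A) (h : ap A 4 = 4) : n * H.z = H.z * n := by
  have h' := hA.2 4 (by norm_num)
  rw [h, C.ev_basis.1] at h'
  exact mul_inv_eq_iff_eq_mul.1 h'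

/-- Elements normalising `J` permute the singular vectors. -/
theorem sng_pres {n : G} (hn : n ∈ normalizer (H.J : Set G)) {A : ℕ} (hA : ActB C.ev n A) {v : ℕ}
    (hv : v < 81) (hs : sngP v = true) : sngP (ap A v) = true := by
  obtain ⟨B, hB, hB4⟩ := sng_orbit v hv hs
  obtain ⟨σ, rfl⟩ := C.mat_surj hB
  have hn' : n * C.rep σ ∈ normalizer (H.J : Set G) := mul_mem hn (H.M_norm (C.rep_mem σ))
  obtain ⟨m, hm, hmS⟩ := H.exists_M_norm_S hn'
  have hev : C.ev (ap A v) = n * C.rep σ * H.z * (n * C.rep σ)⁻¹ := by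
    rw [← hA.2 v hv, ← hB4, ← (C.mat_act σ).2 4 (by norm_num), C.ev_basis.1]; group
  obtain ⟨w, hw, hwz⟩ : ∃ w, (w = 4 ∨ w = vS 2 4) ∧ m⁻¹ * (n * C.rep σ) * H.z * (m⁻¹ * (n * C.rep σ))⁻¹ = C.ev w := by
    rcases H.conj_z hmS with h | h
    · exact ⟨4, Or.inl rfl, by rw [C.ev_basis.1]; exact h⟩
    · exact ⟨vS 2 4, Or.inr rfl, by rw [C.ev_smul, C.ev_basis.1]; exact h⟩
  have hw81 : w < 81 := by rcases hw with rfl | rfl <;> [norm_num; exact vS_lt _ _]
  have e : C.ev (ap A v) = C.ev (ap (C.mat (C.θ ⟨m, hm⟩)) w) := by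
    rw [← C.conj_M hm hw81, ← hwz, hev]; group
  rw [C.ev_inj (ap_lt _ _) (ap_lt _ _) e]
  rcases hw with rfl | rfl
  · exact (gT_sng _ (C.mat_mem _)).1
  · exact (gT_sng _ (C.mat_mem _)).2

/-- Elements of `C(z) ∩ N(J)` are isometries or similitudes, up to `S`. -/
theorem cz_split {n : G} (hn : n ∈ normalizer (H.J : Set G)) (hz : n * H.z = H.z * n) :
    ∃ σ ∈ Sy, ∃ n' ∈ normalizer (H.J : Set G), n' * H.z = H.z * n' ∧ n = C.rep σ * n' ∧
      ∃ A ∈ isoT ++ simT, ActB C.ev n' A := by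
  set r := C.rep pt
  have hrM : r ∈ H.M := C.rep_mem pt
  have hxM : n * r * n⁻¹ ∈ H.M := H.conj_M_mem hn hrM
  set x : A6 := C.θ ⟨n * r * n⁻¹, hxM⟩ with hx
  have hxz : n * r * n⁻¹ * H.z = H.z * (n * r * n⁻¹) := by
    have hr : Commute r H.z := by
      have := C.pt_z
      exact mul_inv_eq_iff_eq_mul.1 this
    have hnz : Commute n H.z := hz
    exact ((hnz.mul_left hr).mul_left hnz.inv_left).eq
  have hxmat := C.nact_M hxM
  have hfix : ap (C.mat x) 4 = 4 := C.nact_fix hxmat hxz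
  have hr2 : r * r ∈ H.J := (C.ker ⟨_, mul_mem hrM hrM⟩).1 (by
    rw [show (⟨r * r, mul_mem hrM hrM⟩ : H.M) = ⟨r, hrM⟩ * ⟨r, hrM⟩ from rfl, map_mul, C.θ_rep]
    exact a6_rels.2.2.2.2.2.2.2.2.1)
  have hx2 : x * x = 1 := by
    rw [hx, ← map_mul, C.ker]
    show n * r * n⁻¹ * (n * r * n⁻¹) ∈ H.J
    rw [show n * r * n⁻¹ * (n * r * n⁻¹) = n * (r * r) * n⁻¹ by group]
    exact ((mem_normalizer_iff.1 hn) _).1 hr2
  have hx1 : x ≠ 1 := fun h => by
    have h1 := (C.ker _).1 (hx ▸ h)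
    have h2 : r ∈ H.J := ((mem_normalizer_iff.1 hn) r).2 h1
    have h3 := (C.ker ⟨r, hrM⟩).2 h2
    rw [C.θ_rep] at h3
    exact (show pt ≠ 1 by decide +kernel) h3
  obtain ⟨X, hX, hXe⟩ := invol_fixing _ (C.mat_mem x) hfix
    (by rw [← C.mat_mul, hx2, C.mat_one]) fun h => hx1 (C.mat_inj (h.trans C.mat_one.symm))
  obtain ⟨σ, hσ, rfl⟩ := C.syT_Sy hX
  have hxe : x * σ = σ * pt := C.mat_inj (by rw [C.mat_mul, C.mat_mul, C.mat_pt, hXe])
  set n' := (C.rep σ)⁻¹ * n with hn'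
  have hn'N : n' ∈ normalizer (H.J : Set G) := mul_mem (inv_mem (H.M_norm (C.rep_mem σ))) hn
  have hn'z : n' * H.z = H.z * n' :=
    ((show Commute (C.rep σ) H.z from H.S_cz _ (C.rep_S hσ)).inv_left.mul_left hz).eq
  refine ⟨σ, hσ, n', hn'N, hn'z, by rw [hn']; group, ?_⟩
  obtain ⟨A, hA⟩ := C.exists_act hn'N
  have hcM : n' * r * n'⁻¹ ∈ H.M := H.conj_M_mem hn'N hrM
  have hθ : C.θ ⟨n' * r * n'⁻¹, hcM⟩ = pt := by
    rw [show (⟨n' * r * n'⁻¹, hcM⟩ : H.M) = (⟨C.rep σ, C.rep_mem σ⟩ : H.M)⁻¹ * ⟨n * r * n⁻¹, hxM⟩ *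
        ⟨C.rep σ, C.rep_mem σ⟩ from Subtype.ext (by simp [hn']; group), map_mul, map_mul, map_inv, C.θ_rep, ← hx,
      mul_assoc, hxe, inv_mul_cancel_left]
  have hj : r⁻¹ * (n' * r * n'⁻¹) ∈ H.J := (C.ker ⟨_, mul_mem (inv_mem hrM) hcM⟩).1 (by
    rw [show (⟨_, mul_mem (inv_mem hrM) hcM⟩ : H.M) = (⟨r, hrM⟩ : H.M)⁻¹ * ⟨_, hcM⟩ from rfl, map_mul, map_inv,
      hθ, C.θ_rep, inv_mul_cancel])
  have hT : ActB C.ev r mT0 := C.mat_pt ▸ C.nact_rep pt
  have h1 := C.nact_mul hA hT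
  have hcT : ActB C.ev (n' * r * n'⁻¹) mT0 := by
    refine ⟨hT.1, fun v hv => ?_⟩
    have := C.conj_M hcM hv
    rwa [hθ, C.mat_pt] at this
  have h2 := C.nact_mul hcT hA
  rw [inv_mul_cancel_right] at h2
  have hcomm : mM mT0 A = mM A mT0 := C.nact_unique h2 h1
  have hA4 := C.nact_fix hA hn'z
  have key : ∀ v < 81, ap mT0 (ap A v) = ap A (ap mT0 v) := fun v hv => by
    refine C.ev_inj (ap_lt _ _) (ap_lt _ _) ?_
    have a1 := hcT.2 _ (ap_lt A v)
    have a2 := hA.2 _ (ap_lt mT0 v)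
    rw [← hA.2 v hv] at a1
    rw [← hT.2 v hv] at a2
    rw [← a1, ← a2]; group
  obtain ⟨i, hi, hi7⟩ := plane_codes _ (ap_lt A 7) (by
    rw [key 7 (by norm_num)]; exact congrArg (ap A) (show ap mT0 7 = 7 by decide +kernel))
  have hmid : ∀ w ∈ [18, 54], ap A w ∈ midL := fun w hw => by
    have hw' : w < 81 ∧ ap mT0 w = vS 2 w := by
      revert w; decide +kernel
    refine mid_codes _ (ap_lt _ _) ?_
    rw [key w hw'.1, hw'.2]
    refine C.ev_inj (ap_lt _ _) (vS_lt _ _) ?_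
    rw [← hA.2 _ (vS_lt _ _), C.ev_smul, C.ev_smul, ← hA.2 w hw'.1, conj_pow]
  have hshape : A = mB 4 (ap A 7) (ap A 18) (ap A 54) := by
    obtain ⟨b4, b7, b18, b54⟩ := C.ev_basis
    refine C.nact_unique hA (C.bas.act_of_basis ?_ ?_ ?_ ?_)
    · show _ = C.ev 4
      rw [b4, hn'z, mul_inv_cancel_right]
    · show _ = C.ev _
      rw [← hA.2 7 (by norm_num), b7]
    · show _ = C.ev _
      rw [← hA.2 18 (by norm_num), b18]
    · show _ = C.ev _
      rw [← hA.2 54 (by norm_num), b54]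
  have hc := chkCand_ok
  simp only [chkCand, List.all_eq_true, List.mem_range, Bool.or_eq_true, Bool.not_eq_true', List.any_eq_true] at hc
  have := (hc i hi _ (hmid 18 (by simp)) _ (hmid 54 (by simp))).resolve_left (by
    simp only [Bool.not_eq_false, candP, List.all_eq_true, List.mem_range, Bool.or_eq_true, Bool.not_eq_true']
    intro v hv
    by_cases hs : sngP v = true
    · right
      rw [hi7, ← hshape]
      exact C.sng_pres hn'N hA hv hs
    · left; simpa using hs)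
  obtain ⟨B, hB, hAB⟩ := this
  rw [hi7, ← hshape] at hAB
  exact ⟨A, (Nat.eq_of_beq_eq_true hAB) ▸ hB, hA⟩

end Sec

end Cfsg.Agent.Spor.McLThree
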