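import Cfsg.Agent.Lib.Spor.McLThree.NormCent

/-!
The centralizer of `z` is `L`, or `L` extended by an element turning the middle plane by a right angle.
-/

set_option autoImplicit false
set_option maxRecDepth 100000
set_option synthInstance.maxSize 4096
set_option linter.unusedSectionVars false

namespace Cfsg.Agent.Spor.McLThree

open Subgroup Cfsg.Agent.Spor.UFourType

universe u

variable {G : Type u} [Group G] [Finite G]

namespace Hyp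

variable (H : Hyp G)

theorem psi_mul {a b : G} (ha : a ∈ H.L) (hb : b ∈ H.L) :
    H.ψ ⟨a * b, mul_mem ha hb⟩ = H.ψ ⟨a, ha⟩ * H.ψ ⟨b, hb⟩ := map_mul H.ψ ⟨a, ha⟩ ⟨b, hb⟩

theorem psi_inv {a : G} (ha : a ∈ H.L) : H.ψ ⟨a⁻¹, inv_mem ha⟩ = (H.ψ ⟨a, ha⟩)⁻¹ := map_inv H.ψ ⟨a, ha⟩

theorem psi_pow {a : G} (ha : a ∈ H.L) (k : ℕ) : H.ψ ⟨a ^ k, pow_mem ha k⟩ = H.ψ ⟨a, ha⟩ ^ k :=
  map_pow H.ψ ⟨a, ha⟩ k

theorem psi_conj {a b : G} (ha : a ∈ H.L) (hb : b ∈ H.L) :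
    H.ψ ⟨a * b * a⁻¹, mul_mem (mul_mem ha hb) (inv_mem ha)⟩ = H.ψ ⟨a, ha⟩ * H.ψ ⟨b, hb⟩ * (H.ψ ⟨a, ha⟩)⁻¹ := by
  rw [H.psi_mul (mul_mem ha hb) (inv_mem ha), H.psi_mul ha hb, H.psi_inv ha]

theorem psi_eq_iff {a b : G} (ha : a ∈ H.L) (hb : b ∈ H.L) : H.ψ ⟨a, ha⟩ = H.ψ ⟨b, hb⟩ ↔ a⁻¹ * b ∈ H.Q := by
  rw [← H.ψ_ker ⟨a⁻¹ * b, mul_mem (inv_mem ha) hb⟩, H.psi_mul (inv_mem ha) hb, H.psi_inv ha, inv_mul_eq_one]

theorem exists_L_norm_S {g : G} (hg : g * H.z = H.z * g) :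
    ∃ l ∈ H.L, ∀ s ∈ H.S, l⁻¹ * g * s * (l⁻¹ * g)⁻¹ ∈ H.S := by
  haveI : Fact (Nat.Prime 3) := ⟨Nat.prime_three⟩
  have hfac : 3 ^ (Nat.card H.L).factorization 3 = 729 := by
    have e : (243 * 120 : ℕ).factorization 3 = 6 := by
      rw [show (243 * 120 : ℕ) = 3 ^ 6 * 40 by norm_num, Nat.factorization_mul (by norm_num) (by norm_num),
        Nat.prime_three.factorization_pow]
      simp [Nat.factorization_eq_zero_of_not_dvd (show ¬ 3 ∣ 40 by norm_num)]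
    rw [H.card_L, e]
    norm_num
  set R : Subgroup G := H.S.map (MulAut.conj g).toMonoidHom
  have hRL : R ≤ H.L := by
    rintro _ ⟨s, hs, rfl⟩
    exact H.conj_L_mem hg (H.S_le_L hs)
  let P : Sylow 3 H.L := Sylow.ofCard (H.S.subgroupOf H.L)
    (by rw [Nat.card_congr (subgroupOfEquivOfLe H.S_le_L).toEquiv, H.S_card, hfac])
  let P' : Sylow 3 H.L := Sylow.ofCard (R.subgroupOf H.L)
    (by rw [Nat.card_congr (subgroupOfEquivOfLe hRL).toEquiv,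
      card_map_of_injective (MulAut.conj g).injective, H.S_card, hfac])
  obtain ⟨c, hc⟩ := MulAction.exists_smul_eq H.L P' P
  have hc' : (R.subgroupOf H.L).map (MulAut.conj c).toMonoidHom = H.S.subgroupOf H.L := by
    have := congrArg (fun Y : Sylow 3 H.L => (Y : Subgroup H.L)) hc
    rw [Sylow.coe_subgroup_smul] at this
    exact this
  refine ⟨(c : G)⁻¹, inv_mem c.2, fun s hs => ?_⟩
  have hm : (⟨g * s * g⁻¹, hRL ⟨s, hs, rfl⟩⟩ : H.L) ∈ R.subgroupOf H.L := mem_subgroupOf.2 ⟨s, hs, rfl⟩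
  have := mem_subgroupOf.1 (hc' ▸ (mem_map_of_mem (MulAut.conj c).toMonoidHom hm))
  simp only [MulEquiv.coe_toMonoidHom, MulAut.conj_apply, coe_mul, coe_inv] at this
  rw [inv_inv]
  simpa [mul_assoc] using this

end Hyp

namespace Sec

variable {H : Hyp G} (C : Sec H)

theorem f_L : C.f ∈ H.L := H.S_le_L (H.J_le_S C.f_J)

/-- The image of `f` in `SL₂(5)`. -/
noncomputable def uf : SL5 := H.ψ ⟨C.f, C.f_L⟩

theorem uf_spec : C.uf * C.uf * C.uf = 1 ∧ C.uf ≠ 1 := by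
  refine ⟨?_, fun h => C.f_not_Q ((H.ψ_ker _).1 h)⟩
  rw [uf, ← map_mul, ← map_mul, ← map_one H.ψ]
  refine congrArg H.ψ (Subtype.ext ?_)
  show C.f * C.f * C.f = 1
  rw [← C.bas.f3, pow_succ, sq]

theorem ev_of_fC {v : ℕ} (h : fC v = 0) : C.ev v ∈ H.Q := by
  unfold ev evB
  refine mul_mem (mul_mem (mul_mem (pow_mem H.z_Q _) ?_) (pow_mem C.e1_JQ.2 _)) (pow_mem C.e2_JQ.2 _)
  rw [pow_eq_pow_mod _ C.bas.f3, show (2 * v0 v + v1 v) % 3 = 0 from h, pow_zero]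
  exact one_mem _

theorem ev_fC {v : ℕ} (hv : v < 81) : ∃ q ∈ H.J ⊓ H.Q, C.ev v = C.f ^ fC v * q := by
  obtain ⟨he, h0⟩ := fC_split v hv
  refine ⟨_, ⟨C.ev_J _, C.ev_of_fC h0⟩, ?_⟩
  conv_lhs => rw [← he, C.ev_add, C.ev_smul, C.ev_basis.2.1]

theorem psi_S {s : G} (hs : s ∈ H.S) : ∃ i < 3, H.ψ ⟨s, H.S_le_L hs⟩ = C.uf ^ i := by
  obtain ⟨j, hj, q, hq, rfl⟩ := H.mem_S hs
  obtain ⟨v, hv, rfl⟩ := C.ev_surj hj
  obtain ⟨r, hr, hvr⟩ := C.ev_fC hv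
  refine ⟨fC v, Nat.mod_lt _ (by norm_num), ?_⟩
  rw [uf, ← H.psi_pow, H.psi_eq_iff, hvr]
  rw [show (C.f ^ fC v * r * q)⁻¹ * C.f ^ fC v = q⁻¹ * r⁻¹ by group]
  exact mul_mem (inv_mem hq) (inv_mem hr.2)

theorem mem_S_of_psi {x : G} (hx : x ∈ H.L) {i : ℕ} (h : H.ψ ⟨x, hx⟩ = C.uf ^ i) : x ∈ H.S := by
  rw [uf, ← H.psi_pow, eq_comm, H.psi_eq_iff] at h
  simpa using mul_mem (pow_mem (H.J_le_S C.f_J) i) (H.Q_le_S h)

theorem fC_psi {v : ℕ} (hv : v < 81) : H.ψ ⟨C.ev v, H.S_le_L (H.J_le_S (C.ev_J v))⟩ = C.uf ^ fC v := by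
  obtain ⟨r, hr, hvr⟩ := C.ev_fC hv
  rw [uf, ← H.psi_pow, H.psi_eq_iff, hvr, show (C.f ^ fC v * r)⁻¹ * C.f ^ fC v = r⁻¹ by group]
  exact inv_mem hr.2

include C in
/-- An involution of `L` with the matrix of the central involution. -/
theorem exists_t : ∃ t : G, ∃ ht : t ∈ H.L, t * t = 1 ∧ H.ψ ⟨t, ht⟩ = -1 ∧ t ∈ normalizer (H.J : Set G) ∧
    ActB C.ev t mT0 := by
  obtain ⟨t, ht, ht2, hψ⟩ := H.exists_invol
  have hti : t⁻¹ = t := inv_eq_of_mul_eq_one_right ht2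
  have hcent : ∀ s (hs : s ∈ H.S), t * s * t⁻¹ ∈ H.S := fun s hs => by
    obtain ⟨i, -, hi⟩ := C.psi_S hs
    refine C.mem_S_of_psi (mul_mem (mul_mem ht (H.S_le_L hs)) (inv_mem ht)) (i := i) ?_
    rw [H.psi_conj ht (H.S_le_L hs), hψ, ← sl5_neg.2.2, mul_inv_cancel_right, hi]
  have htN := H.norm_J_of_norm_S hcent
  obtain ⟨σ, hσ, n', -, -, he, A, hA, hA'⟩ := C.cz_split htN (H.L_cz ht)
  have hAct : ActB C.ev t (mM (C.mat σ) A) := he ▸ C.nact_mul (C.nact_rep σ) hA'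
  have h7 : fC (ap (mM (C.mat σ) A) 7) = 1 := by
    have e1 := hAct.2 7 (by norm_num)
    rw [C.ev_basis.2.1] at e1
    have e2 := C.fC_psi (ap_lt (mM (C.mat σ) A) 7)
    have e3 : H.ψ ⟨t * C.f * t⁻¹, mul_mem (mul_mem ht C.f_L) (inv_mem ht)⟩ = C.uf := by
      rw [H.psi_conj ht C.f_L, hψ, ← sl5_neg.2.2, mul_inv_cancel_right]; rfl
    rw [show (⟨t * C.f * t⁻¹, _⟩ : H.L) = ⟨_, H.S_le_L (H.J_le_S (C.ev_J (ap (mM (C.mat σ) A) 7)))⟩ from
      Subtype.ext e1, e2] at e3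
    have hc : fC (ap (mM (C.mat σ) A) 7) < 3 := Nat.mod_lt _ (by norm_num)
    generalize fC (ap (mM (C.mat σ) A) 7) = c at e3 hc ⊢
    interval_cases c
    · exact absurd ((pow_zero _).symm.trans e3).symm C.uf_spec.2
    · rfl
    · exact absurd (mul_eq_left.1 ((sq _).symm.trans e3)) C.uf_spec.2
  have hmid : ∀ w ∈ [18, 54], vA w (ap (mM (C.mat σ) A) w) ∈ zL := fun w hw => by
    have hw' : w < 81 ∧ fC w = 0 := by revert w; decide +kernel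
    set a := C.ev w
    have haQ : a ∈ H.Q := C.ev_of_fC hw'.2
    have hba : t * a * t⁻¹ ∈ H.J := ((mem_normalizer_iff.1 htN) a).1 (C.ev_J w)
    have hbZ : a * (t * a * t⁻¹) ∈ zpowers H.z := by
      refine H.invol_fix ht ht2 hψ (mul_mem haQ (H.norm_Q t (H.L_cz ht) a haQ)) ?_
      have e : t * (a * (t * a * t⁻¹)) * t⁻¹ = a * (t * a * t⁻¹) := by
        rw [← H.J_comm _ hba a (C.ev_J w)]
        calc t * (t * a * t⁻¹ * a) * t⁻¹ = (t * t) * (a * (t⁻¹ * a * t⁻¹)) := by group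
          _ = a * (t * a * t⁻¹) := by rw [ht2, one_mul, show t⁻¹ * a * t⁻¹ = t * a * t⁻¹ by rw [hti]]
          _ = _ := (H.J_comm _ hba a (C.ev_J w)).symm.trans (by rw [H.J_comm _ hba a (C.ev_J w)])
      rw [e, mul_inv_cancel]
      exact one_mem _
    rw [hAct.2 w hw'.1, ← C.ev_add] at hbZ
    obtain ⟨k, hk, hk'⟩ := C.ev_Z hbZ
    rw [C.ev_inj (vA_lt _ _) (vS_lt _ _) hk']
    interval_cases k <;> decide +kernel
  have hAT : A = mT0 := invol_shape _ (C.mat_Sy hσ) A hA h7 (hmid 18 (by simp)) (hmid 54 (by simp))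
  rw [hAT, ← C.mat_pt, ← C.mat_mul] at hAct
  have hfix := C.nact_fix hAct (H.L_cz ht)
  have hsq : mM (C.mat (σ * pt)) (C.mat (σ * pt)) = mI :=
    C.nact_unique (C.nact_mul hAct hAct) (by rw [ht2]; exact C.nact_J (one_mem _))
  have hne : C.mat (σ * pt) ≠ mI := fun h => by
    rw [h] at hAct
    have htJ : t ∈ H.J := H.J_self_cent fun a ha => by
      obtain ⟨v, hv, rfl⟩ := C.ev_surj ha
      refine mul_inv_eq_iff_eq_mul.1 ((hAct.2 v hv).trans ?_)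
      rw [← (C.nact_J (one_mem H.J)).2 v hv, one_mul, inv_one, mul_one]
    have h3 := H.J_cube t htJ
    rw [pow_succ, sq, ht2, one_mul] at h3
    subst h3
    exact sl5_neg.2.1 (hψ.symm.trans (map_one H.ψ))
  obtain ⟨X, hX, hXe⟩ := invol_fixing _ (C.mat_mem _) hfix hsq hne
  obtain ⟨τ, hτ, rfl⟩ := C.syT_Sy hX
  have hrL := H.S_le_L (C.rep_S hτ)
  set r := C.rep τ with hr
  refine ⟨r⁻¹ * t * r, mul_mem (mul_mem (inv_mem hrL) ht) hrL, ?_, ?_, ?_, ?_⟩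
  · calc r⁻¹ * t * r * (r⁻¹ * t * r) = r⁻¹ * (t * t) * r := by group
      _ = 1 := by rw [ht2]; group
  · rw [H.psi_mul (mul_mem (inv_mem hrL) ht) hrL, H.psi_mul (inv_mem hrL) ht, H.psi_inv hrL, hψ, mul_assoc,
      ← sl5_neg.2.2, inv_mul_cancel_left]
  · exact mul_mem (mul_mem (inv_mem (H.M_norm (C.rep_mem τ))) htN) (H.M_norm (C.rep_mem τ))
  · obtain ⟨D, hD⟩ := C.exists_act (n := r⁻¹) (inv_mem (H.M_norm (C.rep_mem τ)))
    have h1 := C.nact_mul (C.nact_mul hD hAct) (C.nact_rep τ)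
    have h2 := C.nact_mul hD (C.nact_rep τ)
    rw [inv_mul_cancel] at h2
    refine ⟨by decide +kernel, fun v hv => ?_⟩
    have e1 := hAct.2 _ (ap_lt (C.mat τ) v)
    rw [← (C.nact_rep τ).2 v hv] at e1
    have e2 := (C.nact_mul (C.nact_rep τ) (C.mat_pt ▸ C.nact_rep pt : ActB C.ev (C.rep pt) mT0)).2 v hv
    rw [← hXe] at e2
    have e3 := (C.nact_mul hAct (C.nact_rep τ)).2 v hv
    rw [← e2] at e3
    calc r⁻¹ * t * r * C.ev v * (r⁻¹ * t * r)⁻¹ = r⁻¹ * (t * r * C.ev v * (t * r)⁻¹) * r := by group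
      _ = r⁻¹ * (r * C.rep pt * C.ev v * (r * C.rep pt)⁻¹) * r := by rw [e3]
      _ = C.rep pt * C.ev v * (C.rep pt)⁻¹ := by group
      _ = _ := (C.mat_pt ▸ C.nact_rep pt : ActB C.ev (C.rep pt) mT0).2 v hv

include C in
/-- An element of `L` inverting the image of `f`, with a matrix of order four. -/
theorem exists_n : ∃ n : G, ∃ hn : n ∈ H.L, n ∈ normalizer (H.J : Set G) ∧
    H.ψ ⟨n, hn⟩ * H.ψ ⟨n, hn⟩ = -1 ∧ H.ψ ⟨n, hn⟩ * C.uf = C.uf * C.uf * H.ψ ⟨n, hn⟩ ∧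
    ∃ B ∈ ordT, ActB C.ev n B := by
  obtain ⟨t, ht, ht2, htψ, -, htA⟩ := C.exists_t
  obtain ⟨γ, hγ2, hγi⟩ := sl5_inverter _ C.uf_spec.1 C.uf_spec.2
  obtain ⟨n0, hn0, rfl⟩ := H.psi_lift γ
  have hconj : ∀ i : ℕ, H.ψ ⟨n0, hn0⟩ * C.uf ^ i = C.uf ^ (2 * i) * H.ψ ⟨n0, hn0⟩ := by
    intro i
    have h : SemiconjBy (H.ψ ⟨n0, hn0⟩) C.uf (C.uf * C.uf) := hγi
    have := h.pow_right i
    rwa [← sq, ← pow_mul] at this
  have hcent : ∀ s ∈ H.S, n0 * s * n0⁻¹ ∈ H.S := fun s hs => by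
    obtain ⟨i, -, hi⟩ := C.psi_S hs
    refine C.mem_S_of_psi (mul_mem (mul_mem hn0 (H.S_le_L hs)) (inv_mem hn0)) (i := 2 * i) ?_
    rw [H.psi_conj hn0 (H.S_le_L hs), hi, hconj, mul_inv_cancel_right]
  obtain ⟨σ, hσ, n, hnN, -, he, A, hA, hA'⟩ := C.cz_split (H.norm_J_of_norm_S hcent) (H.L_cz hn0)
  have hrL := H.S_le_L (C.rep_S hσ)
  have hn : n ∈ H.L := by
    rw [show n = (C.rep σ)⁻¹ * n0 by rw [he]; group]
    exact mul_mem (inv_mem hrL) hn0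
  obtain ⟨i, hi3, hi⟩ := C.psi_S (C.rep_S hσ)
  have hψn : H.ψ ⟨n0, hn0⟩ = C.uf ^ i * H.ψ ⟨n, hn⟩ := by
    rw [← hi, ← H.psi_mul hrL hn]
    exact congrArg H.ψ (Subtype.ext he)
  set g := H.ψ ⟨n, hn⟩ with hg
  have hginv : g * C.uf = C.uf * C.uf * g := by
    refine mul_left_cancel (a := C.uf ^ i) ?_
    have h := hγi
    rw [hψn] at h
    have hc : Commute (C.uf ^ i) (C.uf * C.uf) := ((Commute.refl C.uf).mul_right (Commute.refl C.uf)).pow_left i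
    rw [← mul_assoc, h, ← mul_assoc, ← hc.eq, mul_assoc]
  have hgsq : g * g = -1 := by
    have hsemi : SemiconjBy g (C.uf ^ i) ((C.uf * C.uf) ^ i) := (show SemiconjBy g C.uf (C.uf * C.uf) from hginv).pow_right i
    have h3 : C.uf ^ i * (C.uf * C.uf) ^ i = 1 := by
      rw [← (show Commute C.uf (C.uf * C.uf) from (Commute.refl C.uf).mul_right (Commute.refl C.uf)).mul_pow,
        ← mul_assoc, C.uf_spec.1, one_pow]
    rw [← hγ2, hψn]
    calc g * g = C.uf ^ i * (C.uf * C.uf) ^ i * (g * g) := by rw [h3, one_mul]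
      _ = C.uf ^ i * ((C.uf * C.uf) ^ i * g) * g := by simp only [mul_assoc]
      _ = _ := by rw [← hsemi.eq]; simp only [mul_assoc]
  refine ⟨n, hn, hnN, hgsq, hginv, A, ?_, hA'⟩
  have hf : fC (ap A 7) = 2 := by
    have e1 := hA'.2 7 (by norm_num)
    rw [C.ev_basis.2.1] at e1
    have e3 : H.ψ ⟨n * C.f * n⁻¹, mul_mem (mul_mem hn C.f_L) (inv_mem hn)⟩ = C.uf * C.uf := by
      rw [H.psi_conj hn C.f_L, mul_inv_eq_iff_eq_mul]; exact hginv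
    rw [show (⟨n * C.f * n⁻¹, _⟩ : H.L) = ⟨_, H.S_le_L (H.J_le_S (C.ev_J (ap A 7)))⟩ from Subtype.ext e1,
      C.fC_psi (ap_lt A 7)] at e3
    have hc : fC (ap A 7) < 3 := Nat.mod_lt _ (by norm_num)
    generalize fC (ap A 7) = c at e3 hc ⊢
    interval_cases c
    · exfalso
      rw [pow_zero] at e3
      exact C.uf_spec.2 ((mul_one _).symm.trans ((congrArg (C.uf * ·) e3).trans ((mul_assoc _ _ _).symm.trans C.uf_spec.1)))
    · exfalso
      rw [pow_one] at e3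
      exact C.uf_spec.2 (mul_eq_left.1 e3.symm)
    · rfl
  have hAs : A ∈ simT := (List.mem_append.1 hA).resolve_left fun h => by
    rw [iso_fC.1 A h] at hf; omega
  have hqQ : t⁻¹ * (n * n) ∈ H.Q := (H.psi_eq_iff ht (mul_mem hn hn)).1 (by rw [htψ, H.psi_mul hn hn]; exact hgsq.symm)
  obtain ⟨X, hX, hXA⟩ := C.mat_of_S (H.Q_le_S hqQ)
  refine ord_of_sq A hAs ⟨X, hX, ?_⟩
  have h2 := C.nact_mul htA hXA
  rw [mul_inv_cancel_left] at h2
  exact C.nact_unique (C.nact_mul hA' hA') h2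

include C in
/-- The matrices of `C(z) ∩ N(J)`. -/
theorem cz_mat {m : G} (hm : m ∈ normalizer (H.J : Set G)) (hz : m * H.z = H.z * m) :
    ∃ σ ∈ Sy, ∃ m' ∈ normalizer (H.J : Set G), m' * H.z = H.z * m' ∧ m = C.rep σ * m' ∧
      ∃ A ∈ rotT ++ ordT, ActB C.ev m' A := by
  obtain ⟨σ, hσ, m', hmN, hmz, he, A, hA, hA'⟩ := C.cz_split hm hz
  refine ⟨σ, hσ, m', hmN, hmz, he, A, ?_, hA'⟩
  obtain ⟨n, hn, hnN, hn2, hnu, B, hB, hnB⟩ := C.exists_n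
  obtain ⟨t, ht, ht2, htψ, htN, htA⟩ := C.exists_t
  have key : ∀ x ∈ normalizer (H.J : Set G), x * H.z = H.z * x → ∀ A', A' ∈ isoT → ActB C.ev x A' → A' ∈ rotT := by
    intro x hxN hxz A' hA'i hx
    have hxS := H.cz_norm_S hxN hxz
    have hxiS : ∀ s ∈ H.S, x⁻¹ * s * x ∈ H.S := fun s hs => by
      have := H.cz_norm_S (inv_mem hxN) (show x⁻¹ * H.z = H.z * x⁻¹ from (show Commute x H.z from hxz).inv_left.eq) s hs
      rwa [inv_inv] at this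
    set c := x * n * x⁻¹ with hc
    have hcL : c ∈ H.L := H.conj_L_mem hxz hn
    have hcu : H.ψ ⟨c, hcL⟩ * C.uf * (H.ψ ⟨c, hcL⟩)⁻¹ = C.uf * C.uf := by
      obtain ⟨i, hi3, hi⟩ := C.psi_S (hxiS _ (H.J_le_S C.f_J))
      set s := x⁻¹ * C.f * x with hs
      have hsS : s ∈ H.S := hxiS _ (H.J_le_S C.f_J)
      have hsL := H.S_le_L hsS
      have hψs : H.ψ ⟨n * s * n⁻¹, mul_mem (mul_mem hn hsL) (inv_mem hn)⟩ = H.ψ ⟨s * s, mul_mem hsL hsL⟩ := by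
        rw [H.psi_conj hn hsL, H.psi_mul hsL hsL, hi, mul_inv_eq_iff_eq_mul,
          (show SemiconjBy (H.ψ ⟨n, hn⟩) C.uf (C.uf * C.uf) from hnu).pow_right i |>.eq,
          (Commute.refl C.uf).mul_pow]
      have hq := (H.psi_eq_iff _ _).1 hψs
      have hq' := H.norm_Q x hxz _ hq
      rw [show x * ((n * s * n⁻¹)⁻¹ * (s * s)) * x⁻¹ = (c * C.f * c⁻¹)⁻¹ * (C.f * C.f) by
        rw [hs, hc]; group] at hq'
      rw [uf, ← H.psi_conj hcL C.f_L, (H.psi_eq_iff _ (mul_mem C.f_L C.f_L)).2 hq', H.psi_mul C.f_L C.f_L]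
    set d := c * n⁻¹ with hd
    have hdL : d ∈ H.L := mul_mem hcL (inv_mem hn)
    have hdu : H.ψ ⟨d, hdL⟩ * C.uf = C.uf * H.ψ ⟨d, hdL⟩ := by
      rw [mul_inv_eq_iff_eq_mul] at hcu
      rw [H.psi_mul hcL (inv_mem hn), H.psi_inv hn]
      have h4 : C.uf * C.uf * (C.uf * C.uf) = C.uf := by
        rw [← mul_assoc, C.uf_spec.1, one_mul]
      have hni : (H.ψ ⟨n, hn⟩)⁻¹ * C.uf = C.uf * C.uf * (H.ψ ⟨n, hn⟩)⁻¹ := by
        rw [inv_mul_eq_iff_eq_mul, ← mul_assoc, eq_mul_inv_iff_mul_eq, ← mul_assoc, hnu, mul_assoc, hnu]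
        rw [show C.uf * C.uf * (C.uf * C.uf * H.ψ ⟨n, hn⟩) = C.uf * C.uf * (C.uf * C.uf) * H.ψ ⟨n, hn⟩ from
          (mul_assoc _ _ _).symm, h4]
      rw [mul_assoc, hni, ← mul_assoc, ← mul_assoc (H.ψ ⟨c, hcL⟩), hcu, mul_assoc (C.uf * C.uf), hcu, ← mul_assoc,
        h4, mul_assoc]
    have hdN : d ∈ normalizer (H.J : Set G) := mul_mem (mul_mem (mul_mem hxN hnN) (inv_mem hxN)) (inv_mem hnN)
    have hxn : x * n = d * n * x := by rw [hd, hc]; group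
    have h1 := C.nact_mul hx hnB
    rw [hxn] at h1
    refine rot_of_comm A' hA'i B hB ?_
    rcases sl5_cent _ C.uf_spec.1 C.uf_spec.2 _ hdu with h | h
    · have hdS : d ∈ H.S := by
        rcases h with h | h | h
        exacts [C.mem_S_of_psi hdL (i := 0) (by rw [pow_zero]; exact h),
          C.mem_S_of_psi hdL (i := 1) (by rw [pow_one]; exact h), C.mem_S_of_psi hdL (i := 2) (by rw [sq]; exact h)]
      obtain ⟨X, hX, hXd⟩ := C.mat_of_S hdS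
      exact ⟨X, hX, Or.inl (C.nact_unique h1 (C.nact_mul (C.nact_mul hXd hnB) hx))⟩
    · have hdS : t * d ∈ H.S := by
        have hψ' : H.ψ ⟨t * d, mul_mem ht hdL⟩ = -1 * H.ψ ⟨d, hdL⟩ := by rw [H.psi_mul ht hdL, htψ]
        rcases h with h | h | h
        exacts [C.mem_S_of_psi (mul_mem ht hdL) (i := 0) (by rw [hψ', pow_zero]; exact h),
          C.mem_S_of_psi (mul_mem ht hdL) (i := 1) (by rw [hψ', pow_one]; exact h),
          C.mem_S_of_psi (mul_mem ht hdL) (i := 2) (by rw [hψ', sq]; exact h)]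
      obtain ⟨X, hX, hXd⟩ := C.mat_of_S hdS
      obtain ⟨D, hD⟩ := C.exists_act hdN
      have h2 := C.nact_mul htA hD
      have hTT : mM mT0 X = D := by
        have hXD := C.nact_unique hXd h2
        rw [hXD]
        refine C.nact_unique ?_ hD
        have h3 := C.nact_mul htA h2
        rwa [← mul_assoc, ht2, one_mul] at h3
      exact ⟨X, hX, Or.inr (by rw [hTT]; exact C.nact_unique h1 (C.nact_mul (C.nact_mul hD hnB) hx))⟩
  rcases List.mem_append.1 hA with hi | hs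
  · exact List.mem_append_left _ (key m' hmN hmz A hi hA')
  · have hp := sim_prod A hs B hB
    exact List.mem_append_right _ (hp.2 (key (n * m') (mul_mem hnN hmN)
      ((show Commute n H.z from H.L_cz hn).mul_left hmz).eq _ hp.1 (C.nact_mul hnB hA')))

/-- Some element of `C(z) ∩ N(J)` turns the middle plane by a right angle. -/
def Ext : Prop := ∃ d ∈ normalizer (H.J : Set G), d * H.z = H.z * d ∧ ActB C.ev d mR

theorem act_mI_mem {x : G} (hx : ActB C.ev x mI) : x ∈ H.J :=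
  H.J_self_cent fun a ha => by
    obtain ⟨v, hv, rfl⟩ := C.ev_surj ha
    refine mul_inv_eq_iff_eq_mul.1 ((hx.2 v hv).trans ?_)
    rw [← (C.nact_J (one_mem H.J)).2 v hv, one_mul, inv_one, mul_one]

theorem act_small {x : G} {A : ℕ} (hx : ActB C.ev x A) (hA : A = mI ∨ A = mT0) : x ∈ H.L := by
  rcases hA with rfl | rfl
  · exact H.S_le_L (H.J_le_S (C.act_mI_mem hx))
  · obtain ⟨t, ht, -, -, -, htA⟩ := C.exists_t
    have h := C.nact_mul htA hx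
    rw [iso_fC.2.2.2.2.2.1] at h
    rw [show x = t⁻¹ * (t * x) by group]
    exact mul_mem (inv_mem ht) (H.S_le_L (H.J_le_S (C.act_mI_mem h)))

theorem cent_cases {g : G} (hg : g * H.z = H.z * g) :
    g ∈ H.L ∨ (C.Ext ∧ ∀ d ∈ normalizer (H.J : Set G), d * H.z = H.z * d → ActB C.ev d mR → d * g ∈ H.L) := by
  obtain ⟨l, hl, hlS⟩ := H.exists_L_norm_S hg
  set m := l⁻¹ * g with hm
  have hmN := H.norm_J_of_norm_S hlS
  have hmz : m * H.z = H.z * m := ((show Commute l H.z from H.L_cz hl).inv_left.mul_left hg).eq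
  obtain ⟨σ, hσ, m', hm'N, hm'z, he, A, hA, hmA⟩ := C.cz_mat hmN hmz
  obtain ⟨n, hn, hnN, -, -, B, hB, hnB⟩ := C.exists_n
  obtain ⟨t, ht, -, -, htN, htA⟩ := C.exists_t
  have hgl : g = l * C.rep σ * m' := by rw [mul_assoc, ← he, hm, mul_inv_cancel_left]
  have hlr : l * C.rep σ ∈ H.L := mul_mem hl (H.S_le_L (C.rep_S hσ))
  have back : ∀ {y x : G}, y ∈ H.L → y * x ∈ H.L → x ∈ H.L := fun {y x} hy hx => by
    simpa using mul_mem (inv_mem hy) hx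
  rcases rot_ord_cases A hA B hB with h | ⟨hd, hE⟩
  · left
    have hm'L : m' ∈ H.L := by
      rcases h with h | h | h | h
      exacts [C.act_small hmA (Or.inl h), C.act_small hmA (Or.inr h),
        back hn (C.act_small (C.nact_mul hnB hmA) (Or.inl h)), back hn (C.act_small (C.nact_mul hnB hmA) (Or.inr h))]
    exact hgl ▸ mul_mem hlr hm'L
  · right
    have hnz : Commute n H.z := H.L_cz hn
    have htz : Commute t H.z := H.L_cz ht
    refine ⟨?_, fun d hdN hdz hdA => ?_⟩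
    · rcases hE with h | h | h | h
      exacts [⟨m', hm'N, hm'z, h ▸ hmA⟩, ⟨t * m', mul_mem htN hm'N, (htz.mul_left hm'z).eq, h ▸ C.nact_mul htA hmA⟩,
        ⟨n * m', mul_mem hnN hm'N, (hnz.mul_left hm'z).eq, h ▸ C.nact_mul hnB hmA⟩,
        ⟨t * (n * m'), mul_mem htN (mul_mem hnN hm'N), (htz.mul_left (hnz.mul_left hm'z)).eq,
          h ▸ C.nact_mul htA (C.nact_mul hnB hmA)⟩]
    · have hdm : d * m' ∈ H.L := by
        have h1 := C.nact_mul hdA hmA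
        rcases hd with h | h | h | h
        exacts [C.act_small h1 (Or.inl h), C.act_small h1 (Or.inr h),
          back hn (C.act_small (C.nact_mul hnB h1) (Or.inl h)), back hn (C.act_small (C.nact_mul hnB h1) (Or.inr h))]
      rw [show d * g = d * (l * C.rep σ) * d⁻¹ * (d * m') by rw [hgl]; group]
      exact mul_mem (H.conj_L_mem hdz hlr) hdm

theorem cent_eq_L (hE : ¬ C.Ext) {g : G} (hg : g * H.z = H.z * g) : g ∈ H.L :=
  (C.cent_cases hg).resolve_right fun h => hE h.1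

theorem ext_outside {d : G} (hd : ActB C.ev d mR) : d ∉ H.L := by
  intro hdL
  have e1 := hd.2 7 (by norm_num)
  rw [C.ev_basis.2.1, show ap mR 7 = 7 by decide +kernel, C.ev_basis.2.1] at e1
  have hdu : H.ψ ⟨d, hdL⟩ * C.uf = C.uf * H.ψ ⟨d, hdL⟩ := by
    rw [← mul_inv_eq_iff_eq_mul, uf, ← H.psi_conj hdL C.f_L]
    exact congrArg H.ψ (Subtype.ext e1)
  obtain ⟨t, ht, ht2, htψ, -, htA⟩ := C.exists_t
  rcases sl5_cent _ C.uf_spec.1 C.uf_spec.2 _ hdu with h | h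
  · have hdS : d ∈ H.S := by
      rcases h with h | h | h
      exacts [C.mem_S_of_psi hdL (i := 0) (by rw [pow_zero]; exact h),
        C.mem_S_of_psi hdL (i := 1) (by rw [pow_one]; exact h), C.mem_S_of_psi hdL (i := 2) (by rw [sq]; exact h)]
    obtain ⟨X, hX, hXd⟩ := C.mat_of_S hdS
    exact (rot_outside X hX).1 (C.nact_unique hd hXd)
  · have hdS : t * d ∈ H.S := by
      have hψ' : H.ψ ⟨t * d, mul_mem ht hdL⟩ = -1 * H.ψ ⟨d, hdL⟩ := by rw [H.psi_mul ht hdL, htψ]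
      rcases h with h | h | h
      exacts [C.mem_S_of_psi (mul_mem ht hdL) (i := 0) (by rw [hψ', pow_zero]; exact h),
        C.mem_S_of_psi (mul_mem ht hdL) (i := 1) (by rw [hψ', pow_one]; exact h),
        C.mem_S_of_psi (mul_mem ht hdL) (i := 2) (by rw [hψ', sq]; exact h)]
    obtain ⟨X, hX, hXd⟩ := C.mat_of_S hdS
    have h2 := C.nact_mul htA hXd
    rw [← mul_assoc, ht2, one_mul] at h2
    exact (rot_outside X hX).2 (C.nact_unique hd h2)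

/-- The matrices of `N(J)`. -/
theorem norm_mat {n : G} (hn : n ∈ normalizer (H.J : Set G)) :
    ∃ σ : A6, ∃ n' ∈ normalizer (H.J : Set G), n' * H.z = H.z * n' ∧ n = C.rep σ * n' ∧
      ∃ A ∈ rotT ++ ordT, ActB C.ev n' A := by
  obtain ⟨m, hm, hmS⟩ := H.exists_M_norm_S hn
  have hn1 := H.norm_J_of_norm_S hmS
  obtain ⟨τ, hτ⟩ : ∃ τ : A6, (C.rep τ)⁻¹ * (m⁻¹ * n) * H.z = H.z * ((C.rep τ)⁻¹ * (m⁻¹ * n)) := by
    rcases H.conj_z hmS with h | h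
    · refine ⟨1, ?_⟩
      have hr : Commute (C.rep 1) H.z := mul_inv_eq_iff_eq_mul.1 (C.cj_one H.z_J)
      exact (hr.inv_left.mul_left (mul_inv_eq_iff_eq_mul.1 h : Commute (m⁻¹ * n) H.z)).eq
    · refine ⟨ph, ?_⟩
      have hp : C.rep ph * H.z * (C.rep ph)⁻¹ = H.z ^ 2 := by
        rw [← C.ev_basis.1, C.act_gens.2.2.1.2 4 (by norm_num), ph_twice, C.ev_smul]
      rw [← mul_inv_eq_iff_eq_mul]
      calc (C.rep ph)⁻¹ * (m⁻¹ * n) * H.z * ((C.rep ph)⁻¹ * (m⁻¹ * n))⁻¹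
          = (C.rep ph)⁻¹ * (m⁻¹ * n * H.z * (m⁻¹ * n)⁻¹) * C.rep ph := by group
        _ = (C.rep ph)⁻¹ * (C.rep ph * H.z * (C.rep ph)⁻¹) * C.rep ph := by rw [h, hp]
        _ = H.z := by group
  obtain ⟨σ, hσ, n', hn'N, -, he, A, hA, hA'⟩ :=
    C.cz_mat (mul_mem (inv_mem (H.M_norm (C.rep_mem τ))) hn1) hτ
  set g := m * C.rep τ * C.rep σ with hg
  have hgM : g ∈ H.M := mul_mem (mul_mem hm (C.rep_mem τ)) (C.rep_mem σ)
  set ρ := C.θ ⟨g, hgM⟩ with hρ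
  have hj : (C.rep ρ)⁻¹ * g ∈ H.J := (C.ker ⟨_, mul_mem (inv_mem (C.rep_mem ρ)) hgM⟩).1 (by
    rw [show (⟨_, mul_mem (inv_mem (C.rep_mem ρ)) hgM⟩ : H.M) = (⟨C.rep ρ, C.rep_mem ρ⟩ : H.M)⁻¹ * ⟨g, hgM⟩ from rfl,
      map_mul, map_inv, C.θ_rep, inv_mul_cancel])
  have hn'' : n = C.rep ρ * ((C.rep ρ)⁻¹ * g * n') := by
    rw [mul_assoc _ g, mul_inv_cancel_left, hg, mul_assoc _ (C.rep σ), ← he]; group
  have hact := C.nact_mul (C.nact_J hj) hA'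
  rw [show mM mI A = A from mI_mul A hA] at hact
  refine ⟨ρ, _, mul_mem (mul_mem (inv_mem (H.M_norm (C.rep_mem ρ))) (H.M_norm hgM)) hn'N,
    C.nact_z hact ((rot_ord_fix A hA).1), hn'', A, hA, hact⟩
where
  mI_mul : ∀ A ∈ rotT ++ ordT, mM mI A = A := by decide +kernel
  rot_ord_fix : ∀ A ∈ rotT ++ ordT, ap A 4 = 4 ∧ True := by decide +kernel

end Sec

end Cfsg.Agent.Spor.McLThree
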