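import Cfsg.Agent.Lib.Spor.McLThree.Signal

/-!
The matrices fixing `z`, commuting with the central involution of the dihedral group and preserving the singular
vectors.
-/

set_option autoImplicit false
set_option maxRecDepth 100000
set_option synthInstance.maxSize 4096

namespace Cfsg.Agent.Spor.McLThree

open Cfsg.Agent.Spor.UFourType

/-- The matrices of the image of `S`. -/
def syT : List ℕ := [14408200, 14436240, 14461764, 16538694, 16565999, 16591523, 18662298, 18689603, 18715127]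

/-- The eight isometries. -/
def isoT : List ℕ := [28816156, 14467249, 28757107, 14408200, 9920476, 5137507, 9743329, 4960360]

/-- The eight similitudes changing the sign of the form. -/
def simT : List ℕ := [24151125, 33717063, 19427205, 38559081, 19545303, 38677179, 24387321, 33953259]

/-- The rotation of the middle plane. -/
def mR : ℕ := 9743329

/-- The four isometries acting on the middle plane by rotations. -/
def rotT : List ℕ := [mI, mT0, mR, mM mT0 mR]

/-- The four similitudes of order four. -/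
def ordT : List ℕ := [24387321, 38677179, 19427205, 33717063]

/-- A candidate. -/
def candP (i : ℕ) (x y : ℕ) : Bool :=
  (List.range 81).all fun v => !(sngP v) || sngP (ap (mB 4 (vA (vS (i % 3) 4) (vS (i / 3) 7)) x y) v)

/-- The search. -/
def chkCand : Bool :=
  (List.range 9).all fun i => midL.all fun x => midL.all fun y => !(candP i x y) ||
    (isoT ++ simT).any fun A => Nat.beq (mB 4 (vA (vS (i % 3) 4) (vS (i / 3) 7)) x y) A

theorem chkCand_ok : chkCand = true := by decide +kernel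

theorem plane_codes : ∀ v < 81, ap mT0 v = v → ∃ i < 9, vA (vS (i % 3) 4) (vS (i / 3) 7) = v := by decide +kernel

theorem iso_sim_ap : (∀ A ∈ isoT, ap A 7 = 7 ∧ ap A 4 = 4 ∧ mM mT0 A = mM A mT0) ∧
    (∀ A ∈ simT, ap A 7 = 5 ∧ ap A 4 = 4 ∧ mM mT0 A = mM A mT0) ∧ vS 2 7 = 5 := by decide +kernel

theorem syT_spec : syT.Nodup ∧ syT.length = 9 ∧
    (∀ A ∈ syT, A ∈ gT ∧ ap A 4 = 4) ∧ mA0 ∈ syT ∧ mB0 ∈ syT ∧ mI ∈ syT ∧
    (∀ A ∈ syT, ∀ B ∈ syT, mM A B ∈ syT) := by decide +kernel

/-- An involution of the table fixing `z` is conjugate to the central one under the image of `S`. -/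
theorem invol_fixing : ∀ A ∈ gT, ap A 4 = 4 → mM A A = mI → A ≠ mI → ∃ X ∈ syT, mM A X = mM X mT0 := by
  decide +kernel

/-- An isometry normalising the group of order four modulo the group of order eighteen rotates the middle plane. -/
theorem rot_of_comm : ∀ A ∈ isoT, ∀ B ∈ ordT, (∃ X ∈ syT, mM A B = mM (mM X B) A ∨
    mM A B = mM (mM (mM mT0 X) B) A) → A ∈ rotT := by
  decide +kernel

theorem ord_of_sq : ∀ A ∈ simT, (∃ X ∈ syT, mM A A = mM mT0 X) → A ∈ ordT := by decide +kernel

theorem sim_prod : ∀ A ∈ simT, ∀ B ∈ ordT, mM B A ∈ isoT ∧ (mM B A ∈ rotT → A ∈ ordT) := by decide +kernel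

/-- The coefficient of `f`. -/
def fC (v : ℕ) : ℕ := (2 * v0 v + v1 v) % 3

/-- The multiples of `z`. -/
def zL : List ℕ := [0, 4, vS 2 4]

theorem fC_split : ∀ v < 81, vA (vS (fC v) 7) (vA v (vS (2 * fC v) 7)) = v ∧ fC (vA v (vS (2 * fC v) 7)) = 0 := by
  decide +kernel

theorem invol_shape : ∀ X ∈ syT, ∀ A ∈ isoT ++ simT, fC (ap (mM X A) 7) = 1 → vA 18 (ap (mM X A) 18) ∈ zL →
    vA 54 (ap (mM X A) 54) ∈ zL → A = mT0 := by
  decide +kernel

theorem iso_fC : (∀ A ∈ isoT, fC (ap A 7) = 1) ∧ mR ∈ rotT ∧ mR ∈ isoT ∧ mT0 ∈ rotT ∧ ap mT0 4 = 4 ∧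
    mM mT0 mT0 = mI ∧ mM mR mR = mT0 ∧ mI ≠ mT0 := by
  decide +kernel

theorem fix_shape : ∀ A ∈ isoT ++ simT ++ syT, ap A 4 = 4 ∧ A < 43046721 := by decide +kernel

theorem syT_words : ∀ i k : Fin 3, mM (List.getD [mI, mA0, mM mA0 mA0] i mI) (List.getD [mI, mB0, mM mB0 mB0] k mI) ∈
    syT := by
  decide +kernel

theorem syT_cases : ∀ X ∈ syT, ∃ i k : Fin 3,
    mM (List.getD [mI, mA0, mM mA0 mA0] i mI) (List.getD [mI, mB0, mM mB0 mB0] k mI) = X := by
  decide +kernel

theorem gT_sng : ∀ A ∈ gT, sngP (ap A 4) = true ∧ sngP (ap A (vS 2 4)) = true := by decide +kernel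

theorem ph_twice : ap mH0 4 = vS 2 4 := by decide +kernel

/-- A matrix is in the group generated by `t` and the element of order four, up to the rotation of order four. -/
theorem rot_ord_cases : ∀ A ∈ rotT ++ ordT, ∀ B ∈ ordT, (A = mI ∨ A = mT0 ∨ mM B A = mI ∨ mM B A = mT0) ∨
    ((mM mR A = mI ∨ mM mR A = mT0 ∨ mM B (mM mR A) = mI ∨ mM B (mM mR A) = mT0) ∧
      (A = mR ∨ mM mT0 A = mR ∨ mM B A = mR ∨ mM mT0 (mM B A) = mR)) := by
  decide +kernel

/-- The rotation of order four is not in the image of `S⟨t⟩`. -/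
theorem rot_outside : ∀ X ∈ syT, mR ≠ X ∧ mR ≠ mM mT0 X := by decide +kernel

end Cfsg.Agent.Spor.McLThree
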