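import Cfsg.Agent.Lib.Spor.McLThree.Unique
import Cfsg.Agent.Lib.Spor.McLThree.ASix

/-!
Coordinates `θ` on `M / J` carrying `S` to the elements `(012)ⁱ(345)ᵏ`, and the action of the permutations on `J`.
-/

set_option autoImplicit false
set_option maxRecDepth 100000
set_option synthInstance.maxSize 4096
set_option linter.unusedSectionVars false

namespace Cfsg.Agent.Spor.McLThree

open Subgroup

universe u

/-- The products of powers of `(012)` and `(345)`. -/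
def Sy : Subgroup A6 where
  carrier := {x | ∃ i k : Fin 3, x = pa ^ (i : ℕ) * pb ^ (k : ℕ)}
  one_mem' := ⟨0, 0, by simp⟩
  mul_mem' := by
    rintro _ _ ⟨i, k, rfl⟩ ⟨i', k', rfl⟩
    revert i k i' k'
    decide +kernel
  inv_mem' := by
    rintro _ ⟨i, k, rfl⟩
    revert i k
    decide +kernel

theorem pa_mem_Sy : pa ∈ Sy := ⟨1, 0, by simp⟩

theorem pb_mem_Sy : pb ∈ Sy := ⟨0, 1, by simp⟩

theorem sy_inj : ∀ i k i' k' : Fin 3, pa ^ (i : ℕ) * pb ^ (k : ℕ) = pa ^ (i' : ℕ) * pb ^ (k' : ℕ) → i = i' ∧ k = k' := by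
  decide +kernel

theorem card_Sy : Nat.card Sy = 9 := by
  let f : Fin 3 × Fin 3 → Sy := fun p => ⟨pa ^ (p.1 : ℕ) * pb ^ (p.2 : ℕ), p.1, p.2, rfl⟩
  rw [← Nat.card_eq_of_bijective f ⟨fun p q h => Prod.ext (sy_inj _ _ _ _ (congrArg Subtype.val h)).1
    (sy_inj _ _ _ _ (congrArg Subtype.val h)).2, fun x => ?_⟩]
  · simp
  · obtain ⟨i, k, hx⟩ := x.2
    exact ⟨(i, k), Subtype.ext hx.symm⟩

variable {G : Type u} [Group G] [Finite G]

/-- Coordinates on the quotient `M / J`. -/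
structure Sec (H : Hyp G) where
  θ : H.M →* A6
  surj : Function.Surjective θ
  ker : ∀ g : H.M, θ g = 1 ↔ (g : G) ∈ H.J
  sylow : ∀ g : H.M, (g : G) ∈ H.S ↔ θ g ∈ Sy

theorem Hyp.mem_M (H : Hyp G) {g : G} (hg : g ∈ normalizer (H.J : Set G)) {k : ℕ} (h : g ^ 3 ^ k = 1) : g ∈ H.M :=
  H.M_def ▸ subset_closure ⟨hg, k, h⟩

theorem Hyp.S_le_M (H : Hyp G) : H.S ≤ H.M := fun s hs => by
  obtain ⟨k, hk⟩ := H.S_isPGroup ⟨s, hs⟩
  exact H.mem_M (H.S_norm_J hs) (k := k) (by simpa using congrArg Subtype.val hk)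

theorem Hyp.J_le_M (H : Hyp G) : H.J ≤ H.M := H.J_le_S.trans H.S_le_M

theorem Hyp.M_norm (H : Hyp G) : H.M ≤ normalizer (H.J : Set G) := by
  rw [H.M_def, closure_le]
  exact fun x hx => hx.1

theorem Hyp.exists_sec (H : Hyp G) : Nonempty (Sec H) := by
  haveI : Fact (Nat.Prime 3) := ⟨Nat.prime_three⟩
  set SM : Subgroup H.M := H.S.subgroupOf H.M
  set P : Subgroup A6 := SM.map H.φ
  have hP : Nat.card P = 9 := by
    set f : SM →* A6 := H.φ.comp SM.subtype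
    have hr : f.range = P := by rw [MonoidHom.range_comp, range_subtype]
    have h1 := f.ker.card_mul_index
    rw [index_ker, hr] at h1
    have hker : Nat.card f.ker = 81 := by
      rw [← H.J_card]
      refine Nat.card_congr
        { toFun := fun x => ⟨((x.1 : H.M) : G), (H.φ_ker _).1 (MonoidHom.mem_ker.1 x.2)⟩
          invFun := fun a => ⟨⟨⟨a.1, H.J_le_M a.2⟩, mem_subgroupOf.2 (H.J_le_S a.2)⟩,
            MonoidHom.mem_ker.2 ((H.φ_ker _).2 a.2)⟩
          left_inv := fun _ => rfl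
          right_inv := fun _ => rfl }
    rw [hker, Nat.card_congr (subgroupOfEquivOfLe H.S_le_M).toEquiv, H.S_card] at h1
    omega
  have h360 : 3 ^ (Nat.card A6).factorization 3 = 9 := by
    have e : (360 : ℕ).factorization 3 = 2 := by
      rw [show (360 : ℕ) = 3 ^ 2 * 40 by norm_num, Nat.factorization_mul (by norm_num) (by norm_num),
        Nat.prime_three.factorization_pow]
      simp [Nat.factorization_eq_zero_of_not_dvd (show ¬ 3 ∣ 40 by norm_num)]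
    rw [card_A6, e]
    norm_num
  let P' : Sylow 3 A6 := Sylow.ofCard P (by rw [hP, h360])
  let Q' : Sylow 3 A6 := Sylow.ofCard Sy (by rw [card_Sy, h360])
  obtain ⟨c, hc⟩ := MulAction.exists_smul_eq A6 P' Q'
  have hc' : P.map (MulAut.conj c).toMonoidHom = Sy := by
    have := congrArg (fun R : Sylow 3 A6 => (R : Subgroup A6)) hc
    rw [Sylow.coe_subgroup_smul] at this
    exact this
  refine ⟨⟨(MulAut.conj c).toMonoidHom.comp H.φ, (MulAut.conj c).surjective.comp H.φ_surj, fun g => ?_, fun g => ?_⟩⟩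
  · rw [← H.φ_ker]
    exact ⟨fun h => (MulAut.conj c).injective (h.trans (map_one _).symm), fun h => by simp [h]⟩
  · rw [← hc']
    constructor
    · exact fun hg => ⟨H.φ g, ⟨g, mem_subgroupOf.2 hg, rfl⟩, rfl⟩
    · rintro ⟨x, ⟨s, hs, rfl⟩, hx⟩
      have he : H.φ s = H.φ g := (MulAut.conj c).injective hx
      have hk : ((s⁻¹ * g : H.M) : G) ∈ H.J := (H.φ_ker _).1 (by rw [map_mul, map_inv, he, inv_mul_cancel])
      have := mul_mem (mem_subgroupOf.1 hs) (H.J_le_S hk)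
      simpa using this

namespace Sec

variable {H : Hyp G} (C : Sec H)

/-- A lift of a permutation. -/
noncomputable def rep (σ : A6) : G := ((C.surj σ).choose : H.M)

theorem rep_mem (σ : A6) : C.rep σ ∈ H.M := ((C.surj σ).choose).2

theorem θ_rep (σ : A6) : C.θ ⟨C.rep σ, C.rep_mem σ⟩ = σ := (C.surj σ).choose_spec

/-- The action of a permutation on an element. -/
noncomputable def cj (σ : A6) (x : G) : G := C.rep σ * x * (C.rep σ)⁻¹

theorem cj_eq {g : G} (hg : g ∈ H.M) {x : G} (hx : x ∈ H.J) : C.cj (C.θ ⟨g, hg⟩) x = g * x * g⁻¹ := by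
  set r := C.rep (C.θ ⟨g, hg⟩) with hr
  have hj : r⁻¹ * g ∈ H.J := (C.ker ⟨_, mul_mem (inv_mem (C.rep_mem _)) hg⟩).1 (by
    rw [show (⟨r⁻¹ * g, mul_mem (inv_mem (C.rep_mem _)) hg⟩ : H.M) = (⟨r, C.rep_mem _⟩ : H.M)⁻¹ * ⟨g, hg⟩ from rfl,
      map_mul, map_inv, C.θ_rep, inv_mul_cancel])
  have hc := H.J_comm _ hj x hx
  calc r * x * r⁻¹ = r * (r⁻¹ * g * x * (r⁻¹ * g)⁻¹) * r⁻¹ := by rw [hc, mul_inv_cancel_right]
    _ = g * x * g⁻¹ := by group

theorem cj_mem (σ : A6) {x : G} (hx : x ∈ H.J) : C.cj σ x ∈ H.J :=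
  ((mem_normalizer_iff.1 (H.M_norm (C.rep_mem σ))) x).1 hx

theorem cj_comp (σ τ : A6) {x : G} (hx : x ∈ H.J) : C.cj σ (C.cj τ x) = C.cj (σ * τ) x := by
  have h := C.cj_eq (mul_mem (C.rep_mem σ) (C.rep_mem τ)) hx
  rw [show (⟨_, mul_mem (C.rep_mem σ) (C.rep_mem τ)⟩ : H.M) = ⟨_, C.rep_mem σ⟩ * ⟨_, C.rep_mem τ⟩ from rfl, map_mul,
    C.θ_rep, C.θ_rep] at h
  rw [h]
  unfold cj
  group

theorem cj_one {x : G} (hx : x ∈ H.J) : C.cj 1 x = x := by
  have h := C.cj_eq (one_mem _) hx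
  rw [show (⟨1, one_mem _⟩ : H.M) = 1 from rfl, map_one] at h
  rw [h]; group

theorem cj_mul (σ : A6) (x y : G) : C.cj σ (x * y) = C.cj σ x * C.cj σ y := by unfold cj; group

theorem cj_inv (σ : A6) (x : G) : C.cj σ x⁻¹ = (C.cj σ x)⁻¹ := by unfold cj; group

theorem cj_pow (σ : A6) (x : G) (n : ℕ) : C.cj σ (x ^ n) = C.cj σ x ^ n := by unfold cj; rw [conj_pow]

theorem cj_inv_cancel (σ : A6) {x : G} (hx : x ∈ H.J) : C.cj σ⁻¹ (C.cj σ x) = x := by
  rw [C.cj_comp _ _ hx, inv_mul_cancel, C.cj_one hx]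

theorem cj_injective (σ : A6) : Function.Injective (C.cj σ) := fun _ _ h =>
  mul_left_cancel (mul_right_cancel h)

theorem rep_S {σ : A6} (hσ : σ ∈ Sy) : C.rep σ ∈ H.S :=
  (C.sylow ⟨_, C.rep_mem σ⟩).2 (by rw [C.θ_rep]; exact hσ)

/-- An element of `J` fixed by `(012)` and `(345)` is a power of `z`. -/
theorem fixed_line {x : G} (hx : x ∈ H.J) (ha : C.cj pa x = x) (hb : C.cj pb x = x) : x ∈ zpowers H.z := by
  refine H.center_S (H.J_le_S hx) fun s hs => ?_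
  obtain ⟨i, k, hik⟩ := (C.sylow ⟨s, H.S_le_M hs⟩).1 hs
  have hpow : ∀ (σ : A6), C.cj σ x = x → ∀ n : ℕ, C.cj (σ ^ n) x = x := by
    intro σ hσ n
    induction n with
    | zero => rw [pow_zero, C.cj_one hx]
    | succ n ih => rw [pow_succ, ← C.cj_comp _ _ hx, hσ, ih]
  have h := C.cj_eq (H.S_le_M hs) hx
  rw [hik, ← C.cj_comp _ _ hx, hpow pb hb, hpow pa ha] at h
  exact (eq_mul_inv_iff_mul_eq.1 h).symm ▸ rfl

theorem cj_Sy_z {σ : A6} (hσ : σ ∈ Sy) : C.cj σ H.z = H.z := by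
  unfold cj
  rw [H.S_cz _ (C.rep_S hσ), mul_inv_cancel_right]

end Sec

end Cfsg.Agent.Spor.McLThree
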