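import Cfsg.Agent.Lib.Spor.McLThree.Table
import Cfsg.Agent.Lib.Grp.CoprimeAbelian

/-!
`J` normalises no nontrivial subgroup of order prime to three: every hyperplane of `J` contains a conjugate of `z`.
-/

set_option autoImplicit false
set_option maxRecDepth 100000
set_option synthInstance.maxSize 4096
set_option linter.unusedSectionVars false

namespace Cfsg.Agent.Spor.McLThree

open Subgroup Cfsg.Agent.Spor.UFourType

universe u

/-- The span of two vectors, without zero. -/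
def span2 (x y : ℕ) : List ℕ :=
  [x, y, vA x y, vA x (vS 2 y), vS 2 x, vS 2 y, vA (vS 2 x) y, vA (vS 2 x) (vS 2 y)]

/-- A nonzero singular vector. -/
def sngP (v : ℕ) : Bool := !(Nat.beq v 0) && Nat.beq (qB v v) 0

/-- The span of three vectors contains a singular one. -/
def hitP (d g k : ℕ) : Bool :=
  (List.range 27).any fun i => sngP (vA (vA (vS (i % 3) d) (vS (i / 3 % 3) g)) (vS (i / 9) k))

/-- The pairs tried as a complement. -/
def compPairs : List (ℕ × ℕ) := [(4, 7), (18, 54), (4, 18), (7, 54), (4, 54), (7, 18)]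

/-- The covering of the hyperplanes. -/
def chkSig : Bool :=
  (span2 18 54).all fun d => (span2 4 7).all fun g => compPairs.any fun p => (span2 p.1 p.2).all fun k => hitP d g k

theorem chkSig_ok : chkSig = true := by decide +kernel

theorem sng_orbit : ∀ v < 81, sngP v = true → ∃ A ∈ gT, ap A 4 = v := by decide +kernel

theorem span2_nz : ∀ p ∈ compPairs ++ [(18, 54), (4, 7)], (span2 p.1 p.2).length = 8 ∧ (span2 p.1 p.2).Nodup ∧
    ∀ v ∈ span2 p.1 p.2, v ≠ 0 ∧ v < 81 := by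
  decide +kernel

variable {G : Type u} [Group G] [Finite G] {H : Hyp G}

theorem Hyp.sig_z (H : Hyp G) {W : Subgroup G} (h3 : (Nat.card W).Coprime 3)
    (hJ : ∀ j ∈ H.J, ∀ w ∈ W, j * w * j⁻¹ ∈ W) (hz : ∀ w ∈ W, w * H.z = H.z * w) : W = ⊥ := by
  haveI : Fact (Nat.Prime 3) := ⟨Nat.prime_three⟩
  have hWQ : ∀ x, x ∈ W → x ∈ H.Q → x = 1 := fun x hx hxQ => by
    have h1 := Subgroup.orderOf_dvd_natCard _ hx
    have h2 : orderOf x ∣ 3 := orderOf_dvd_of_pow_eq_one (H.Q_cube x hxQ)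
    exact orderOf_eq_one_iff.1 (Nat.eq_one_of_dvd_coprimes h3 h1 h2)
  refine (Subgroup.eq_bot_iff_forall _).2 fun w hw => ?_
  have hcomm : ∀ a ∈ H.J ⊓ H.Q, w * a = a * w := by
    intro a ha
    have h1 : w * a * w⁻¹ * a⁻¹ ∈ W := by
      have := mul_mem hw (hJ a ha.1 w⁻¹ (inv_mem hw))
      rwa [show w * (a * w⁻¹ * a⁻¹) = w * a * w⁻¹ * a⁻¹ by group] at this
    have h2 : w * a * w⁻¹ * a⁻¹ ∈ H.Q := mul_mem (H.norm_Q w (hz w hw) a ha.2) (inv_mem ha.2)
    exact mul_inv_eq_iff_eq_mul.1 (mul_inv_eq_one.1 (hWQ _ h1 h2))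
  have h3' := hWQ _ (pow_mem hw 3) (H.cube_mem_Q hcomm)
  exact orderOf_eq_one_iff.1 (Nat.eq_one_of_dvd_coprimes h3 (Subgroup.orderOf_dvd_natCard _ hw)
    (orderOf_dvd_of_pow_eq_one h3'))

namespace Sec

variable (C : Sec H)

theorem sig_sng {W : Subgroup G} (h3 : (Nat.card W).Coprime 3)
    (hJ : ∀ j ∈ H.J, ∀ w ∈ W, j * w * j⁻¹ ∈ W) {v : ℕ} (hs : sngP v = true) (hv : v < 81)
    (hc : ∀ w ∈ W, w * C.ev v = C.ev v * w) : W = ⊥ := by
  obtain ⟨A, hA, hA4⟩ := sng_orbit v hv hs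
  obtain ⟨σ, rfl⟩ := C.mat_surj hA
  set r := C.rep σ
  have hrv : r * H.z * r⁻¹ = C.ev v := by
    rw [← C.ev_basis.1, ← hA4]
    exact (C.mat_act σ).2 4 (by norm_num)
  have hW' : W.map (MulAut.conj r⁻¹).toMonoidHom = ⊥ := by
    refine H.sig_z (by rwa [card_map_of_injective (MulAut.conj r⁻¹).injective]) ?_ ?_
    · rintro j hj _ ⟨w, hw, rfl⟩
      have hj' : r * j * r⁻¹ ∈ H.J := (mem_normalizer_iff.1 (H.M_norm (C.rep_mem σ)) j).1 hj
      exact ⟨_, hJ _ hj' w hw, by simp [mul_assoc]⟩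
    · rintro _ ⟨w, hw, rfl⟩
      have h := hc w hw
      rw [← hrv] at h
      simp only [MulEquiv.coe_toMonoidHom, MulAut.conj_apply, inv_inv]
      calc r⁻¹ * w * r * H.z = r⁻¹ * (w * (r * H.z * r⁻¹)) * r := by group
        _ = _ := by rw [h]; group
  exact (map_eq_bot_iff_of_injective _ (MulAut.conj r⁻¹).injective).1 hW'

/-- One step of the descent. -/
theorem sig_step {W : Subgroup G} (h3 : (Nat.card W).Coprime 3) (hJ : ∀ j ∈ H.J, ∀ w ∈ W, j * w * j⁻¹ ∈ W)
    {p : ℕ × ℕ} (hp : p ∈ compPairs ++ [(18, 54), (4, 7)])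
    (hk : ∀ k ∈ span2 p.1 p.2, ∀ W' : Subgroup G, W' ≤ W → (Nat.card W').Coprime 3 →
      (∀ j ∈ H.J, ∀ w ∈ W', j * w * j⁻¹ ∈ W') → (∀ w ∈ W', w * C.ev k = C.ev k * w) → W' = ⊥) : W = ⊥ := by
  haveI : Fact (Nat.Prime 3) := ⟨Nat.prime_three⟩
  obtain ⟨hlen, hnd, hnz⟩ := span2_nz p hp
  let A : Subgroup G := closure {C.ev p.1, C.ev p.2}
  have hAJ : A ≤ H.J := (closure_le _).2 (by rintro _ (rfl | rfl) <;> exact C.ev_J _)
  haveI : IsMulCommutative A := ⟨⟨fun a b => Subtype.ext (H.J_comm _ (hAJ a.2) _ (hAJ b.2))⟩⟩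
  have hx : C.ev p.1 ∈ A := subset_closure (Or.inl rfl)
  have hy : C.ev p.2 ∈ A := subset_closure (Or.inr rfl)
  have hmem : ∀ k ∈ span2 p.1 p.2, C.ev k ∈ A := by
    intro k hk'
    simp only [span2, List.mem_cons, List.not_mem_nil, or_false] at hk'
    rcases hk' with rfl | rfl | rfl | rfl | rfl | rfl | rfl | rfl <;> (try simp only [C.ev_add, C.ev_smul])
    exacts [hx, hy, mul_mem hx hy, mul_mem hx (pow_mem hy 2), pow_mem hx 2, pow_mem hy 2,
      mul_mem (pow_mem hx 2) hy, mul_mem (pow_mem hx 2) (pow_mem hy 2)]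
  -- `A` consists of the eight elements and one
  classical
  have hAsub : ∀ a ∈ A, a = 1 ∨ ∃ k ∈ span2 p.1 p.2, a = C.ev k := by
    have hcA : Nat.card A ≤ 9 := by
      let f : Fin 3 × Fin 3 → G := fun i => C.ev p.1 ^ (i.1 : ℕ) * C.ev p.2 ^ (i.2 : ℕ)
      have hA : (A : Set G) ⊆ Set.range f := by
        let B : Subgroup G :=
          { carrier := {g | ∃ i k : ℕ, g = C.ev p.1 ^ i * C.ev p.2 ^ k}
            one_mem' := ⟨0, 0, by simp⟩
            mul_mem' := by
              rintro _ _ ⟨i, k, rfl⟩ ⟨i', k', rfl⟩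
              refine ⟨i + i', k + k', ?_⟩
              have hc : Commute (C.ev p.2 ^ k) (C.ev p.1 ^ i') :=
                (show Commute (C.ev p.2) (C.ev p.1) from H.J_comm _ (C.ev_J _) _ (C.ev_J _)).pow_pow _ _
              rw [pow_add, pow_add, mul_assoc, ← mul_assoc (C.ev p.2 ^ k), hc.eq]; group
            inv_mem' := by
              rintro _ ⟨i, k, rfl⟩
              refine ⟨2 * i, 2 * k, ?_⟩
              have hc : Commute (C.ev p.1 ^ i) (C.ev p.2 ^ k) :=
                (show Commute (C.ev p.1) (C.ev p.2) from H.J_comm _ (C.ev_J _) _ (C.ev_J _)).pow_pow _ _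
              refine inv_eq_of_mul_eq_one_right ?_
              rw [mul_comm 2 i, mul_comm 2 k, pow_mul, pow_mul, ← hc.mul_pow, ← pow_succ']
              exact H.J_cube _ (mul_mem (pow_mem (C.ev_J _) _) (pow_mem (C.ev_J _) _)) }
        intro a ha
        obtain ⟨i, k, rfl⟩ : a ∈ B := (closure_le _).2 (by
          rintro _ (rfl | rfl)
          · exact ⟨1, 0, by simp⟩
          · exact ⟨0, 1, by simp⟩) ha
        exact ⟨(⟨i % 3, Nat.mod_lt _ (by norm_num)⟩, ⟨k % 3, Nat.mod_lt _ (by norm_num)⟩), by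
          simp only [f]; rw [← pow_eq_pow_mod _ (H.J_cube _ (C.ev_J _)), ← pow_eq_pow_mod _ (H.J_cube _ (C.ev_J _))]⟩
      have h1 := Set.ncard_le_ncard hA (Set.finite_range f)
      rw [← Nat.card_coe_set_eq, ← Nat.card_coe_set_eq] at h1
      exact h1.trans ((Finite.card_range_le f).trans (by simp))
    let T : Finset G := insert 1 ((span2 p.1 p.2).toFinset.image C.ev)
    have hTc : T.card = 9 := by
      rw [Finset.card_insert_of_notMem, Finset.card_image_of_injOn, List.toFinset_card_of_nodup hnd, hlen]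
      · intro u hu v hv h
        exact C.ev_inj (hnz u (List.mem_toFinset.1 hu)).2 (hnz v (List.mem_toFinset.1 hv)).2 h
      · simp only [Finset.mem_image, List.mem_toFinset, not_exists, not_and]
        exact fun k hk' e => (hnz k hk').1 (C.ev_eq_one (hnz k hk').2 e)
    have hTA : (T : Set G) ⊆ (A : Set G) := fun a ha => by
      simp only [T, Finset.coe_insert, Finset.coe_image, Set.mem_insert_iff, Set.mem_image, List.coe_toFinset] at ha
      rcases ha with rfl | ⟨k, hk', rfl⟩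
      exacts [one_mem A, hmem k hk']
    have heq : (T : Set G) = (A : Set G) := Set.eq_of_subset_of_ncard_le hTA
      (by rw [Set.ncard_coe_finset, hTc, ← Nat.card_coe_set_eq]; exact hcA)
    intro a ha
    have ha' : a ∈ (T : Set G) := heq.symm ▸ ha
    simp only [T, Finset.coe_insert, Finset.coe_image, Set.mem_insert_iff, Set.mem_image, List.coe_toFinset] at ha'
    rcases ha' with rfl | ⟨k, hk', rfl⟩
    exacts [Or.inl rfl, Or.inr ⟨k, hk', rfl⟩]
  have hnc : ¬ IsCyclic A := by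
    intro hcy
    obtain ⟨a, ha⟩ := hcy.exists_generator
    have h8 : Nat.card A ≤ 3 := by
      rw [← orderOf_eq_card_of_forall_mem_zpowers ha]
      exact orderOf_le_of_pow_eq_one (by norm_num) (Subtype.ext (H.J_cube _ (hAJ a.2)))
    have h4 : 4 ≤ Nat.card A := by
      have hinj : Function.Injective (fun k : {k // k ∈ span2 p.1 p.2} => (⟨C.ev k, hmem k k.2⟩ : A)) :=
        fun u v h => Subtype.ext (C.ev_inj (hnz u u.2).2 (hnz v v.2).2 (congrArg Subtype.val h :))
      have := Nat.card_le_card_of_injective _ hinj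
      rw [Nat.card_congr (Equiv.subtypeEquivRight fun k => (List.mem_toFinset (l := span2 p.1 p.2)).symm),
        Nat.card_eq_finsetCard, List.toFinset_card_of_nodup hnd, hlen] at this
      omega
    omega
  have hAN : A ≤ normalizer (W : Set G) := fun a ha => Subgroup.mem_normalizer_fintype fun w hw => hJ a (hAJ ha) w hw
  have hcop : (Nat.card A).Coprime (Nat.card W) := by
    obtain ⟨n, hn⟩ := (IsPGroup.iff_card (p := 3)).1
      (fun a : A => ⟨1, Subtype.ext (by simpa using H.J_cube _ (hAJ a.2))⟩ : IsPGroup 3 A)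
    rw [hn]
    exact Nat.Coprime.pow_left n h3.symm
  rw [← Cfsg.Agent.Grp.generated_by_centralizers A W hnc hAN hcop, eq_bot_iff]
  refine iSup₂_le fun a ha => ?_
  rcases hAsub a ha.1 with h | ⟨k, hk', rfl⟩
  · exact absurd h ha.2
  refine le_of_eq (hk k hk' _ inf_le_left ?_ ?_ fun w hw => mem_centralizer_singleton_iff.1 hw.2)
  · exact h3.coprime_dvd_left (card_dvd_of_le inf_le_left)
  · rintro j hj w ⟨hw, hw'⟩
    refine ⟨hJ j hj w hw, mem_centralizer_singleton_iff.2 ?_⟩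
    have h1 := mem_centralizer_singleton_iff.1 hw'
    have h2 : Commute j (C.ev k) := H.J_comm j hj _ (C.ev_J k)
    exact (((h2.mul_left h1).mul_left h2.inv_left)).eq

include C in
/-- `J` normalises no nontrivial subgroup of order prime to three. -/
theorem sig {W : Subgroup G} (h3 : (Nat.card W).Coprime 3) (hJ : ∀ j ∈ H.J, ∀ w ∈ W, j * w * j⁻¹ ∈ W) :
    W = ⊥ := by
  refine C.sig_step h3 hJ (p := (18, 54)) (by simp) fun d hd W₁ _ h₁ hJ₁ hc₁ => ?_
  refine C.sig_step h₁ hJ₁ (p := (4, 7)) (by simp) fun g hg W₂ hle₂ h₂ hJ₂ hc₂ => ?_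
  have h := chkSig_ok
  simp only [chkSig, List.all_eq_true, List.any_eq_true] at h
  obtain ⟨p, hp, hk⟩ := h d hd g hg
  refine C.sig_step h₂ hJ₂ (p := p) (List.mem_append_left _ hp) fun k hk' W₃ hle₃ h₃ hJ₃ hc₃ => ?_
  have hh := hk k hk'
  simp only [hitP, List.any_eq_true, List.mem_range] at hh
  obtain ⟨i, hi, hs⟩ := hh
  refine C.sig_sng h₃ hJ₃ hs (vA_lt _ _) fun w hw => ?_
  rw [C.ev_add, C.ev_add, C.ev_smul, C.ev_smul, C.ev_smul]
  have e1 : Commute w (C.ev d) := hc₁ w (hle₂ (hle₃ hw))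
  have e2 : Commute w (C.ev g) := hc₂ w (hle₃ hw)
  have e3 : Commute w (C.ev k) := hc₃ w hw
  exact (((e1.pow_right _).mul_right (e2.pow_right _)).mul_right (e3.pow_right _)).eq

end Sec

end Cfsg.Agent.Spor.McLThree
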