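import Cfsg.Agent.Lib.Spor.McLThree.NormModel

/-!
The matrices of the elements of `N(J)` commuting with the central involution.
-/

set_option autoImplicit false
set_option maxRecDepth 100000
set_option synthInstance.maxSize 4096

namespace Cfsg.Agent.Spor.McLThree

open Cfsg.Agent.Spor.UFourType

/-- The matrices from `L`: the group of order four. -/
def lB (B : ℕ) : List ℕ := [mI, mT0, B, mM mT0 B]

/-- The sixteen matrices. -/
def tA (B : ℕ) : List ℕ :=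
  (lB B).flatMap fun a => [mI, mH0].flatMap fun b => [mI, mW0].map fun c => mM (mM a b) c

/-- The thirty-two matrices. -/
def tE (B : ℕ) : List ℕ := tA B ++ (tA B).map (mM mR)

/-- The code of `z f`. -/
def cY : ℕ := vA 4 7

theorem lB_spec : ∀ B ∈ ordT, ∀ A ∈ rotT ++ ordT, (A = mI ∨ A = mT0 ∨ mM B A = mI ∨ mM B A = mT0) → A ∈ lB B := by
  decide +kernel

theorem tA_complete : ∀ B ∈ ordT, ∀ g ∈ gT, ∀ a ∈ lB B, mM (mM g a) mT0 = mM mT0 (mM g a) → mM g a ∈ tA B := by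
  decide +kernel

theorem tE_complete : ∀ B ∈ ordT, ∀ g ∈ gT, ∀ a ∈ rotT ++ ordT, mM (mM g a) mT0 = mM mT0 (mM g a) → mM g a ∈ tE B := by
  decide +kernel

theorem tE_pow : ∀ B ∈ ordT, ∀ M ∈ tE B,
    mM (mM (mM M M) (mM M M)) (mM (mM M M) (mM M M)) ∈ [mI, mT0] ∧ mM M mT0 = mM mT0 M ∧ M < 43046721 ∧
      ap M cY < 81 ∧ (ap M 4 ∈ [4, 8, 7, 5]) ∧ (ap M 7 ∈ [4, 8, 7, 5]) := by
  decide +kernel

theorem tA_fix : ∀ B ∈ ordT, (∀ M ∈ tA B, ap M 4 = 4 → ap M 7 = 7 → M = mI ∨ M = mT0) ∧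
    (∀ M ∈ tE B, ap M 4 = 4 → ap M 7 = 7 → M ∈ rotT) ∧
    (∀ M ∈ tE B, ap M cY = cY → mM M M = mI ∨ mM M M = mT0) ∧
    (∀ M ∈ tE B, ap M cY = vS 2 cY → mM M M = mI ∨ mM M M = mT0) := by
  decide +kernel

theorem tY_facts : sngP cY = false ∧ cY ≠ 0 ∧ cY < 81 ∧ ap mW0 cY = cY ∧ ap mH0 cY = vS 2 cY ∧ ap mR cY = cY ∧
    mW0 ≠ mI ∧ mW0 ≠ mT0 := by
  decide +kernel

/-- The elements over the group of order eight in the two cases. -/
theorem t_rels : ∀ B ∈ ordT,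
    mM mW0 mW0 = mI ∧ (mM B B = mT0) ∧
    (mM (mM mW0 B) (mM mW0 B) ∈ [mH0, mM mT0 mH0]) ∧ mM mH0 mH0 = mT0 ∧
    (mM (mM mW0 (mM mW0 B)) mW0 = mM B mW0) ∧
    (mM (mM B mW0) (mM mW0 B) = mT0) ∧
    (mM mR B = mM (mM mT0 B) mR) ∧ (mM mR mW0 = mM mW0 mR ∨ mM mR mW0 = mM (mM mT0 mW0) mR) ∧
    (ap B 4 = 4 ∧ ap B 7 = 5 ∧ ap mR 4 = 4 ∧ ap mR 7 = 7 ∧ ap mH0 4 = 8 ∧ ap mH0 7 = 5 ∧ ap mW0 4 = 7 ∧ ap mW0 7 = 4) := by
  decide +kernel

/-- No product of `h` with an element inverting `f` commutes with the element of order four. -/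
theorem outer_twist : ∀ B ∈ ordT, ∀ M ∈ tA B, ap M 4 = 8 → ap M 7 = 7 → mM M B ≠ mM B M := by
  decide +kernel

theorem rot_twist : ∀ B ∈ ordT, ∀ A ∈ rotT, mM A B = mM B A → A = mI ∨ A = mT0 := by decide +kernel

/-- The two groups `SL₂(5)` do not commute. -/
theorem pair_twist : ∀ B ∈ ordT, mM (mM (mM mW0 B) mW0) B ≠ mM B (mM (mM mW0 B) mW0) := by decide +kernel

theorem plane_fixed : ∀ v < 81, ap mT0 v = v → ∃ i < 3, ∃ j < 3, v = vA (vS i 4) (vS j 7) := by decide +kernel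

end Cfsg.Agent.Spor.McLThree
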