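import Cfsg.Agent.Lib.Spor.McLThree.CentX
import Cfsg.Agent.Lib.Spor.McLThree.TModel

/-!
The centralizer of the involution: the plane it fixes in `J` is a Sylow three-subgroup, and the normalizer of that
plane normalises `J`.
-/

set_option autoImplicit false
set_option maxRecDepth 100000
set_option synthInstance.maxSize 4096
set_option linter.unusedSectionVars false

namespace Cfsg.Agent.Spor.McLThree

open Subgroup Cfsg.Agent.Spor.UFourType

universe u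

variable {G : Type u} [Group G] [Finite G] {H : Hyp G}

/-- The involution with an element of order four of `L` commuting with it. -/
structure Tt (C : Sec H) where
  t : G
  n : G
  B : ℕ
  t_L : t ∈ H.L
  t_sq : t * t = 1
  t_psi : H.ψ ⟨t, t_L⟩ = -1
  t_N : t ∈ normalizer (H.J : Set G)
  t_act : ActB C.ev t mT0
  B_mem : B ∈ ordT
  n_L : n ∈ H.L
  n_N : n ∈ normalizer (H.J : Set G)
  n_t : n * t = t * n
  n_act : ActB C.ev n B

theorem conj_inverted {K : Type*} [Group K] {t a : K} (h : t * a * t⁻¹ = a⁻¹) (h3 : a ^ 3 = 1) :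
    a * t * a⁻¹ = t * a := by
  have h1 : a * t = t * a⁻¹ := by
    have h' := congrArg Inv.inv h
    rw [inv_inv] at h'
    calc a * t = (t * a * t⁻¹)⁻¹ * t := by rw [h']
      _ = _ := by group
  rw [h1, mul_assoc, three_sq (x := a⁻¹) (by rw [inv_pow, h3, inv_one]), inv_inv]

namespace Sec

variable (C : Sec H)

/-- An element of `N(J)` whose matrix commutes with the central one is congruent mod `J` to one commuting with `t`. -/
theorem lift_N {t n : G} (htA : ActB C.ev t mT0) (ht2 : t * t = 1) (htN : t ∈ normalizer (H.J : Set G))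
    (hn : n ∈ normalizer (H.J : Set G)) {A : ℕ} (hA : ActB C.ev n A) (hc : mM A mT0 = mM mT0 A) :
    ∃ j ∈ H.J, j * n * t = t * (j * n) := by
  set x := n * t * n⁻¹ with hx
  have hxt : t * x ∈ H.J := H.J_self_cent fun a ha => by
    obtain ⟨v, hv, hv'⟩ := C.ev_surj (((mem_normalizer_iff''.1 hn) a).1 ha)
    have ha' : a = C.ev (ap A v) := by rw [← hA.2 v hv, hv']; group
    have h1 : x * a * x⁻¹ = n * t * C.ev v * (n * t)⁻¹ := by rw [hx, hv']; group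
    have h2 : x * a * x⁻¹ = C.ev (ap (mM mT0 A) v) := by rw [h1, (C.nact_mul hA htA).2 v hv, hc]
    have h3 := (C.nact_mul htA (C.nact_mul htA hA)).2 v hv
    rw [← mul_assoc, ht2, one_mul, hA.2 v hv, ← ha'] at h3
    have h4 : t * x * a * (t * x)⁻¹ = C.ev (ap (mM mT0 (mM mT0 A)) v) := by
      rw [← (C.nact_mul htA (C.nact_mul htA hA)).2 v hv, show t * x * a * (t * x)⁻¹ = t * (x * a * x⁻¹) * t⁻¹ by group,
        h2, ← (C.nact_mul htA hA).2 v hv]
      group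
    rw [← h3] at h4
    exact mul_inv_eq_iff_eq_mul.1 h4
  set a := t * x with ha
  have hx2 : x * x = 1 := by
    rw [hx, show n * t * n⁻¹ * (n * t * n⁻¹) = n * (t * t) * n⁻¹ by group, ht2]; group
  have hinv : t * a * t⁻¹ = a⁻¹ := by
    rw [ha, mul_inv_rev, inv_eq_of_mul_eq_one_right hx2, inv_eq_of_mul_eq_one_right ht2, ← mul_assoc, ht2, one_mul]
  have hconj := conj_inverted hinv (H.J_cube a hxt)
  refine ⟨a⁻¹, inv_mem hxt, ?_⟩
  have hxa : t * a = x := by rw [ha, ← mul_assoc, ht2, one_mul]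
  calc a⁻¹ * n * t = a⁻¹ * x * n := by rw [hx]; group
    _ = _ := by rw [← hxa, ← hconj]; group

include C in
theorem exists_Tt : Nonempty (Tt C) := by
  obtain ⟨t, ht, ht2, hψ, htN, htA⟩ := C.exists_t
  obtain ⟨n, hn, hnN, -, -, B, hB, hnB⟩ := C.exists_n
  obtain ⟨j, hj, hjn⟩ := C.lift_N htA ht2 htN hnN hnB ((ord_comm B hB).1)
  exact ⟨⟨t, j * n, B, ht, ht2, hψ, htN, htA, hB, mul_mem (H.S_le_L (H.J_le_S hj)) hn,
    mul_mem (H.M_norm (H.J_le_M hj)) hnN, hjn, by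
      have := C.nact_mul (C.nact_J hj) hnB
      rwa [(ord_comm B hB).2] at this⟩⟩
where
  ord_comm : ∀ B ∈ ordT, mM B mT0 = mM mT0 B ∧ mM mI B = B := by decide +kernel

end Sec

namespace Tt

variable {C : Sec H} (T : Tt C)

/-- The centralizer of the involution. -/
abbrev K : Subgroup G := centralizer ({T.t} : Set G)

theorem mem_K {g : G} : g ∈ T.K ↔ g * T.t = T.t * g := mem_centralizer_singleton_iff

theorem t_K : T.t ∈ T.K := T.mem_K.2 rfl

theorem n_K : T.n ∈ T.K := T.mem_K.2 T.n_t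

theorem t_ne : T.t ≠ 1 := fun h => by
  have h1 : H.ψ ⟨T.t, T.t_L⟩ = 1 := by rw [show (⟨T.t, T.t_L⟩ : H.L) = 1 from Subtype.ext h, map_one]
  exact sl5_neg.2.1 (T.t_psi.symm.trans h1)

theorem t_order : orderOf T.t = 2 := orderOf_eq_prime (by rw [sq, T.t_sq]) T.t_ne

theorem z_K : H.z ∈ T.K := T.mem_K.2 (H.L_cz T.t_L).symm

theorem f_K : C.f ∈ T.K := by
  refine T.mem_K.2 (mul_inv_eq_iff_eq_mul.1 ?_).symm
  rw [← C.ev_basis.2.1, T.t_act.2 7 (by norm_num), show ap mT0 7 = 7 by decide +kernel]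

/-- An element of `L` is congruent mod `Q` to one commuting with `t`. -/
theorem lift_L {g : G} (hg : g ∈ H.L) : ∃ q ∈ H.Q, q * g ∈ T.K := by
  set x := g * T.t * g⁻¹ with hx
  have hxL : x ∈ H.L := mul_mem (mul_mem hg T.t_L) (inv_mem hg)
  have hψx : H.ψ ⟨x, hxL⟩ = -1 := by
    rw [H.psi_conj hg T.t_L, T.t_psi, sl5_neg.2.2, mul_inv_cancel_right]
  set a := T.t * x with ha
  have haQ : a ∈ H.Q := (H.ψ_ker ⟨a, mul_mem T.t_L hxL⟩).1 (by
    rw [H.psi_mul T.t_L hxL, T.t_psi, hψx, sl5_neg.1])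
  have hx2 : x * x = 1 := by
    rw [hx, show g * T.t * g⁻¹ * (g * T.t * g⁻¹) = g * (T.t * T.t) * g⁻¹ by group, T.t_sq]; group
  have hinv : T.t * a * T.t⁻¹ = a⁻¹ := by
    rw [ha, mul_inv_rev, inv_eq_of_mul_eq_one_right hx2, inv_eq_of_mul_eq_one_right T.t_sq, ← mul_assoc, T.t_sq,
      one_mul]
  have hconj := conj_inverted hinv (H.Q_cube a haQ)
  refine ⟨a⁻¹, inv_mem haQ, T.mem_K.2 ?_⟩
  have hxa : T.t * a = x := by rw [ha, ← mul_assoc, T.t_sq, one_mul]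
  calc a⁻¹ * g * T.t = a⁻¹ * x * g := by rw [hx]; group
    _ = _ := by rw [← hxa, ← hconj]; group

theorem lift_J {n : G} (hn : n ∈ normalizer (H.J : Set G)) {A : ℕ} (hA : ActB C.ev n A)
    (hc : mM A mT0 = mM mT0 A) : ∃ j ∈ H.J, j * n ∈ T.K := by
  obtain ⟨j, hj, h⟩ := C.lift_N T.t_act T.t_sq T.t_N hn hA hc
  exact ⟨j, hj, T.mem_K.2 h⟩

theorem Q_cent {q : G} (hq : q ∈ H.Q) (hk : q ∈ T.K) : q ∈ zpowers H.z :=
  H.invol_fix T.t_L T.t_sq T.t_psi hq (by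
    rw [← T.mem_K.1 hk, mul_inv_cancel_right, mul_inv_cancel]; exact one_mem _)

/-- The fixed plane. -/
abbrev P : Subgroup G := H.J ⊓ T.K

theorem P_code {a : G} (ha : a ∈ T.P) : ∃ i < 3, ∃ j < 3, a = H.z ^ i * C.f ^ j := by
  obtain ⟨v, hv, rfl⟩ := C.ev_surj ha.1
  have h := T.t_act.2 v hv
  rw [← T.mem_K.1 ha.2, mul_inv_cancel_right] at h
  obtain ⟨i, hi, j, hj, rfl⟩ := plane_fixed v hv (C.ev_inj (ap_lt _ _) hv h.symm)
  exact ⟨i, hi, j, hj, by rw [C.ev_add, C.ev_smul, C.ev_smul, C.ev_basis.1, C.ev_basis.2.1]⟩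

theorem z_P : H.z ∈ T.P := ⟨H.z_J, T.z_K⟩

theorem f_P : C.f ∈ T.P := ⟨C.f_J, T.f_K⟩

theorem card_P : Nat.card T.P = 9 := by
  let f : Fin 3 × Fin 3 → T.P := fun p =>
    ⟨H.z ^ (p.1 : ℕ) * C.f ^ (p.2 : ℕ), mul_mem (pow_mem T.z_P _) (pow_mem T.f_P _)⟩
  rw [← Nat.card_eq_of_bijective f ⟨fun p q h => ?_, fun a => ?_⟩]
  · simp
  · have h' : C.ev (vA (vS p.1 4) (vS p.2 7)) = C.ev (vA (vS q.1 4) (vS q.2 7)) := by
      simp only [C.ev_add, C.ev_smul, C.ev_basis.1, C.ev_basis.2.1]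
      exact congrArg Subtype.val h
    exact inj p q (C.ev_inj (vA_lt _ _) (vA_lt _ _) h')
  · obtain ⟨i, hi, j, hj, h⟩ := T.P_code a.2
    exact ⟨(⟨i, hi⟩, ⟨j, hj⟩), Subtype.ext h.symm⟩
where
  inj : ∀ p q : Fin 3 × Fin 3, vA (vS (p.1 : ℕ) 4) (vS (p.2 : ℕ) 7) = vA (vS (q.1 : ℕ) 4) (vS (q.2 : ℕ) 7) → p = q := by
    decide +kernel

theorem y_nonsing {g : G} (hg : g * (H.z * C.f) * g⁻¹ ∈ zpowers (H.z * C.f)) : g ∈ normalizer (H.J : Set G) := by
  refine C.line_norm tY_facts.2.2.1 tY_facts.2.1 tY_facts.1 ?_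
  rw [cY, C.ev_add, C.ev_basis.1, C.ev_basis.2.1]
  exact hg

theorem norm_P_le {g : G} (hg : ∀ a ∈ T.P, g * a * g⁻¹ ∈ T.P) : g ∈ normalizer (H.J : Set G) := by
  set J' := H.J.map (MulAut.conj g).toMonoidHom
  have hJ' : J' ≤ normalizer (H.J : Set G) := by
    rintro _ ⟨b, hb, rfl⟩
    refine y_nonsing (C := C) ?_
    have hsurj : ∀ a ∈ T.P, ∃ c ∈ T.P, g * c * g⁻¹ = a := by
      intro a ha
      have hinj : Function.Injective (fun c : T.P => (⟨g * c * g⁻¹, hg c c.2⟩ : T.P)) := fun c d h =>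
        Subtype.ext (mul_left_cancel (mul_right_cancel (congrArg Subtype.val h :)))
      obtain ⟨c, hc⟩ := (Finite.injective_iff_bijective.1 hinj).2 ⟨a, ha⟩
      exact ⟨c, c.2, congrArg Subtype.val hc⟩
    obtain ⟨c, hc, hcy⟩ := hsurj _ (mul_mem T.z_P T.f_P)
    show g * b * g⁻¹ * (H.z * C.f) * (g * b * g⁻¹)⁻¹ ∈ _
    rw [← hcy, show g * b * g⁻¹ * (g * c * g⁻¹) * (g * b * g⁻¹)⁻¹ = g * (b * c * b⁻¹) * g⁻¹ by group,
      H.J_comm b hb c hc.1, mul_inv_cancel_right]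
    exact mem_zpowers _
  have hp : IsPGroup 3 ↥(J' ⊔ H.J) :=
    (IsPGroup.of_card (n := 4) (by rw [card_map_of_injective (MulAut.conj g).injective, H.J_card]; norm_num) :
      IsPGroup 3 J').to_sup_of_normal_right'
      (IsPGroup.of_card (n := 4) (by rw [H.J_card]; norm_num) : IsPGroup 3 H.J) hJ'
  have hJJ := H.abel_unique_pGroup hp le_sup_right (A := J') le_sup_left
    (by rintro _ ⟨a, ha, rfl⟩ _ ⟨b, hb, rfl⟩; rw [← map_mul, ← map_mul, H.J_comm a ha b hb])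
    (by rw [card_map_of_injective (MulAut.conj g).injective, H.J_card])
  exact Subgroup.mem_normalizer_fintype fun a ha => hJJ ▸ ⟨a, ha, rfl⟩

theorem K_mat {g : G} (hN : g ∈ normalizer (H.J : Set G)) (hK : g ∈ T.K) :
    ∃ M ∈ tE T.B, ActB C.ev g M ∧ (¬ C.Ext → M ∈ tA T.B) := by
  obtain ⟨σ, n', hn'N, hn'z, he, A, hA, hnA⟩ := C.norm_mat hN
  have hact : ActB C.ev g (mM (C.mat σ) A) := he ▸ C.nact_mul (C.nact_rep σ) hnA
  have hcm : mM (mM (C.mat σ) A) mT0 = mM mT0 (mM (C.mat σ) A) := by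
    have h2 := C.nact_mul hact T.t_act
    rw [T.mem_K.1 hK] at h2
    exact C.nact_unique h2 (C.nact_mul T.t_act hact)
  refine ⟨_, tE_complete T.B T.B_mem _ (C.mat_mem σ) A hA hcm, hact, fun hE => ?_⟩
  refine tA_complete T.B T.B_mem _ (C.mat_mem σ) A ?_ hcm
  rcases rot_ord_cases A hA T.B T.B_mem with h | ⟨-, h⟩
  · exact lB_spec T.B T.B_mem A hA h
  · exfalso
    have hnz : Commute T.n H.z := H.L_cz T.n_L
    have htz : Commute T.t H.z := H.L_cz T.t_L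
    rcases h with h | h | h | h
    exacts [hE ⟨n', hn'N, hn'z, h ▸ hnA⟩,
      hE ⟨T.t * n', mul_mem T.t_N hn'N, (htz.mul_left hn'z).eq, h ▸ C.nact_mul T.t_act hnA⟩,
      hE ⟨T.n * n', mul_mem T.n_N hn'N, (hnz.mul_left hn'z).eq, h ▸ C.nact_mul T.n_act hnA⟩,
      hE ⟨T.t * (T.n * n'), mul_mem T.t_N (mul_mem T.n_N hn'N), (htz.mul_left (hnz.mul_left hn'z)).eq,
        h ▸ C.nact_mul T.t_act (C.nact_mul T.n_act hnA)⟩]

theorem mI_P {g : G} (hK : g ∈ T.K) (hg : ActB C.ev g mI) : g ∈ T.P := ⟨C.act_mI_mem hg, hK⟩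

theorem small_P {g : G} (hK : g ∈ T.K) {M : ℕ} (hM : M = mI ∨ M = mT0) (hg : ActB C.ev g M) :
    g ∈ T.P ∨ T.t * g ∈ T.P := by
  rcases hM with rfl | rfl
  · exact Or.inl (T.mI_P hK hg)
  · right
    refine T.mI_P (mul_mem T.t_K hK) ?_
    have := C.nact_mul T.t_act hg
    rwa [iso_fC.2.2.2.2.2.1] at this

include T in
/-- The plane is a Sylow three-subgroup of the centralizer of `t`. -/
theorem P_sylow {R : Subgroup G} (hR : IsPGroup 3 R) (hRK : R ≤ T.K) (hPR : T.P ≤ R) : R = T.P := by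
  haveI : Fact (Nat.Prime 3) := ⟨Nat.prime_three⟩
  by_contra hne
  have hlt : T.P.subgroupOf R < ⊤ := lt_top_iff_ne_top.2 fun h => hne (le_antisymm (fun r hr => by
    have : (⟨r, hr⟩ : R) ∈ T.P.subgroupOf R := h ▸ mem_top _
    exact mem_subgroupOf.1 this) hPR)
  haveI := hR.isNilpotent
  have hN := normalizerCondition_of_isNilpotent (G := R) (T.P.subgroupOf R) hlt
  obtain ⟨⟨g, hgR⟩, hgN, hgP⟩ := SetLike.exists_of_lt hN
  have hgn : ∀ a ∈ T.P, g * a * g⁻¹ ∈ T.P := fun a ha => by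
    have := ((mem_normalizer_iff.1 hgN) ⟨a, hPR ha⟩).1 (mem_subgroupOf.2 ha)
    exact mem_subgroupOf.1 this
  obtain ⟨M, hM, hgM, -⟩ := T.K_mat (T.norm_P_le hgn) (hRK hgR)
  obtain ⟨k, hk⟩ := hR ⟨g, hgR⟩
  have hk' : g ^ 3 ^ k = 1 := congrArg Subtype.val hk
  have h8 : ActB C.ev (g ^ 8) (mM (mM (mM M M) (mM M M)) (mM (mM M M) (mM M M))) := by
    have h2 := C.nact_mul hgM hgM
    have h4 := C.nact_mul h2 h2
    have := C.nact_mul h4 h4
    rwa [show g ^ 8 = g * g * (g * g) * (g * g * (g * g)) by simp [pow_succ, mul_assoc]]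
  have h16 : g ^ 16 ∈ T.P := by
    rcases List.mem_cons.1 (tE_pow T.B T.B_mem M hM).1 with h | h
    · rw [h] at h8
      have := T.mI_P (pow_mem (hRK hgR) 8) h8
      rw [show 16 = 8 * 2 from rfl, pow_mul]
      exact pow_mem this 2
    · rw [List.mem_singleton.1 h] at h8
      have h := C.nact_mul h8 h8
      rw [← pow_add, iso_fC.2.2.2.2.2.1] at h
      exact T.mI_P (pow_mem (hRK hgR) 16) h
  have hcop : (3 ^ k).Coprime 16 := Nat.Coprime.pow_left k (by norm_num)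
  have hgcd : g ^ (Nat.gcd (3 ^ k) 16 : ℕ) ∈ T.P := by
    have := Nat.gcd_eq_gcd_ab (3 ^ k) 16
    rw [← zpow_natCast, this, zpow_add, zpow_mul, zpow_mul, zpow_natCast, hk', one_zpow, one_mul]
    exact zpow_mem (by exact_mod_cast h16) _
  rw [Nat.coprime_iff_gcd_eq_one.1 hcop, pow_one] at hgcd
  exact hgP (mem_subgroupOf.2 hgcd)

end Tt

end Cfsg.Agent.Spor.McLThree
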