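import Cfsg.Agent.Lib.Spor.McLThree.TCount
import Cfsg.Agent.Lib.Recog.AEight.Whole

/-!
Without the extension the centralizer of the involution is a double cover of the alternating group of degree eight.
-/

set_option autoImplicit false
set_option maxRecDepth 100000
set_option synthInstance.maxSize 4096
set_option linter.unusedSectionVars false

namespace Cfsg.Agent.Spor.McLThree

open Subgroup Cfsg.Agent.Spor.UFourType

universe u

variable {G : Type u} [Group G] [Finite G] {H : Hyp G}

namespace Tt

variable {C : Sec H} (T : Tt C)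

theorem card_ker35 : Nat.card Recog.AEight.Ker = 360 := by
  set f := ((Equiv.Perm.sign).comp (MonoidHom.fst (Equiv.Perm (Fin 3)) (Equiv.Perm (Fin 5)))) *
    ((Equiv.Perm.sign).comp (MonoidHom.snd (Equiv.Perm (Fin 3)) (Equiv.Perm (Fin 5))))
  have hs : f.range = ⊤ := by
    refine MonoidHom.range_eq_top.2 fun x => ?_
    rcases Int.units_eq_one_or x with rfl | rfl
    · exact ⟨1, map_one f⟩
    · exact ⟨(Equiv.swap 0 1, 1), by simp [f, Equiv.Perm.sign_swap (show (0 : Fin 3) ≠ 1 by decide)]⟩
  have h := f.ker.card_mul_index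
  rw [index_ker, hs, card_top, Nat.card_prod, Nat.card_perm, Nat.card_perm, Nat.card_fin, Nat.card_fin,
    Nat.card_eq_fintype_card (α := ℤˣ), Fintype.card_units_int] at h
  rw [show Nat.factorial 3 = 6 from rfl, show Nat.factorial 5 = 120 from rfl] at h
  show Nat.card f.ker = 360
  omega

/-- The quotient is the alternating group of degree eight. -/
theorem caseA (hE : ¬ C.Ext) : Nonempty (T.X ≃* alternatingGroup (Fin 8)) := by
  obtain ⟨h1, h2, h3⟩ := T.counts.1 hE
  obtain ⟨hcC, hcY⟩ := T.card_centralizers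
  obtain ⟨S, hS⟩ := T.D_sylow
  have hC : centralizer (T.D : Set T.X) = T.D := by
    refine (eq_of_le_of_card_ge (fun a ha => mem_centralizer_iff.2 fun b hb => T.D_comm b hb a ha) ?_).symm
    rw [T.card_D]
    omega
  haveI : ((centralizer (T.D : Set T.X)).subgroupOf (normalizer (T.D : Set T.X))).Normal := by
    rw [hC]; exact Subgroup.normal_in_normalizer
  obtain ⟨e0⟩ := T.exists_NC_equiv
  let eN := (QuotientGroup.quotientMulEquivOfEq (show T.D.subgroupOf (normalizer (T.D : Set T.X)) =
    (centralizer (T.D : Set T.X)).subgroupOf (normalizer (T.D : Set T.X)) by rw [hC])).trans e0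
  obtain ⟨Ψ, hker, hsign⟩ := T.exists_line_map
  have hr : Ψ.range = Recog.AEight.Ker := by
    refine eq_of_le_of_card_ge ?_ ?_
    · rintro _ ⟨g, rfl⟩
      exact hsign hE g
    · rw [card_ker35]
      have h := Ψ.ker.card_mul_index
      have hN : Nat.card T.Nz = 720 := by
        rw [T.card_Nz, T.C0_eq hE, T.card_K1]
      have hle : zpowers T.t ≤ T.Nz := zpowers_le.2 (T.K0_Nz T.t_K0)
      rw [index_ker, hker, Nat.card_congr (subgroupOfEquivOfLe hle).toEquiv, Nat.card_zpowers, T.t_order, hN] at h
      omega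
  obtain ⟨e1⟩ := T.exists_line_equiv Ψ hker
  obtain ⟨St⟩ := Recog.AEight.exists_St S T.D hS.symm T.yb T.zb T.closure_yz T.card_D T.D_exp hC eN T.D_normal_y
    (by omega) (e1.trans (MulEquiv.subgroupCongr hr))
  exact Recog.AEight.iso_alt St

end Tt

end Cfsg.Agent.Spor.McLThree
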