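import Cfsg.Agent.Lib.Spor.McLThree.TCount
import Cfsg.Agent.Lib.Invol.S8Three.Extract

/-!
With the extension the quotient of the centralizer of the involution is the symmetric group of degree eight.
-/

set_option autoImplicit false
set_option maxRecDepth 100000
set_option synthInstance.maxSize 4096
set_option linter.unusedSectionVars false

namespace Cfsg.Agent.Spor.McLThree

open Subgroup Cfsg.Agent.Spor.UFourType

universe u

/-- Two factors. -/
abbrev A55 := alternatingGroup (Fin 5) × alternatingGroup (Fin 5)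

theorem a5_three_five : ∀ x : alternatingGroup (Fin 5), x * x * x = 1 → x ≠ 1 → ∀ y : alternatingGroup (Fin 5),
    x * y = y * x → y * y * (y * y) * y = 1 → y = 1 := by
  decide +kernel

theorem sl5_word : Char.SL25Facts.a = Char.SL25Facts.T * (Char.SL25Facts.a * Char.SL25Facts.T * Char.SL25Facts.a⁻¹) *
    Char.SL25Facts.T := by
  decide +kernel

/-- A map of `SL₂(5)` killing an element of order five is trivial. -/
theorem sl5_kill {D : Type*} [Group D] (f : SL5 →* D) (h : f Char.SL25Facts.T = 1) (x : SL5) : f x = 1 := by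
  have hk : f.ker = ⊤ := Char.SL25Facts.eq_top h (by
    rw [sl5_word]
    exact f.ker.mul_mem (f.ker.mul_mem h (f.normal_ker.conj_mem _ h _)) h)
  exact MonoidHom.mem_ker.1 (hk.symm ▸ Subgroup.mem_top x)

variable {G : Type u} [Group G] [Finite G] {H : Hyp G}

namespace Tt

variable {C : Sec H} (T : Tt C)

/-- An element of `K0` commutes exactly with what it commutes with modulo `t`. -/
theorem exact_comm {b : G} (hb : b ∈ T.K) (h : ∀ k ∈ T.K0, k * b * k⁻¹ * b⁻¹ ∈ zpowers T.t) {k : G}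
    (hk : k ∈ T.K0) : k * b = b * k := by
  have hcent : ∀ g ∈ T.K, ∀ u ∈ zpowers T.t, g * u = u * g := by
    rintro g hg _ ⟨i, rfl⟩
    exact ((show Commute g T.t from T.mem_K.1 hg).zpow_right i).eq
  let δ : T.K0 →* zpowers T.t :=
    { toFun := fun k => ⟨(k : G) * b * (k : G)⁻¹ * b⁻¹, h k k.2⟩
      map_one' := Subtype.ext (by simp)
      map_mul' := fun x y => Subtype.ext (by
        show ((x : G) * y) * b * ((x : G) * y)⁻¹ * b⁻¹ =
          (x : G) * b * (x : G)⁻¹ * b⁻¹ * ((y : G) * b * (y : G)⁻¹ * b⁻¹)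
        have hy := h y y.2
        generalize hu : (y : G) * b * (y : G)⁻¹ * b⁻¹ = u at hy ⊢
        have hxu := hcent x (T.K0_le x.2).2 u hy
        have hxb := hcent _ (T.K.mul_mem (T.K.mul_mem hb (T.K.inv_mem (T.K0_le x.2).2)) (T.K.inv_mem hb)) u hy
        calc ((x : G) * y) * b * ((x : G) * y)⁻¹ * b⁻¹ = (x : G) * u * (b * (x : G)⁻¹ * b⁻¹) := by rw [← hu]; group
          _ = (x : G) * (b * (x : G)⁻¹ * b⁻¹ * u) := by rw [mul_assoc (x : G) u, hxb]
          _ = _ := by group) }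
  haveI : IsMulCommutative (zpowers T.t) := inferInstance
  set F := δ.comp T.ψ0.symm.toMonoidHom
  have hT : F Char.SL25Facts.T = 1 := by
    rw [← sl5_comm.1, map_commutatorElement, commutatorElement_eq_one_iff_mul_comm]
    exact IsMulCommutative.is_comm.comm _ _
  have h1 := congrArg Subtype.val (sl5_kill F hT (T.ψ0 ⟨k, hk⟩))
  simp only [F, MonoidHom.comp_apply, MulEquiv.coe_toMonoidHom, MulEquiv.symm_apply_apply] at h1
  exact mul_inv_eq_iff_eq_mul.1 (mul_inv_eq_one.1 h1)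

/-- Not two copies of the alternating group of degree five. -/
theorem not_wreath (hE : C.Ext) (N : Subgroup T.X) (hN : N.Normal) (hsq : ∀ g : T.X, g ^ 2 ∈ N)
    (e : N ≃* A55) : False := by
  haveI := hN
  have hcomm : ∀ a b : T.X, a * b * a⁻¹ * b⁻¹ ∈ N := fun a b => by
    have h : a * b * a⁻¹ * b⁻¹ = (a * b) ^ 2 * (b⁻¹ * (a⁻¹) ^ 2 * b⁻¹⁻¹) * (b⁻¹) ^ 2 := by simp only [sq]; group
    rw [h]
    exact mul_mem (mul_mem (hsq _) (hN.conj_mem _ (hsq _) _)) (hsq _)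
  -- the projection of `K0`
  set π0 : SL5 →* T.X := T.pt'.comp ((inclusion (T.K0_le.trans inf_le_right)).comp T.ψ0.symm.toMonoidHom)
  have hK0N : ∀ x, π0 x ∈ N := by
    intro x
    haveI : N.Normal := hN
    have hT : (QuotientGroup.mk' N).comp π0 Char.SL25Facts.T = 1 := by
      rw [← sl5_comm.1]
      simp only [MonoidHom.comp_apply, map_commutatorElement]
      rw [← map_commutatorElement (QuotientGroup.mk' N), QuotientGroup.mk'_apply, QuotientGroup.eq_one_iff]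
      exact hcomm _ _
    exact (QuotientGroup.eq_one_iff _).1 (sl5_kill ((QuotientGroup.mk' N).comp π0) hT x)
  obtain ⟨w, hw, hwA⟩ := T.has_basic.2.2.2.2
  set wb := T.pt' ⟨w, hw.1⟩
  let φ : SL5 →* A55 := e.toMonoidHom.comp (π0.codRestrict N hK0N)
  let ψ : SL5 →* A55 := e.toMonoidHom.comp (((MulAut.conj wb).toMonoidHom.comp π0).codRestrict N fun x =>
    hN.conj_mem _ (hK0N x) wb)
  have hz3 : ∀ a : T.X, a ^ 3 = 1 → a ∈ N := fun a ha => by
    have := pow_mem (hsq a) 2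
    rwa [← pow_mul, show 2 * 2 = 3 + 1 from rfl, pow_succ, ha, one_mul] at this
  have hzb3 : T.zb ^ 3 = 1 := T.D_exp _ (T.D_mem T.z_P)
  set fb := T.pt' ⟨C.f, T.f_K⟩
  have hfb3 : fb ^ 3 = 1 := T.D_exp _ (T.D_mem T.f_P)
  have hwz : w * H.z * w⁻¹ = C.f := by
    rw [← C.ev_basis.1, hwA.2 4 (by norm_num), (t_rels T.B T.B_mem).2.2.2.2.2.2.2.2.2.2.2.2.2.2.1, C.ev_basis.2.1]
  set a : A55 := e ⟨T.zb, hz3 _ hzb3⟩
  set b : A55 := e ⟨fb, hz3 _ hfb3⟩
  have hπf : π0 (T.ψ0 ⟨C.f, T.f_K0⟩) = fb := by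
    simp only [π0, MonoidHom.comp_apply, MulEquiv.coe_toMonoidHom, MulEquiv.symm_apply_apply]
    rfl
  have hφf : φ (T.ψ0 ⟨C.f, T.f_K0⟩) = b := by
    refine congrArg e (Subtype.ext ?_)
    exact hπf
  have hfac : ∀ (χ : SL5 →* A55) (c : A55), c ^ 3 = 1 → c ≠ 1 → (∀ x, c * χ x = χ x * c) →
      (c.1 ≠ 1 → (∃ x, χ x ≠ 1) → c.2 = 1 ∧ ∀ x, (χ x).1 = 1) ∧ (c.2 ≠ 1 → (∃ x, χ x ≠ 1) → c.1 = 1 ∧ ∀ x, (χ x).2 = 1) := by
    intro χ c hc3 _ hcc
    have hc3' : c.1 * c.1 * c.1 = 1 ∧ c.2 * c.2 * c.2 = 1 := by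
      rw [pow_succ, sq] at hc3
      exact ⟨congrArg Prod.fst hc3, congrArg Prod.snd hc3⟩
    have h5 : χ Char.SL25Facts.T * χ Char.SL25Facts.T * (χ Char.SL25Facts.T * χ Char.SL25Facts.T) * χ Char.SL25Facts.T = 1 := by
      rw [← map_mul, ← map_mul, ← map_mul, ← map_one χ]
      exact congrArg χ (by decide +kernel)
    constructor
    · intro h1 ⟨x, hx⟩
      have hT1 : (χ Char.SL25Facts.T).1 = 1 :=
        a5_three_five _ hc3'.1 h1 _ (congrArg Prod.fst (hcc _)) (congrArg Prod.fst h5)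
      have hall : ∀ x, (χ x).1 = 1 := fun x => sl5_kill ((MonoidHom.fst _ _).comp χ) hT1 x
      refine ⟨?_, hall⟩
      by_contra h2
      have hT2 : (χ Char.SL25Facts.T).2 = 1 :=
        a5_three_five _ hc3'.2 h2 _ (congrArg Prod.snd (hcc _)) (congrArg Prod.snd h5)
      exact hx (Prod.ext (hall x) (sl5_kill ((MonoidHom.snd _ _).comp χ) hT2 x))
    · intro h2 ⟨x, hx⟩
      have hT2 : (χ Char.SL25Facts.T).2 = 1 :=
        a5_three_five _ hc3'.2 h2 _ (congrArg Prod.snd (hcc _)) (congrArg Prod.snd h5)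
      have hall : ∀ x, (χ x).2 = 1 := fun x => sl5_kill ((MonoidHom.snd _ _).comp χ) hT2 x
      refine ⟨?_, hall⟩
      by_contra h1
      have hT1 : (χ Char.SL25Facts.T).1 = 1 :=
        a5_three_five _ hc3'.1 h1 _ (congrArg Prod.fst (hcc _)) (congrArg Prod.fst h5)
      exact hx (Prod.ext (sl5_kill ((MonoidHom.fst _ _).comp χ) hT1 x) (hall x))
  have ha1 : a ≠ 1 := fun h => by
    have h' : T.zb = 1 := congrArg Subtype.val (e.injective (h.trans (map_one e).symm))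
    exact H.z_ne (T.odd_inj T.z_K T.K.one_mem H.z_cube (one_pow 3) (h'.trans (map_one T.pt').symm))
  have hb1 : b ≠ 1 := fun h => by
    have h' : fb = 1 := congrArg Subtype.val (e.injective (h.trans (map_one e).symm))
    exact C.f_not_Q (T.odd_inj T.f_K T.K.one_mem (H.J_cube _ C.f_J) (one_pow 3) (h'.trans (map_one T.pt').symm) ▸
      one_mem _)
  have hca : ∀ x, a * φ x = φ x * a := fun x => by
    obtain ⟨⟨k, hk⟩, rfl⟩ := T.ψ0.surjective x
    show e _ * e _ = e _ * e _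
    rw [← map_mul, ← map_mul]
    refine congrArg e (Subtype.ext ?_)
    simp only [coe_mul, MonoidHom.codRestrict_apply, π0, MonoidHom.comp_apply, MulEquiv.coe_toMonoidHom,
      MulEquiv.symm_apply_apply, zb]
    rw [← map_mul, ← map_mul]
    exact congrArg _ (Subtype.ext (H.L_cz (T.K0_le hk).1).symm)
  have hbw : fb = wb * T.zb * wb⁻¹ := by
    simp only [wb, zb, fb]
    rw [← map_inv, ← map_mul, ← map_mul]
    exact congrArg _ (Subtype.ext hwz.symm)
  have hcb : ∀ x, b * ψ x = ψ x * b := fun x => by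
    have h := congrArg Subtype.val (e.injective ((map_mul e _ _).trans ((hca x).trans (map_mul e _ _).symm)))
    simp only [coe_mul, MonoidHom.codRestrict_apply] at h
    show e _ * e _ = e _ * e _
    rw [← map_mul, ← map_mul]
    refine congrArg e (Subtype.ext ?_)
    show fb * (wb * π0 x * wb⁻¹) = wb * π0 x * wb⁻¹ * fb
    rw [hbw, show wb * T.zb * wb⁻¹ * (wb * π0 x * wb⁻¹) = wb * (T.zb * π0 x) * wb⁻¹ by group, h]
    group
  have hψ1 : ∃ x, ψ x ≠ 1 := ⟨T.ψ0 ⟨C.f, T.f_K0⟩, fun h => by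
    have h' : wb * π0 (T.ψ0 ⟨C.f, T.f_K0⟩) * wb⁻¹ = 1 :=
      congrArg Subtype.val (e.injective (h.trans (map_one e).symm))
    rw [hπf] at h'
    exact hb1 (e.map_eq_one_iff.2 (Subtype.ext (conj_eq_one_iff.1 h')))⟩
  have hφ1 : ∃ x, φ x ≠ 1 := ⟨_, hφf ▸ hb1⟩
  have key : ∀ x y, φ x * ψ y = ψ y * φ x := by
    intro x y
    obtain ⟨k1, k2⟩ := hfac φ a (by rw [← map_pow]; exact e.map_eq_one_iff.2 (Subtype.ext hzb3)) ha1 hca
    obtain ⟨l1, l2⟩ := hfac ψ b (by rw [← map_pow]; exact e.map_eq_one_iff.2 (Subtype.ext hfb3)) hb1 hcb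
    by_cases h1 : a.1 = 1
    · have h2 : a.2 ≠ 1 := fun h => ha1 (Prod.ext h1 h)
      obtain ⟨-, hall⟩ := k2 h2 hφ1
      have hb2 : b.2 = 1 := hφf ▸ hall _
      obtain ⟨-, hall'⟩ := l1 (fun h => hb1 (Prod.ext h hb2)) hψ1
      refine Prod.ext ?_ ?_
      · show (φ x).1 * (ψ y).1 = (ψ y).1 * (φ x).1
        rw [hall' y, mul_one, one_mul]
      · show (φ x).2 * (ψ y).2 = (ψ y).2 * (φ x).2
        rw [hall x, mul_one, one_mul]
    · obtain ⟨-, hall⟩ := k1 h1 hφ1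
      have hb2 : b.1 = 1 := hφf ▸ hall _
      obtain ⟨-, hall'⟩ := l2 (fun h => hb1 (Prod.ext hb2 h)) hψ1
      refine Prod.ext ?_ ?_
      · show (φ x).1 * (ψ y).1 = (ψ y).1 * (φ x).1
        rw [hall x, mul_one, one_mul]
      · show (φ x).2 * (ψ y).2 = (ψ y).2 * (φ x).2
        rw [hall' y, mul_one, one_mul]
  obtain ⟨n, hn, hnA, -, -⟩ := T.exists_n0
  set m := w * n * w⁻¹ with hm
  have hmK : m ∈ T.K := T.K.mul_mem (T.K.mul_mem hw.1 (T.K0_le hn).2) (T.K.inv_mem hw.1)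
  have hmod : ∀ k ∈ T.K0, k * m * k⁻¹ * m⁻¹ ∈ zpowers T.t := by
    intro k hk
    have hπ : ∀ {c : G} (hc : c ∈ T.K0), π0 (T.ψ0 ⟨c, hc⟩) = T.pt' ⟨c, (T.K0_le hc).2⟩ := fun {c} hc => by
      simp only [π0, MonoidHom.comp_apply, MulEquiv.coe_toMonoidHom, MulEquiv.symm_apply_apply]
      rfl
    have h : π0 (T.ψ0 ⟨k, hk⟩) * (wb * π0 (T.ψ0 ⟨n, hn⟩) * wb⁻¹) =
        wb * π0 (T.ψ0 ⟨n, hn⟩) * wb⁻¹ * π0 (T.ψ0 ⟨k, hk⟩) :=
      congrArg Subtype.val (e.injective ((map_mul e _ _).trans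
        ((key (T.ψ0 ⟨k, hk⟩) (T.ψ0 ⟨n, hn⟩)).trans (map_mul e _ _).symm)))
    rw [hπ hk, hπ hn] at h
    simp only [wb] at h
    rw [← map_inv, ← map_mul, ← map_mul, ← map_mul, ← map_mul, QuotientGroup.mk'_apply, QuotientGroup.mk'_apply,
      QuotientGroup.eq, mem_subgroupOf] at h
    have h' := inv_mem h
    simp only [coe_mul, coe_inv, coe_inclusion] at h'
    obtain ⟨i, hi⟩ := h'
    have hi' : T.t ^ i = ((k * m)⁻¹ * (m * k))⁻¹ := by
      simp only [hm]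
      exact hi
    refine ⟨i, ?_⟩
    show T.t ^ i = _
    have hc : Commute (m * k) (T.t ^ i) :=
      (show Commute (m * k) T.t from T.mem_K.1 (T.K.mul_mem hmK (T.K0_le hk).2)).zpow_right i
    calc T.t ^ i = m * k * T.t ^ i * (m * k)⁻¹ := by rw [hc.eq, mul_inv_cancel_right]
      _ = _ := by rw [hi']; group
  have hnm := T.exact_comm hmK hmod hn
  have hwi : ActB C.ev w⁻¹ mW0 := by
    have e2 := C.nact_mul hwA hwA
    rw [(t_rels T.B T.B_mem).1] at e2
    refine ⟨hwA.1, fun v hv => ?_⟩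
    have h := e2.2 v hv
    rw [← (C.nact_J (one_mem H.J)).2 v hv] at h
    calc w⁻¹ * C.ev v * w⁻¹⁻¹ = w⁻¹ * (1 * C.ev v * (1 : G)⁻¹) * w := by group
      _ = w⁻¹ * (w * w * C.ev v * (w * w)⁻¹) * w := by rw [h]
      _ = w * C.ev v * w⁻¹ := by group
      _ = _ := hwA.2 v hv
  have hmA : ActB C.ev m (mM (mM mW0 T.B) mW0) := C.nact_mul (C.nact_mul hwA hnA) hwi
  have h4 := C.nact_mul hnA hmA
  rw [hnm] at h4
  exact pair_twist T.B T.B_mem (C.nact_unique (C.nact_mul hmA hnA) h4)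

/-- The quotient is the symmetric group of degree eight. -/
theorem caseE (hE : C.Ext) : Nonempty (T.X ≃* Equiv.Perm (Fin 8)) := by
  obtain ⟨h1, h2, h3⟩ := T.counts.2 hE
  obtain ⟨hcC, hcY⟩ := T.card_centralizers
  obtain ⟨S, hS⟩ := T.D_sylow
  haveI hcn : ((centralizer (T.D : Set T.X)).subgroupOf (normalizer (T.D : Set T.X))).Normal := by
    refine ⟨fun c hc g => mem_subgroupOf.2 (mem_centralizer_iff.2 fun a ha => ?_)⟩
    have hga : (g : T.X)⁻¹ * a * g ∈ T.D := ((mem_normalizer_iff''.1 g.2) a).1 ha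
    have := mem_centralizer_iff.1 (mem_subgroupOf.1 hc) _ hga
    simp only [coe_mul, coe_inv]
    calc a * ((g : T.X) * c * (g : T.X)⁻¹) = g * ((g : T.X)⁻¹ * a * g * c) * (g : T.X)⁻¹ := by group
      _ = _ := by rw [this]; group
  obtain ⟨eNC⟩ := T.exists_NC_equiv
  obtain ⟨Ψ, hker, -⟩ := T.exists_line_map
  have hr : Ψ.range = ⊤ := by
    refine eq_top_of_card_eq _ ?_
    have h := Ψ.ker.card_mul_index
    have hN : Nat.card T.Nz = 1440 := by rw [T.card_Nz, T.card_C0 hE]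
    have hle : zpowers T.t ≤ T.Nz := zpowers_le.2 (T.K0_Nz T.t_K0)
    rw [index_ker, hker, Nat.card_congr (subgroupOfEquivOfLe hle).toEquiv, Nat.card_zpowers, T.t_order, hN] at h
    rw [Nat.card_prod, Nat.card_perm, Nat.card_perm, Nat.card_fin, Nat.card_fin, show Nat.factorial 3 = 6 from rfl,
      show Nat.factorial 5 = 120 from rfl]
    omega
  obtain ⟨e1⟩ := T.exists_line_equiv Ψ hker
  have hysq : ∀ g ∈ centralizer ({T.yb} : Set T.X), g ^ 2 ∈ T.D := by
    intro x hx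
    obtain ⟨⟨g, hg⟩, rfl⟩ := QuotientGroup.mk'_surjective T.tK x
    have hgY := (T.lift_y hg).1 hx
    obtain ⟨M, hM, hgM, -⟩ := T.K_mat (T.NP_norm (T.CY_NP hgY)) hg
    have hfix : M ∈ fixY (tE T.B) :=
      List.mem_filter.2 ⟨hM, by rw [(T.CY_mat hg hgM).1 hgY]; exact Nat.beq_refl _⟩
    have hsq := (count_spec T.B T.B_mem).2.2.2.2.2 M hfix
    rw [← map_pow]
    have hg2 : (⟨g, hg⟩ : T.K) ^ 2 = ⟨g * g, T.K.mul_mem hg hg⟩ := Subtype.ext (by simp [sq])
    rw [hg2]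
    rcases T.small_P (T.K.mul_mem hg hg) hsq (C.nact_mul hgM hgM) with h | h
    · exact T.D_mem h
    · have h' := T.D_mem h
      rwa [(T.px_eq h.2 (T.K.mul_mem hg hg)).2 (Or.inr ?_)] at h'
      rw [T.mem_K.1 h.2, ← mul_assoc, T.t_sq, one_mul]
  obtain ⟨F, hDF⟩ := Agent.Invol.S8Three.exists_frame S T.D hS.symm T.yb T.zb T.closure_yz T.card_D T.D_exp
    ⟨⟨fun a b => Subtype.ext (T.D_comm _ a.2 _ b.2)⟩⟩ (by omega) eNC (by omega) hysq
    (e1.trans ((MulEquiv.subgroupCongr hr).trans Subgroup.topEquiv))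
  have hcu := Agent.Invol.S8Three.cu_cases F T.D hDF eNC
  rcases Agent.Invol.S8Three.k_cases F with h | h | h
  · rcases hcu with hB | hA
    · exact absurd h (Agent.Invol.S8Three.not_KS_of_CB F hB)
    · exact absurd hA (Agent.Invol.S8Three.not_CA_of_KS F h)
  · obtain ⟨F', hf, h1⟩ := Agent.Invol.S8Three.exists_KW1 F h
    have hDF' : T.D = F'.D := by rw [hDF, Agent.Invol.S8Three.Frame.D, Agent.Invol.S8Three.Frame.D, hf]
    obtain ⟨E⟩ := Agent.Invol.S8Three.exists_copy F' (Agent.Invol.S8Three.cu_cases F' T.D hDF' eNC) h1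
    exact E.iso
  · obtain ⟨N, hN, -, ⟨e⟩, -, -, hsq⟩ := (Agent.Invol.S8Three.exists_wr F h
      (hcu.resolve_right (Agent.Invol.S8Three.not_CA_of_KA F h))).conclusion
    exact (T.not_wreath hE N hN hsq e).elim

end Tt

end Cfsg.Agent.Spor.McLThree
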