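import Cfsg.Agent.Lib.Spor.McLThree.TCoord

/-!
The even involutions of the centralizer of the involution are conjugate to it.
-/

set_option autoImplicit false
set_option maxRecDepth 100000
set_option synthInstance.maxSize 4096
set_option linter.unusedSectionVars false

namespace Cfsg.Agent.Spor.McLThree

open Subgroup Cfsg.Agent.Spor.UFourType

universe u

namespace P8

theorem invol_type {σ : Pm} (h : σ * σ = 1) :
    σ.cycleType = Multiset.replicate (Multiset.card σ.cycleType) 2 ∧ σ.support.card = 2 * Multiset.card σ.cycleType ∧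
      Equiv.Perm.sign σ = (-1) ^ (3 * Multiset.card σ.cycleType) := by
  have h2 : ∀ k ∈ σ.cycleType, k = 2 := fun k hk => by
    have h1 : k ∣ 2 := (Equiv.Perm.dvd_of_mem_cycleType hk).trans (orderOf_dvd_of_pow_eq_one (by rw [sq, h]))
    exact le_antisymm (Nat.le_of_dvd (by norm_num) h1) (Equiv.Perm.two_le_of_mem_cycleType hk)
  have hr := Multiset.eq_replicate_card.2 h2
  have hsum : σ.cycleType.sum = 2 * Multiset.card σ.cycleType := by
    conv_lhs => rw [hr]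
    rw [Multiset.sum_replicate, smul_eq_mul, mul_comm]
  refine ⟨hr, by rw [← Equiv.Perm.sum_cycleType, hsum], ?_⟩
  rw [Equiv.Perm.sign_of_cycleType, hsum]
  congr 1
  omega

theorem supp_facts : (nP.support.card = 4 ∧ nP * nP = 1) ∧ (wA.support.card = 8 ∧ wA * wA = 1) ∧
    (nB * nP = nP * nB) ∧ nP ≠ 1 := by
  decide +kernel

/-- An even involution is conjugate by an even permutation to one of two. -/
theorem even_type {σ : Pm} (h : σ * σ = 1) (hs : Equiv.Perm.sign σ = 1) :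
    σ = 1 ∨ ∃ g, Equiv.Perm.sign g = 1 ∧ (g * nP * g⁻¹ = σ ∨ g * wA * g⁻¹ = σ) := by
  obtain ⟨hr, hcard, hsign⟩ := invol_type h
  have h8 : σ.support.card ≤ 8 := (Finset.card_le_univ _).trans (by simp)
  obtain ⟨⟨hn4, hn2⟩, ⟨hw8, hw2⟩, hnc, -⟩ := supp_facts
  have hev : Multiset.card σ.cycleType % 2 = 0 := by
    rw [hs] at hsign
    rcases Nat.mod_two_eq_zero_or_one (Multiset.card σ.cycleType) with h0 | h0
    · exact h0
    · exfalso
      rw [Odd.neg_one_pow (Nat.odd_iff.2 (by omega))] at hsign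
      exact absurd hsign (by decide)
  have fin : ∀ {τ d : Pm}, τ * τ = 1 → τ.support.card = σ.support.card → d * τ = τ * d →
      Equiv.Perm.sign d = -1 → ∃ g, Equiv.Perm.sign g = 1 ∧ g * τ * g⁻¹ = σ := by
    intro τ d hτ hc hd hds
    obtain ⟨hr', hcard', -⟩ := invol_type hτ
    have hct : τ.cycleType = σ.cycleType := by
      rw [hr', hr, show Multiset.card τ.cycleType = Multiset.card σ.cycleType by omega]
    obtain ⟨g, hg⟩ := isConj_iff.1 ((Equiv.Perm.isConj_iff_cycleType_eq).2 hct)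
    rcases Int.units_eq_one_or (Equiv.Perm.sign g) with hg1 | hg1
    · exact ⟨g, hg1, hg⟩
    · refine ⟨g * d, by rw [map_mul, hg1, hds]; rfl, ?_⟩
      rw [← hg, show g * d * τ * (g * d)⁻¹ = g * (d * τ * d⁻¹) * g⁻¹ by group, hd, mul_inv_cancel_right]
  rcases (show Multiset.card σ.cycleType = 0 ∨ Multiset.card σ.cycleType = 2 ∨ Multiset.card σ.cycleType = 4 by omega)
    with h0 | h0 | h0
  · exact Or.inl (Equiv.Perm.cycleType_eq_zero.1 (Multiset.card_eq_zero.1 h0))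
  · obtain ⟨g, hg, e⟩ := fin hn2 (by omega) hnc p8_facts.2.2.2.2.2.2.2.2.2.2.2.2.1
    exact Or.inr ⟨g, hg, Or.inl e⟩
  · obtain ⟨g, hg, e⟩ := fin hw2 (by omega) p8_facts.2.2.2.2.2.2.2.2.2.2.2.2.2.2.1
      p8_facts.2.2.2.2.2.2.2.2.2.2.2.2.2.1
    exact Or.inr ⟨g, hg, Or.inr e⟩

end P8

/-- Elements anticommute when they and their product square to the central involution. -/
theorem anti_comm {K : Type*} [Group K] {a v t : K} (ht : t * t = 1) (hta : t * a = a * t) (htv : t * v = v * t)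
    (ha : a * a = t) (hv : v * v = t) (hav : a * v * (a * v) = t) : a * v = t * (v * a) := by
  have h1 : a * v = t * (a * v)⁻¹ := eq_mul_inv_iff_mul_eq.2 hav
  have hai : a⁻¹ = t * a := inv_eq_of_mul_eq_one_right (by rw [← mul_assoc, ← hta, mul_assoc, ha, ht])
  have hvi : v⁻¹ = t * v := inv_eq_of_mul_eq_one_right (by rw [← mul_assoc, ← htv, mul_assoc, hv, ht])
  rw [h1, mul_inv_rev, hvi, hai]
  calc t * (t * v * (t * a)) = t * (t * (v * t) * a) := by group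
    _ = t * (t * t * (v * a)) := by rw [← htv]; group
    _ = _ := by rw [ht, one_mul]

variable {G : Type u} [Group G] [Finite G] {H : Hyp G}

namespace Co

variable {C : Sec H} {T : Tt C} {S : Swap T} (O : Co S)

/-- The value of the map. -/
noncomputable abbrev pi (g : G) (hg : g ∈ T.K) : P8.Pm := O.π ⟨g, hg⟩

theorem π_t : O.π ⟨T.t, T.t_K⟩ = 1 := (O.ker _).2 (Or.inr rfl)

theorem t_cen {g : G} (hg : g ∈ T.K) : Commute T.t g := (T.mem_K.1 hg).symm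

theorem fibre {g g' : T.K} (h : O.π g = O.π g') : (g' : G) = g ∨ (g' : G) = g * T.t := by
  rcases (O.ker (g⁻¹ * g')).1 (by rw [map_mul, map_inv, h, inv_mul_cancel]) with h | h
  · exact Or.inl (inv_mul_eq_one.1 h).symm
  · exact Or.inr (eq_mul_of_inv_mul_eq h)

theorem lift {σ : P8.Pm} (hσ : Equiv.Perm.sign σ = 1) : ∃ g, ∃ hg : g ∈ T.K, O.π ⟨g, hg⟩ = σ := by
  obtain ⟨⟨g, hg⟩, h⟩ := O.alt σ hσ
  exact ⟨g, hg, h⟩

/-- Double transpositions lift to elements of order four. -/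
theorem dt_sq {g : T.K} {σ : P8.Pm} (hσ : Equiv.Perm.sign σ = 1) (h : O.π g = σ * P8.nP * σ⁻¹) :
    (g : G) * g = T.t := by
  obtain ⟨k, hk, hkσ⟩ := O.lift hσ
  have e : k * O.n * k⁻¹ * (k * O.n * k⁻¹) = T.t := by
    rw [show k * O.n * k⁻¹ * (k * O.n * k⁻¹) = k * (O.n * O.n) * k⁻¹ by group, O.n_sq, ← (t_cen hk).eq,
      mul_inv_cancel_right]
  rcases O.fibre (g := ⟨k, hk⟩ * ⟨O.n, O.n_K⟩ * ⟨k, hk⟩⁻¹) (g' := g) (by
    rw [map_mul, map_mul, map_inv, hkσ, O.pn, h]) with h' | h'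
  · rw [h']; exact e
  · have hc : Commute T.t (k * O.n * k⁻¹) := t_cen (T.K.mul_mem (T.K.mul_mem hk O.n_K) (T.K.inv_mem hk))
    rw [h']
    show k * O.n * k⁻¹ * T.t * (k * O.n * k⁻¹ * T.t) = T.t
    rw [hc.mul_mul_mul_comm, e, T.t_sq, mul_one]

/-- A lift of the first double transposition commutes with the swap. -/
theorem exists_v1 : ∃ v, ∃ hv : v ∈ T.K, O.π ⟨v, hv⟩ = P8.q1 ∧ v * v = T.t ∧ v * S.x = S.x * v := by
  obtain ⟨hhq, hhs, hq12, hq3, -, -, -, -, hwy, -⟩ := P8.p8_facts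
  have hqs : Equiv.Perm.sign P8.q1 = 1 := by
    rw [← hhq, map_mul, map_mul, map_inv, hhs, P8.p8_facts.2.2.2.2.2.2.2.2.2.2.2.1, mul_one, inv_one, mul_one]
  obtain ⟨v, hv, hvq⟩ := O.lift hqs
  have hv2 : v * v = T.t := O.dt_sq (g := ⟨v, hv⟩) hhs (hvq.trans hhq.symm)
  refine ⟨v, hv, hvq, hv2, ?_⟩
  set y := H.z * C.f
  have hy : y ∈ T.K := T.K.mul_mem T.z_K T.f_K
  have hπy : O.π ⟨y, hy⟩ = P8.c1 * P8.c2 := by
    rw [show (⟨y, hy⟩ : T.K) = ⟨H.z, T.z_K⟩ * ⟨C.f, T.f_K⟩ from rfl, map_mul, O.pz, O.pf]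
  have hxy : S.x * y * S.x⁻¹ = y := by
    have h := S.x_act.2 cY tY_facts.2.2.1
    rw [w_code.2.2.2, show C.ev cY = y by rw [cY, C.ev_add, C.ev_basis.1, C.ev_basis.2.1]] at h
    exact h
  have hyx : Commute y S.x := (mul_inv_eq_iff_eq_mul.1 hxy).symm
  -- the sign of commutation is the same for the three conjugates
  have key : ∀ {w : G}, S.x * w = w * S.x * T.t → S.x * (y * w * y⁻¹) = y * w * y⁻¹ * S.x * T.t := by
    intro w hw
    calc S.x * (y * w * y⁻¹) = y * (S.x * w) * y⁻¹ := by rw [← mul_assoc, ← mul_assoc, ← hyx.eq]; group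
      _ = y * w * (S.x * (T.t * y⁻¹)) := by rw [hw]; group
      _ = _ := by rw [(t_cen (T.K.inv_mem hy)).eq, ← mul_assoc S.x, ← hyx.inv_left.eq]; group
  have hπx : O.π ⟨S.x, S.x_K⟩ * P8.q1 = P8.q1 * O.π ⟨S.x, S.x_K⟩ := by
    rcases O.px with h | h <;> rw [h]
    · exact wq.1
    · exact wq.2
  rcases O.fibre (g := ⟨v, hv⟩ * ⟨S.x, S.x_K⟩) (g' := ⟨S.x, S.x_K⟩ * ⟨v, hv⟩) (by
    rw [map_mul, map_mul, hvq]; exact hπx.symm) with h | h
  · exact h.symm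
  exfalso
  have h1 : S.x * v = v * S.x * T.t := h
  have h2 := key h1
  have h3 := key h2
  set v2 := y * v * y⁻¹ with hv2'
  set v3 := y * v2 * y⁻¹ with hv3
  have hv2K : v2 ∈ T.K := T.K.mul_mem (T.K.mul_mem hy hv) (T.K.inv_mem hy)
  have hv3K : v3 ∈ T.K := T.K.mul_mem (T.K.mul_mem hy hv2K) (T.K.inv_mem hy)
  have hπ2 : O.π ⟨v2, hv2K⟩ = P8.q2 := by
    rw [← hq12, ← hπy, ← hvq, ← map_inv, ← map_mul, ← map_mul]
    rfl
  have hπ3 : O.π ⟨v3, hv3K⟩ = P8.q1 * P8.q2 := by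
    rw [hq3, ← hπy, ← hπ2, ← map_inv, ← map_mul, ← map_mul]
    rfl
  have h12 : S.x * (v * v2) = v * v2 * S.x := by
    calc S.x * (v * v2) = v * S.x * T.t * v2 := by rw [← mul_assoc, h1]
      _ = v * (S.x * v2) * T.t := by rw [mul_assoc _ T.t, (t_cen hv2K).eq]; group
      _ = v * v2 * S.x * (T.t * T.t) := by rw [h2]; group
      _ = _ := by rw [T.t_sq, mul_one]
  have h3' : S.x * v3 = v3 * S.x := by
    have hxt : Commute S.x T.t := (t_cen S.x_K).symm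
    rcases O.fibre (g := ⟨v, hv⟩ * ⟨v2, hv2K⟩) (g' := ⟨v3, hv3K⟩) (by rw [map_mul, hvq, hπ2, hπ3]) with e | e
    · rw [show v3 = v * v2 from e]; exact h12
    · rw [show v3 = v * v2 * T.t from e]
      exact ((show Commute S.x (v * v2) from h12).mul_right hxt).eq
  rw [h3] at h3'
  exact T.t_ne (mul_eq_left.1 h3')
where
  wq : P8.wA * P8.q1 = P8.q1 * P8.wA ∧ P8.wB * P8.q1 = P8.q1 * P8.wB := by decide +kernel

include O in
/-- The swap is even. -/
theorem px_A : O.π ⟨S.x, S.x_K⟩ = P8.wA := by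
  refine O.px.resolve_right fun h => ?_
  obtain ⟨v, hv, -, hv2, hvx⟩ := O.exists_v1
  set w := S.ω * v * S.ω⁻¹ with hw
  have hwK : w ∈ T.K := T.mem_K.2 (by
    rw [hw]
    conv_lhs => arg 2; rw [← S.ω_x]
    conv_rhs => arg 1; rw [← S.ω_x]
    rw [show S.ω * v * S.ω⁻¹ * (S.ω * S.x * S.ω⁻¹) = S.ω * (v * S.x) * S.ω⁻¹ by group, hvx]; group)
  have hw2 : w * w = S.x := by
    rw [hw, show S.ω * v * S.ω⁻¹ * (S.ω * v * S.ω⁻¹) = S.ω * (v * v) * S.ω⁻¹ by group, hv2, S.ω_t]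
  have h1 : Equiv.Perm.sign (O.π ⟨S.x, S.x_K⟩) = 1 := by
    rw [show (⟨S.x, S.x_K⟩ : T.K) = ⟨w, hwK⟩ * ⟨w, hwK⟩ from Subtype.ext hw2.symm, map_mul, map_mul,
      Int.units_mul_self]
  rw [h, P8.p8_facts.2.2.2.2.2.2.2.2.2.2.1] at h1
  exact absurd h1 (by decide)

include O in
/-- A lift of a double transposition turning the swap into its translate. -/
theorem flip : ∃ v, ∃ hv : v ∈ T.K, O.π ⟨v, hv⟩ = P8.vP ∧ v * S.x = T.t * (S.x * v) := by
  obtain ⟨hhq, hhs, -, -, hnq, hqv, hnb, hbc, -, hwAs, -, -, hnps, -⟩ := P8.p8_facts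
  obtain ⟨a, ha, haq, ha2, hax⟩ := O.exists_v1
  set v := O.n * a * O.n⁻¹ with hv
  have hvK : v ∈ T.K := T.K.mul_mem (T.K.mul_mem O.n_K ha) (T.K.inv_mem O.n_K)
  have hπv : O.π ⟨v, hvK⟩ = P8.vP := by
    rw [show (⟨v, hvK⟩ : T.K) = ⟨O.n, O.n_K⟩ * ⟨a, ha⟩ * ⟨O.n, O.n_K⟩⁻¹ from rfl, map_mul, map_mul, map_inv, O.pn,
      haq, hnq]
  refine ⟨v, hvK, hπv, ?_⟩
  have hv2 : v * v = T.t := by
    rw [hv, show O.n * a * O.n⁻¹ * (O.n * a * O.n⁻¹) = O.n * (a * a) * O.n⁻¹ by group, ha2,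
      ← (t_cen O.n_K).eq, mul_inv_cancel_right]
  obtain ⟨g, hg, hge⟩ := P8.p8_facts.2.2.2.2.2.2.2.2.2.2.2.2.2.2.2.2.2.2
  have hav : a * v * (a * v) = T.t := O.dt_sq (g := ⟨a, ha⟩ * ⟨v, hvK⟩) hg (by rw [map_mul, haq, hπv, hge])
  have hanti := anti_comm T.t_sq (t_cen ha).eq (t_cen hvK).eq ha2 hv2 hav
  -- the other factor of the swap commutes with both
  set b := a⁻¹ * S.x with hb
  have hbK : b ∈ T.K := T.K.mul_mem (T.K.inv_mem ha) S.x_K
  have hπb : O.π ⟨b, hbK⟩ = P8.q1 * P8.wA := by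
    rw [show (⟨b, hbK⟩ : T.K) = ⟨a, ha⟩⁻¹ * ⟨S.x, S.x_K⟩ from rfl, map_mul, map_inv, haq, O.px_A,
      inv_eq_of_mul_eq_one_right P8.p8_facts.2.2.2.2.2.2.2.2.2.2.2.2.2.2.2.2.1]
  have hab : Commute a b := (Commute.refl a).inv_right.mul_right hax
  have hnbn : Commute (O.n * b * O.n⁻¹) v := by
    show _ = _
    rw [hv, ← MulAut.conj_apply, ← MulAut.conj_apply, ← map_mul, ← map_mul, hab.eq]
  have hbv : Commute b v := by
    rcases O.fibre (g := ⟨b, hbK⟩) (g' := ⟨O.n, O.n_K⟩ * ⟨b, hbK⟩ * ⟨O.n, O.n_K⟩⁻¹) (by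
      rw [map_mul, map_mul, map_inv, O.pn, hπb, hnb]) with e | e
    · exact (show O.n * b * O.n⁻¹ = b from e) ▸ hnbn
    · have e' : b = O.n * b * O.n⁻¹ * T.t := by
        rw [show O.n * b * O.n⁻¹ = b * T.t from e, mul_assoc, T.t_sq, mul_one]
      rw [e']
      exact hnbn.mul_left (t_cen hvK)
  have hx : S.x = a * b := by rw [hb, mul_inv_cancel_left]
  rw [hx]
  calc v * (a * b) = T.t * T.t * (v * a) * b := by rw [T.t_sq, one_mul]; group
    _ = T.t * (T.t * (v * a) * b) := by group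
    _ = T.t * (a * (v * b)) := by rw [← hanti, mul_assoc a]
    _ = _ := by rw [← hbv.eq, mul_assoc a b v]

include O in
theorem xt_conj : ∃ g : G, g * T.t * g⁻¹ = S.x * T.t := by
  obtain ⟨v, hv, -, h⟩ := O.flip
  refine ⟨v * S.ω, ?_⟩
  rw [show v * S.ω * T.t * (v * S.ω)⁻¹ = v * (S.ω * T.t * S.ω⁻¹) * v⁻¹ by group, S.ω_t, h, ← mul_assoc,
    mul_inv_cancel_right]
  exact (t_cen S.x_K).eq

include O in
/-- The even involutions are conjugate to `t`. -/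
theorem even_invol {g : T.K} (hg : (g : G) * g = 1) (hne : (g : G) ≠ 1) (hs : Equiv.Perm.sign (O.π g) = 1) :
    ∃ k : G, k * T.t * k⁻¹ = g := by
  have hσ : O.π g * O.π g = 1 := by rw [← map_mul, show g * g = 1 from Subtype.ext hg, map_one]
  rcases P8.even_type hσ hs with h | ⟨σ, hσs, h | h⟩
  · exact ⟨1, by rw [((O.ker g).1 h).resolve_left hne]; group⟩
  · exact absurd ((O.dt_sq hσs h.symm).symm.trans hg) T.t_ne
  · obtain ⟨k, hk, hkσ⟩ := O.lift hσs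
    rcases O.fibre (g := ⟨k, hk⟩ * ⟨S.x, S.x_K⟩ * ⟨k, hk⟩⁻¹) (g' := g) (by
      rw [map_mul, map_mul, map_inv, hkσ, O.px_A, h]) with e | e
    · refine ⟨k * S.ω, ?_⟩
      rw [e]
      show k * S.ω * T.t * (k * S.ω)⁻¹ = k * S.x * k⁻¹
      rw [← S.ω_t]; group
    · obtain ⟨m, hm⟩ := O.xt_conj
      refine ⟨k * m, ?_⟩
      rw [e]
      show k * m * T.t * (k * m)⁻¹ = k * S.x * k⁻¹ * T.t
      rw [show k * m * T.t * (k * m)⁻¹ = k * (m * T.t * m⁻¹) * k⁻¹ by group, hm, mul_assoc _ k⁻¹ T.t,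
        ← (t_cen (T.K.inv_mem hk)).eq]
      group

end Co

end Cfsg.Agent.Spor.McLThree
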