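import Cfsg.Agent.Lib.Spor.McLThree.TLine

/-!
A second conjugate of the involution commuting with it, and an element exchanging the two.
-/

set_option autoImplicit false
set_option maxRecDepth 100000
set_option synthInstance.maxSize 4096
set_option linter.unusedSectionVars false

namespace Cfsg.Agent.Spor.McLThree

open Subgroup Cfsg.Agent.Spor.UFourType

universe u

/-- A table involution exchanging the matrices of `t` and of the swap. -/
def mX : ℕ := 1655561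

theorem mX_spec : mX ∈ gT ∧ mM mX mX = mI ∧ mM (mM mX mT0) mX = mW0 ∧ mM (mM mX mW0) mX = mT0 := by
  decide +kernel

theorem swap_facts :
    mM mW0 mT0 = mM mT0 mW0 ∧ mM (mM mW0 mT0) (mM mW0 mT0) = mI ∧
    mM (mM (mM mW0 mT0) mW0) (mM mT0 mW0) = mW0 ∧
    mM (mM (mM (mM mW0 mT0) mX) mW0) (mM mX (mM mT0 mW0)) = mT0 ∧
    mM mT0 mT0 = mI ∧ mM mI mW0 = mW0 ∧ mM mW0 mI = mW0 ∧ mM mI mI = mI := by
  decide +kernel

/-- Two involutions with product of order three are conjugate by the square of the product. -/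
theorem conj_invol {K : Type*} [Group K] {a b : K} (ha : a * a = 1) (hb : b * b = 1) (h : (a * b) ^ 3 = 1) :
    (a * b) ^ 2 * b * ((a * b) ^ 2)⁻¹ = a := by
  have e : ((a * b) ^ 2)⁻¹ = a * b := inv_eq_of_mul_eq_one_right (by rw [← h, pow_succ (a * b) 2])
  rw [e, sq]
  calc a * b * (a * b) * b * (a * b) = a * b * a * (b * b) * (a * b) := by group
    _ = a * b * (a * a) * b := by rw [hb]; group
    _ = a * (b * b) := by rw [ha]; group
    _ = a := by rw [hb, mul_one]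

variable {G : Type u} [Group G] [Finite G] {H : Hyp G}

namespace Sec

variable (C : Sec H)

theorem act_conj {a b b' : G} {A B B' : ℕ} (ha : ActB C.ev a A) (hb : ActB C.ev b B) (hb' : ActB C.ev b' B')
    {M : ℕ} (hM : mM (mM A B) B' = M) : ActB C.ev (a * b * b') M :=
  hM ▸ C.nact_mul (C.nact_mul ha hb) hb'

theorem mI_cube {x : G} (hx : ActB C.ev x mI) : x ^ 3 = 1 := H.J_cube x (C.act_mI_mem hx)

end Sec

/-- The second involution and the exchanging element. -/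
structure Swap {C : Sec H} (T : Tt C) where
  x : G
  ω : G
  x_K : x ∈ T.K
  x_sq : x * x = 1
  x_act : ActB C.ev x mW0
  ω_t : ω * T.t * ω⁻¹ = x
  ω_x : ω * x * ω⁻¹ = T.t

namespace Tt

variable {C : Sec H} (T : Tt C)

include T in
theorem exists_swap : Nonempty (Swap T) := by
  obtain ⟨hS, hSS, hST, hSW⟩ := mX_spec
  obtain ⟨hWT, hWT2, hWc, hXW, hTT, hIW, hWI, hII⟩ := swap_facts
  obtain ⟨σ, hσ⟩ := C.mat_surj hS
  set r := C.rep σ with hr
  have hrA : ActB C.ev r mX := hσ ▸ C.nact_rep σ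
  have hriA : ActB C.ev r⁻¹ mX := by
    have h := C.nact_M (inv_mem (C.rep_mem σ))
    rw [show (⟨(C.rep σ)⁻¹, inv_mem (C.rep_mem σ)⟩ : H.M) = (⟨C.rep σ, C.rep_mem σ⟩ : H.M)⁻¹ from rfl, map_inv,
      C.θ_rep] at h
    have h1 : C.mat (σ * σ) = mI := by
      rw [← hSS, ← hσ]
      exact C.act_eq (C.mat_act _) (C.act_comp (C.mat_act σ) (C.mat_act σ))
    have h2 : σ * σ = 1 := C.mat_inj (h1.trans (C.act_eq C.act_one' (C.mat_act 1)))
    rwa [inv_eq_of_mul_eq_one_right h2, hσ] at h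
  set x0 := r * T.t * r⁻¹ with hx0
  have hx0A : ActB C.ev x0 mW0 := C.act_conj hrA T.t_act hriA hST
  have hx02 : x0 * x0 = 1 := by
    rw [hx0, show r * T.t * r⁻¹ * (r * T.t * r⁻¹) = r * (T.t * T.t) * r⁻¹ by group, T.t_sq]; group
  set a := x0 * T.t with ha
  have haA : ActB C.ev a (mM mW0 mT0) := C.nact_mul hx0A T.t_act
  have haiA : ActB C.ev a⁻¹ (mM mT0 mW0) := by
    have h := C.nact_mul T.t_act hx0A
    rwa [show T.t * x0 = a⁻¹ by
      rw [ha, mul_inv_rev, inv_eq_of_mul_eq_one_right hx02, inv_eq_of_mul_eq_one_right T.t_sq]] at h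
  have ha6 : (a * a) ^ 3 = 1 := C.mI_cube (hWT2 ▸ C.nact_mul haA haA)
  set x := a * x0 * a⁻¹ with hx
  have hxA : ActB C.ev x mW0 := C.act_conj haA hx0A haiA hWc
  have hx2 : x * x = 1 := by
    rw [hx, show a * x0 * a⁻¹ * (a * x0 * a⁻¹) = a * (x0 * x0) * a⁻¹ by group, hx02]; group
  have hai : a⁻¹ = T.t * x0 := by
    rw [ha, mul_inv_rev, inv_eq_of_mul_eq_one_right hx02, inv_eq_of_mul_eq_one_right T.t_sq]
  have hxt2 : x * T.t * (x * T.t) = 1 := by
    rw [← ha6, hx, hai, show a = x0 * T.t from rfl]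
    simp only [pow_succ, pow_zero, one_mul, mul_assoc]
  have hxK : x ∈ T.K := T.mem_K.2 (by
    have := mul_eq_one_iff_eq_inv.1 hxt2
    rwa [mul_inv_rev, inv_eq_of_mul_eq_one_right T.t_sq, inv_eq_of_mul_eq_one_right hx2] at this)
  -- the exchanging element
  set r0 := a * r with hr0
  have hr0t : r0 * T.t * r0⁻¹ = x := by rw [hr0, hx, hx0]; group
  have hr0A : ActB C.ev r0 (mM (mM mW0 mT0) mX) := C.nact_mul haA hrA
  have hr0iA : ActB C.ev r0⁻¹ (mM mX (mM mT0 mW0)) := by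
    rw [hr0, mul_inv_rev]; exact C.nact_mul hriA haiA
  set q := r0 * x * r0⁻¹ with hq
  have hqA : ActB C.ev q mT0 := C.act_conj hr0A hxA hr0iA hXW
  have hq2 : q * q = 1 := by
    rw [hq, show r0 * x * r0⁻¹ * (r0 * x * r0⁻¹) = r0 * (x * x) * r0⁻¹ by group, hx2]; group
  have htqJ : T.t * q ∈ H.J := C.act_mI_mem (hTT ▸ C.nact_mul T.t_act hqA)
  have hj1 := conj_invol T.t_sq hq2 (H.J_cube _ htqJ)
  set j1 := (T.t * q) ^ 2 with hj1'
  set r1 := j1 * r0 with hr1
  have hr1x : r1 * x * r1⁻¹ = T.t := by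
    rw [← hj1, hr1, hq]; group
  set q2 := r1 * T.t * r1⁻¹ with hq2'
  have hq2e : q2 = j1 * x * j1⁻¹ := by rw [hq2', hr1, ← hr0t]; group
  have hj1J : j1 ∈ H.J := pow_mem htqJ 2
  have hq2A : ActB C.ev q2 mW0 := by
    rw [hq2e]
    exact C.act_conj (C.nact_J hj1J) hxA (C.nact_J (inv_mem hj1J)) (by rw [hIW, hWI])
  have hq22 : q2 * q2 = 1 := by
    rw [hq2', show r1 * T.t * r1⁻¹ * (r1 * T.t * r1⁻¹) = r1 * (T.t * T.t) * r1⁻¹ by group, T.t_sq]; group
  have hq2t : q2 * T.t = T.t * q2 := by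
    rw [hq2']
    conv_lhs => arg 2; rw [← hr1x]
    conv_rhs => arg 1; rw [← hr1x]
    rw [show r1 * T.t * r1⁻¹ * (r1 * x * r1⁻¹) = r1 * (T.t * x) * r1⁻¹ by group, ← T.mem_K.1 hxK]
    group
  have hxq : x * q2 ∈ H.J := by
    refine C.act_mI_mem ?_
    have h := C.nact_mul hxA hq2A
    rwa [(t_rels T.B T.B_mem).1] at h
  have hc := conj_invol hx2 hq22 (H.J_cube _ hxq)
  set c := (x * q2) ^ 2 with hc'
  have hct : Commute c T.t := ((show Commute x T.t from T.mem_K.1 hxK).mul_left hq2t).pow_left 2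
  refine ⟨⟨x, c * r1, hxK, hx2, hxA, ?_, ?_⟩⟩
  · rw [← hc, hq2']; group
  · rw [show c * r1 * x * (c * r1)⁻¹ = c * (r1 * x * r1⁻¹) * c⁻¹ by group, hr1x, hct.eq, mul_inv_cancel_right]

end Tt

end Cfsg.Agent.Spor.McLThree
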