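import Mathlib

/-!
Facts on a few permutations of eight points, each decided from the images of a few points.
-/

set_option autoImplicit false
set_option maxRecDepth 100000
set_option synthInstance.maxSize 4096

namespace Cfsg.Agent.Spor.McLThree.P8

/-- Permutations of eight points. -/
abbrev Pm := Equiv.Perm (Fin 8)

attribute [local instance 10000] List.decidableBAll List.decidableBEx

/-- A permutation from the tables of itself and its inverse. -/
def mkP (l l' : List (Fin 8)) (h : ∀ i : Fin 8, l'.getD (l.getD i.val i).val (l.getD i.val i) = i)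
    (h' : ∀ i : Fin 8, l.getD (l'.getD i.val i).val (l'.getD i.val i) = i) : Pm where
  toFun i := l.getD i.val i
  invFun i := l'.getD i.val i
  left_inv := h
  right_inv := h'

/-- The first three-cycle. -/
def c1 : Pm := mkP [1, 2, 0, 3, 4, 5, 6, 7] [2, 0, 1, 3, 4, 5, 6, 7] (by decide +kernel) (by decide +kernel)

/-- The second three-cycle. -/
def c2 : Pm := mkP [0, 1, 2, 4, 5, 3, 6, 7] [0, 1, 2, 5, 3, 4, 6, 7] (by decide +kernel) (by decide +kernel)

/-- The four double transpositions exchanging the two triples. -/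
def wA : Pm := mkP [3, 4, 5, 0, 1, 2, 7, 6] [3, 4, 5, 0, 1, 2, 7, 6] (by decide +kernel) (by decide +kernel)

/-- The odd exchange. -/
def wB : Pm := mkP [3, 4, 5, 0, 1, 2, 6, 7] [3, 4, 5, 0, 1, 2, 6, 7] (by decide +kernel) (by decide +kernel)

/-- The double transposition inverting the second cycle. -/
def nP : Pm := mkP [0, 1, 2, 4, 3, 5, 7, 6] [0, 1, 2, 4, 3, 5, 7, 6] (by decide +kernel) (by decide +kernel)

/-- The odd inverter. -/
def nB : Pm := mkP [0, 1, 2, 4, 3, 5, 6, 7] [0, 1, 2, 4, 3, 5, 6, 7] (by decide +kernel) (by decide +kernel)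

/-- The transposition of the two last points. -/
def dP : Pm := mkP [0, 1, 2, 3, 4, 5, 7, 6] [0, 1, 2, 3, 4, 5, 7, 6] (by decide +kernel) (by decide +kernel)

/-- Three double transpositions with product one. -/
def q1 : Pm := mkP [3, 4, 2, 0, 1, 5, 6, 7] [3, 4, 2, 0, 1, 5, 6, 7] (by decide +kernel) (by decide +kernel)

/-- The second one. -/
def q2 : Pm := mkP [0, 4, 5, 3, 1, 2, 6, 7] [0, 4, 5, 3, 1, 2, 6, 7] (by decide +kernel) (by decide +kernel)

/-- One not commuting with `q1` modulo the centre. -/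
def vP : Pm := mkP [4, 3, 2, 1, 0, 5, 6, 7] [4, 3, 2, 1, 0, 5, 6, 7] (by decide +kernel) (by decide +kernel)

/-- An even permutation taking `nP` to `q1`. -/
def hq : Pm := mkP [6, 7, 2, 1, 4, 5, 3, 0] [7, 3, 2, 6, 4, 5, 0, 1] (by decide +kernel) (by decide +kernel)

/-- A generator of the Sylow two-subgroup. -/
def g1 : Pm := mkP [3, 1, 2, 0, 4, 5, 6, 7] [3, 1, 2, 0, 4, 5, 6, 7] (by decide +kernel) (by decide +kernel)

/-- The second generator. -/
def g2 : Pm := mkP [1, 0, 2, 4, 3, 5, 6, 7] [1, 0, 2, 4, 3, 5, 6, 7] (by decide +kernel) (by decide +kernel)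

/-- The third generator. -/
def g3 : Pm := mkP [2, 6, 0, 5, 7, 3, 1, 4] [2, 6, 0, 5, 7, 3, 1, 4] (by decide +kernel) (by decide +kernel)

/-- A function from a table. -/
def tab (l : List (Fin 8)) (i : Fin 8) : Fin 8 := l.getD i.val i

/-- The tables. -/
def tc1 : Fin 8 → Fin 8 := tab [1, 2, 0, 3, 4, 5, 6, 7]

/-- The tables. -/
def tc2 : Fin 8 → Fin 8 := tab [0, 1, 2, 4, 5, 3, 6, 7]

/-- The tables. -/
def tc3 : Fin 8 → Fin 8 := tab [0, 1, 2, 5, 3, 4, 6, 7]

/-- The tables. -/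
def tc12 : Fin 8 → Fin 8 := tab [1, 2, 0, 4, 5, 3, 6, 7]

/-- The tables. -/
def tw : Fin 8 → Fin 8 := tab [3, 4, 5, 0, 1, 2, 7, 6]

theorem tab_spec : (∀ i, c1 i = tc1 i) ∧ (∀ i, c2 i = tc2 i) ∧ (∀ i, (c2 * c2) i = tc3 i) ∧
    (∀ i, (c1 * c2) i = tc12 i) ∧ (∀ i, wA i = tw i) := by
  decide +kernel

/-- The function given by the images of the two first points of the triples and of the two last points. -/
def build (p q : Fin 8 → Fin 8) (a b c d : Fin 8) : Fin 8 → Fin 8 := fun i =>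
  match i.val with
  | 0 => a
  | 1 => p a
  | 2 => p (p a)
  | 3 => b
  | 4 => q b
  | 5 => q (q b)
  | 6 => c
  | _ => d

theorem eq_build {σ : Pm} {p q : Pm} (h1 : σ * c1 = p * σ) (h2 : σ * c2 = q * σ) (i : Fin 8) :
    σ i = build p q (σ 0) (σ 3) (σ 6) (σ 7) i := by
  have e1 : ∀ j, σ (c1 j) = p (σ j) := fun j => Equiv.congr_fun h1 j
  have e2 : ∀ j, σ (c2 j) = q (σ j) := fun j => Equiv.congr_fun h2 j
  have a1 : σ 1 = p (σ 0) := by rw [← e1, show c1 0 = 1 by decide]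
  have a2 : σ 2 = p (p (σ 0)) := by rw [← a1, ← e1, show c1 1 = 2 by decide]
  have b1 : σ 4 = q (σ 3) := by rw [← e2, show c2 3 = 4 by decide]
  have b2 : σ 5 = q (q (σ 3)) := by rw [← b1, ← e2, show c2 4 = 5 by decide]
  fin_cases i
  exacts [rfl, a1, a2, rfl, b1, b2, rfl, rfl]

/-- The conjugates by the powers of a permutation of order three. -/
def conj3 (c σ : Pm) : List Pm := [σ, c * σ * c⁻¹, c⁻¹ * σ * c]

theorem shape_x_aux : ∀ c : Fin 8, tc1 c = c → ∀ d : Fin 8, tc1 d = d → ∀ a b : Fin 8,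
    (∀ i, build tc2 tc1 a b c d (build tc2 tc1 a b c d i) = i) →
      ((conj3 c1 wA ++ conj3 c1 wB).any fun σ => (List.finRange 8).all fun i => σ i == build tc2 tc1 a b c d i) =
        true := by
  decide +kernel

theorem shape_x {σ : Pm} (h2 : σ * σ = 1) (h : σ * c1 = c2 * σ) : σ ∈ conj3 c1 wA ++ conj3 c1 wB := by
  have h' : σ * c2 = c1 * σ := by
    have hσ : σ⁻¹ = σ := inv_eq_of_mul_eq_one_right h2
    calc σ * c2 = σ * (σ * c1 * σ⁻¹) := by rw [h, mul_inv_cancel_right]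
      _ = σ * σ * c1 * σ⁻¹ := by group
      _ = _ := by rw [h2, one_mul, hσ]
  obtain ⟨t1, t2, -, -, -⟩ := tab_spec
  have hF : ∀ i, σ i = build tc2 tc1 (σ 0) (σ 3) (σ 6) (σ 7) i := fun i => by
    rw [eq_build h h' i, funext t2, funext t1]
  have hfix : ∀ i, c1 i = i → c2 i = i → c1 (σ i) = σ i := fun i _ hi => by
    have := Equiv.congr_fun h' i
    simp only [Equiv.Perm.mul_apply, hi] at this
    exact this.symm
  have := shape_x_aux (σ 6) (by rw [← t1]; exact hfix 6 (by decide) (by decide)) (σ 7)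
    (by rw [← t1]; exact hfix 7 (by decide) (by decide)) (σ 0) (σ 3)
    (fun i => by rw [← hF, ← hF]; exact Equiv.congr_fun h2 i)
  simp only [List.any_eq_true, List.all_eq_true, beq_iff_eq] at this
  obtain ⟨τ, hτ, he⟩ := this
  rwa [show σ = τ from Equiv.ext fun i => (hF i).trans (he i (List.mem_finRange i)).symm]

theorem shape_n_aux : ∀ c : Fin 8, tc1 c = c → tc2 c = c → ∀ d : Fin 8, tc1 d = d → tc2 d = d → ∀ a b : Fin 8,
    (∀ i, build tc1 tc3 a b c d (build tc1 tc3 a b c d i) = i) →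
      (∀ i, build tc1 tc3 a b c d (tc2 i) = tc3 (build tc1 tc3 a b c d i)) →
      ((conj3 c2 nP ++ conj3 c2 nB).any fun σ => (List.finRange 8).all fun i => σ i == build tc1 tc3 a b c d i) =
        true := by
  decide +kernel

theorem shape_n {σ : Pm} (h2 : σ * σ = 1) (h : σ * c1 = c1 * σ) (h' : σ * c2 = c2 * c2 * σ) :
    σ ∈ conj3 c2 nP ++ conj3 c2 nB := by
  obtain ⟨t1, t2, t3, -, -⟩ := tab_spec
  have hF : ∀ i, σ i = build tc1 tc3 (σ 0) (σ 3) (σ 6) (σ 7) i := fun i => by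
    rw [eq_build h h' i, funext t1, funext t3]
  have e1 : ∀ i, σ (c1 i) = c1 (σ i) := fun i => Equiv.congr_fun h i
  have e2 : ∀ i, σ (c2 i) = (c2 * c2) (σ i) := fun i => Equiv.congr_fun h' i
  have f1 : ∀ i, c1 i = i → tc1 (σ i) = σ i := fun i hi => by
    rw [← t1]; have := e1 i; rw [hi] at this; exact this.symm
  have f2 : ∀ i, c2 i = i → tc2 (σ i) = σ i := fun i hi => by
    have h' := e2 i
    rw [hi] at h'
    rw [← t2]
    conv_lhs => rw [h']
    show (c2 * (c2 * c2)) (σ i) = σ i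
    rw [show c2 * (c2 * c2) = 1 by decide +kernel]
    rfl
  have := shape_n_aux (σ 6) (f1 6 (by decide)) (f2 6 (by decide)) (σ 7) (f1 7 (by decide)) (f2 7 (by decide)) (σ 0) (σ 3)
    (fun i => by rw [← hF, ← hF]; exact Equiv.congr_fun h2 i)
    (fun i => by rw [← hF, ← hF, ← t2, ← t3]; exact e2 i)
  simp only [List.any_eq_true, List.all_eq_true, beq_iff_eq] at this
  obtain ⟨τ, hτ, he⟩ := this
  rwa [show σ = τ from Equiv.ext fun i => (hF i).trans (he i (List.mem_finRange i)).symm]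

/-- The nine elements. -/
def d9 : List Pm := [1, c1, c1 * c1, c2, c2 * c2, c1 * c2, c1 * (c2 * c2), c1 * c1 * c2, c1 * c1 * (c2 * c2)]

/-- The four three-cycles among them. -/
def cyc4 : List Pm := [c1, c1 * c1, c2, c2 * c2]

theorem d9_spec : (∀ a ∈ d9, ∀ b ∈ d9, a * b ∈ d9 ∧ a * b = b * a) ∧ (∀ a ∈ d9, a * a * a = 1) ∧ d9.Nodup ∧
    d9.length = 9 := by
  decide +kernel

/-- The permutations normalising the plane. -/
def nrm8 : List Pm :=
  [1, mkP [0, 2, 1, 3, 4, 5, 6, 7] [0, 2, 1, 3, 4, 5, 6, 7] (by decide +kernel) (by decide +kernel), mkP [0, 1, 2, 3, 5, 4, 6, 7] [0, 1, 2, 3, 5, 4, 6, 7] (by decide +kernel) (by decide +kernel),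
    mkP [0, 2, 1, 3, 5, 4, 6, 7] [0, 2, 1, 3, 5, 4, 6, 7] (by decide +kernel) (by decide +kernel)].flatMap fun p => [p, wB * p]

theorem normalize : ∀ p ∈ cyc4, ∀ q ∈ cyc4, q ≠ p → q ≠ p * p →
    ∃ g ∈ nrm8, g * p * g⁻¹ = c1 ∧ g * q * g⁻¹ = c2 := by
  decide +kernel

/-- The product of the two cycles. -/
def c12 : Pm := c1 * c2

theorem c12_aux : ∀ c : Fin 8, tc12 c = c → ∀ d : Fin 8, tc12 d = d → ∀ a b : Fin 8,
    (∀ i, build tc12 tc12 a b c d (build tc12 tc12 a b c d (build tc12 tc12 a b c d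
      (build tc12 tc12 a b c d (build tc12 tc12 a b c d i)))) = i) →
      ∀ i, build tc12 tc12 a b c d i = i := by
  decide +kernel

theorem c12_no_five {τ : Pm} (h : τ * c12 = c12 * τ) (h5 : τ ^ 5 = 1) : τ = 1 := by
  obtain ⟨-, -, -, t4, -⟩ := tab_spec
  have e : ∀ j, τ (tc12 j) = tc12 (τ j) := fun j => by rw [← t4, ← t4]; exact Equiv.congr_fun h j
  have a1 : τ 1 = tc12 (τ 0) := by rw [← e, show tc12 0 = 1 by decide]
  have a2 : τ 2 = tc12 (tc12 (τ 0)) := by rw [← a1, ← e, show tc12 1 = 2 by decide]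
  have b1 : τ 4 = tc12 (τ 3) := by rw [← e, show tc12 3 = 4 by decide]
  have b2 : τ 5 = tc12 (tc12 (τ 3)) := by rw [← b1, ← e, show tc12 4 = 5 by decide]
  have hF : ∀ i, τ i = build tc12 tc12 (τ 0) (τ 3) (τ 6) (τ 7) i := fun i => by
    fin_cases i
    exacts [rfl, a1, a2, rfl, b1, b2, rfl, rfl]
  have c6 : tc12 (τ 6) = τ 6 := by rw [← e, show tc12 6 = 6 by decide]
  have c7 : tc12 (τ 7) = τ 7 := by rw [← e, show tc12 7 = 7 by decide]
  refine Equiv.ext fun i => (hF i).trans (c12_aux _ c6 _ c7 _ _ (fun j => ?_) i)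
  rw [← hF, ← hF, ← hF, ← hF, ← hF]
  exact Equiv.congr_fun h5 j

theorem six_conj : ∀ σ ∈ d9, σ ∉ cyc4 → σ ≠ 1 → ∃ g ∈ nrm8, g * σ * g⁻¹ = c12 := by
  decide +kernel

/-- The function of an element of the Sylow two-subgroup. -/
def build8 (w : Fin 8 → Fin 8) (a b c d : Fin 8) : Fin 8 → Fin 8 := fun i =>
  match i.val with
  | 0 => a
  | 3 => w a
  | 1 => b
  | 4 => w b
  | 2 => c
  | 5 => w c
  | 6 => d
  | _ => w d

/-- Whether a point is in the first block. -/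
def blk (i : Fin 8) : Bool := i.val = 0 || i.val = 1 || i.val = 3 || i.val = 4

theorem pow8_aux : ∀ a b : Fin 8, blk b = blk a → ∀ c : Fin 8, blk c = !blk a → ∀ d : Fin 8, blk d = !blk a →
    ((List.finRange 8).map (build8 tw a b c d)).Nodup →
      ∀ i, build8 tw a b c d (build8 tw a b c d (build8 tw a b c d (build8 tw a b c d (build8 tw a b c d
        (build8 tw a b c d (build8 tw a b c d (build8 tw a b c d i))))))) = i := by
  decide +kernel

/-- The Sylow two-subgroup. -/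
def two : Subgroup Pm where
  carrier := {σ | σ * wA = wA * σ ∧ ∀ i j, blk i = blk j → blk (σ i) = blk (σ j)}
  one_mem' := ⟨rfl, fun _ _ h => h⟩
  mul_mem' := by
    rintro σ τ ⟨h1, h2⟩ ⟨k1, k2⟩
    exact ⟨by rw [mul_assoc, k1, ← mul_assoc, h1, mul_assoc], fun i j h => h2 _ _ (k2 i j h)⟩
  inv_mem' := by
    rintro σ ⟨h1, h2⟩
    refine ⟨(Commute.inv_left (show Commute σ wA from h1)).eq, fun i j h => ?_⟩
    obtain ⟨k, hk⟩ : ∃ k, blk k = !blk (σ⁻¹ i) := by
      cases blk (σ⁻¹ i)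
      · exact ⟨0, rfl⟩
      · exact ⟨2, rfl⟩
    by_contra hne
    have hj : blk (σ⁻¹ j) = blk k := by
      rw [hk]
      generalize blk (σ⁻¹ i) = u, blk (σ⁻¹ j) = v at hne ⊢
      cases u <;> cases v <;> simp_all
    have hall : ∀ m, blk (σ m) = blk i := fun m => by
      by_cases hm : blk m = blk (σ⁻¹ i)
      · simpa using h2 m (σ⁻¹ i) hm
      · have hm' : blk m = blk (σ⁻¹ j) := by
          rw [hj, hk]
          generalize blk (σ⁻¹ i) = u, blk m = v at hm ⊢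
          cases u <;> cases v <;> simp_all
        rw [h]; simpa using h2 m (σ⁻¹ j) hm'
    have p := hall (σ⁻¹ 0)
    have q := hall (σ⁻¹ 2)
    rw [show σ (σ⁻¹ 0) = 0 from σ.apply_symm_apply 0] at p
    rw [show σ (σ⁻¹ 2) = 2 from σ.apply_symm_apply 2] at q
    exact absurd (p.trans q.symm) (by decide)

theorem two_pow {σ : Pm} (hσ : σ ∈ two) : σ ^ 8 = 1 := by
  obtain ⟨h1, h2⟩ := hσ
  obtain ⟨-, -, -, -, t5⟩ := tab_spec
  have e : ∀ j, σ (tw j) = tw (σ j) := fun j => by rw [← t5, ← t5]; exact Equiv.congr_fun h1 j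
  have e0 : σ 3 = tw (σ 0) := by rw [← e, show tw 0 = 3 by decide]
  have e1 : σ 4 = tw (σ 1) := by rw [← e, show tw 1 = 4 by decide]
  have e2 : σ 5 = tw (σ 2) := by rw [← e, show tw 2 = 5 by decide]
  have e6 : σ 7 = tw (σ 6) := by rw [← e, show tw 6 = 7 by decide]
  have hF : ∀ i, σ i = build8 tw (σ 0) (σ 1) (σ 2) (σ 6) i := fun i => by
    fin_cases i
    exacts [rfl, rfl, rfl, e0, e1, e2, rfl, e6]
  have hb : blk (σ 1) = blk (σ 0) := h2 1 0 rfl
  have hb' : blk (σ 2) = !blk (σ 0) := by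
    by_contra hne
    have hcd : blk (σ 2) = blk (σ 0) := by
      revert hne
      generalize blk (σ 2) = u
      generalize blk (σ 0) = v
      cases u <;> cases v <;> decide
    have hall : ∀ m, blk (σ m) = blk (σ 0) := fun m => by
      by_cases hm : blk m = blk 0
      · exact h2 m 0 hm
      · refine (h2 m 2 ?_).trans hcd
        revert hm
        generalize blk m = u
        cases u <;> decide
    have p := hall (σ⁻¹ 0)
    have q := hall (σ⁻¹ 2)
    rw [show σ (σ⁻¹ 0) = 0 from σ.apply_symm_apply 0] at p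
    rw [show σ (σ⁻¹ 2) = 2 from σ.apply_symm_apply 2] at q
    exact absurd (p.trans q.symm) (by decide)
  have hd : blk (σ 6) = !blk (σ 0) := (h2 6 2 rfl).trans hb'
  have hnd : ((List.finRange 8).map (build8 tw (σ 0) (σ 1) (σ 2) (σ 6))).Nodup := by
    rw [← funext hF]
    exact (List.nodup_finRange 8).map σ.injective
  refine Equiv.ext fun i => ?_
  have := pow8_aux _ _ hb _ hb' _ hd hnd i
  rw [← hF, ← hF, ← hF, ← hF, ← hF, ← hF, ← hF, ← hF] at this
  exact this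

theorem g_two : g1 ∈ two ∧ g2 ∈ two ∧ g3 ∈ two ∧ vP ∈ two := by
  refine ⟨⟨by decide +kernel, ?_⟩, ⟨by decide +kernel, ?_⟩, ⟨by decide +kernel, ?_⟩, ⟨by decide +kernel, ?_⟩⟩
  all_goals decide +kernel

/-- The function of an element commuting with the generators. -/
def cFun (a : Fin 8) : Fin 8 → Fin 8 :=
  tab [a, g2 a, g3 a, g1 a, g2 (g1 a), g3 (g1 a), g3 (g2 a), g3 (g2 (g1 a))]

/-- The centre of the Sylow two-subgroup. -/
theorem two_center_aux : ∀ a : Fin 8,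
    (∀ i, cFun a (g1 i) = g1 (cFun a i)) → (∀ i, cFun a (g2 i) = g2 (cFun a i)) →
      (∀ i, cFun a (g3 i) = g3 (cFun a i)) → (∀ i, cFun a i = i) ∨ ∀ i, cFun a i = wA i := by
  decide +kernel

theorem two_center {σ : Pm} (h1 : σ * g1 = g1 * σ) (h2 : σ * g2 = g2 * σ) (h3 : σ * g3 = g3 * σ) :
    σ = 1 ∨ σ = wA := by
  have e1 : ∀ j, σ (g1 j) = g1 (σ j) := fun j => Equiv.congr_fun h1 j
  have e2 : ∀ j, σ (g2 j) = g2 (σ j) := fun j => Equiv.congr_fun h2 j
  have e3 : ∀ j, σ (g3 j) = g3 (σ j) := fun j => Equiv.congr_fun h3 j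
  have hF : (σ : Fin 8 → Fin 8) = cFun (σ 0) := by
    have a3 : σ 3 = g1 (σ 0) := by rw [← e1, show g1 0 = 3 by decide]
    have a1 : σ 1 = g2 (σ 0) := by rw [← e2, show g2 0 = 1 by decide]
    have a2 : σ 2 = g3 (σ 0) := by rw [← e3, show g3 0 = 2 by decide]
    have a4 : σ 4 = g2 (g1 (σ 0)) := by rw [← a3, ← e2, show g2 3 = 4 by decide]
    have a5 : σ 5 = g3 (g1 (σ 0)) := by rw [← a3, ← e3, show g3 3 = 5 by decide]
    have a6 : σ 6 = g3 (g2 (σ 0)) := by rw [← a1, ← e3, show g3 1 = 6 by decide]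
    have a7 : σ 7 = g3 (g2 (g1 (σ 0))) := by rw [← a4, ← e3, show g3 4 = 7 by decide]
    funext i
    fin_cases i
    exacts [rfl, a1, a2, a3, a4, a5, a6, a7]
  rw [hF] at e1 e2 e3
  rcases two_center_aux _ e1 e2 e3 with h | h
  · exact Or.inl (Equiv.ext fun i => (congrFun hF i).trans (h i))
  · exact Or.inr (Equiv.ext fun i => (congrFun hF i).trans (h i))

theorem p8_facts :
    hq * nP * hq⁻¹ = q1 ∧ Equiv.Perm.sign hq = 1 ∧ (c1 * c2) * q1 * (c1 * c2)⁻¹ = q2 ∧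
    q1 * q2 = (c1 * c2) * q2 * (c1 * c2)⁻¹ ∧ nP * q1 * nP⁻¹ = vP ∧ q1 * vP = vP * q1 ∧
    nP * (q1 * wA) * nP⁻¹ = q1 * wA ∧ q1 * wA = wA * q1 ∧ wA * (c1 * c2) = (c1 * c2) * wA ∧
    Equiv.Perm.sign wA = 1 ∧ Equiv.Perm.sign wB = -1 ∧ Equiv.Perm.sign nP = 1 ∧ Equiv.Perm.sign nB = -1 ∧
    Equiv.Perm.sign dP = -1 ∧ dP * wA = wA * dP ∧ wA * vP = vP * wA ∧ q1 * q1 = 1 ∧ wA ≠ 1 ∧
    (∃ g, Equiv.Perm.sign g = 1 ∧ g * nP * g⁻¹ = q1 * vP) := by
  refine ⟨?_, ?_, ?_, ?_, ?_, ?_, ?_, ?_, ?_, ?_, ?_, ?_, ?_, ?_, ?_, ?_, ?_, ?_,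
    ⟨mkP [6, 7, 2, 3, 4, 5, 0, 1] [6, 7, 2, 3, 4, 5, 0, 1] (by decide +kernel) (by decide +kernel), ?_, ?_⟩⟩
  all_goals decide +kernel

end Cfsg.Agent.Spor.McLThree.P8
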