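import Cfsg.Agent.Lib.Spor.McLThree.TCaseA
import Cfsg.Agent.Lib.Spor.McLThree.TCaseE
import Cfsg.Agent.Lib.Spor.McLThree.TInvol
import Cfsg.Agent.Lib.Spor.McLThree.TPerm

/-!
Coordinates on eight points for the centralizer of the involution.
-/

set_option autoImplicit false
set_option maxRecDepth 100000
set_option synthInstance.maxSize 4096
set_option linter.unusedSectionVars false

namespace Cfsg.Agent.Spor.McLThree

open Subgroup Cfsg.Agent.Spor.UFourType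

universe u

namespace P8

/-- The plane. -/
def D0 : Subgroup Pm where
  carrier := {σ | σ ∈ d9}
  one_mem' := List.mem_cons_self
  mul_mem' := fun {a b} ha hb => (d9_spec.1 a ha b hb).1
  inv_mem' := fun {a} ha => by
    show a⁻¹ ∈ d9
    rw [inv_eq_of_mul_eq_one_right (show a * (a * a) = 1 by rw [← mul_assoc]; exact d9_spec.2.1 a ha)]
    exact (d9_spec.1 a ha a ha).1

theorem card_D0 : Nat.card D0 = 9 := by
  show Nat.card {σ : Pm // σ ∈ d9} = 9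
  rw [Nat.card_congr (Equiv.subtypeEquivRight fun σ => (List.mem_toFinset (l := d9)).symm), Nat.card_eq_finsetCard,
    List.toFinset_card_of_nodup d9_spec.2.2.1, d9_spec.2.2.2]

theorem card_three_le {R : Subgroup Pm} (hR : IsPGroup 3 R) : Nat.card R ≤ 9 := by
  haveI : Fact (Nat.Prime 3) := ⟨Nat.prime_three⟩
  obtain ⟨k, hk⟩ := IsPGroup.iff_card.1 hR
  have hd := R.card_subgroup_dvd_card
  rw [hk, Nat.card_perm, Nat.card_fin, show Nat.factorial 8 = 40320 from rfl] at hd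
  rw [hk]
  rcases le_or_gt k 2 with h | h
  · calc 3 ^ k ≤ 3 ^ 2 := Nat.pow_le_pow_right (by norm_num) h
      _ = 9 := rfl
  · exact absurd ((pow_dvd_pow 3 (show 3 ≤ k by omega)).trans hd) (by norm_num)

/-- An elementary group of order nine is conjugate to the plane. -/
theorem conj_D0 {R : Subgroup Pm} (hR : IsPGroup 3 R) : ∃ g : Pm, ∀ a ∈ R, g * a * g⁻¹ ∈ d9 := by
  haveI : Fact (Nat.Prime 3) := ⟨Nat.prime_three⟩
  obtain ⟨S, hS⟩ := hR.exists_le_sylow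
  obtain ⟨S0, hS0⟩ := (IsPGroup.of_card (n := 2) (by rw [card_D0]; norm_num) : IsPGroup 3 D0).exists_le_sylow
  have h0 : D0 = (S0 : Subgroup Pm) :=
    eq_of_le_of_card_ge hS0 ((card_three_le S0.isPGroup').trans card_D0.ge)
  obtain ⟨g, hg⟩ := MulAction.exists_smul_eq Pm S S0
  refine ⟨g, fun a ha => ?_⟩
  have hmem : g * a * g⁻¹ ∈ ((g • S : Sylow 3 Pm) : Subgroup Pm) := ⟨a, hS ha, rfl⟩
  rw [hg, ← h0] at hmem
  exact hmem

theorem no_five {s g τ : Pm} (hs : g * s * g⁻¹ = c12) (h : τ * s = s * τ) (h5 : τ ^ 5 = 1) : τ = 1 := by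
  have h1 := c12_no_five (τ := g * τ * g⁻¹) (by
    rw [← hs, show g * τ * g⁻¹ * (g * s * g⁻¹) = g * (τ * s) * g⁻¹ by group, h]; group)
    (by rw [conj_pow, h5, mul_one, mul_inv_cancel])
  exact conj_eq_one_iff.1 h1

theorem conj3_mem {c σ τ : Pm} (h : σ ∈ conj3 c τ) : ∃ g, (g = 1 ∨ g = c ∨ g = c⁻¹) ∧ g * σ * g⁻¹ = τ := by
  simp only [conj3, List.mem_cons, List.not_mem_nil, or_false] at h
  rcases h with rfl | rfl | rfl
  · exact ⟨1, Or.inl rfl, by group⟩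
  · exact ⟨c⁻¹, Or.inr (Or.inr rfl), by group⟩
  · exact ⟨c, Or.inr (Or.inl rfl), by group⟩

theorem fix_facts : c1 * c2 = c2 * c1 ∧ c1 * nP = nP * c1 := by decide +kernel

end P8

theorem sl5T : Char.SL25Facts.T ^ 5 = 1 ∧ Char.SL25Facts.T ≠ 1 ∧ Char.SL25Facts.T ≠ -1 := by decide +kernel

theorem w_code : ap mW0 4 = 7 ∧ ap mW0 7 = 4 ∧ vS 2 4 = 8 ∧ ap mW0 cY = cY := by decide +kernel

variable {G : Type u} [Group G] [Finite G] {H : Hyp G}

/-- The coordinates. -/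
structure Co {C : Sec H} {T : Tt C} (S : Swap T) where
  π : T.K →* P8.Pm
  ker : ∀ g : T.K, π g = 1 ↔ (g : G) = 1 ∨ (g : G) = T.t
  alt : ∀ σ : P8.Pm, Equiv.Perm.sign σ = 1 → ∃ g, π g = σ
  caseA : ¬ C.Ext → ∀ g, Equiv.Perm.sign (π g) = 1
  caseE : C.Ext → Function.Surjective π
  pz : π ⟨H.z, T.z_K⟩ = P8.c1
  pf : π ⟨C.f, T.f_K⟩ = P8.c2
  n : G
  n_K : n ∈ T.K
  n_L : n ∈ H.L
  n_sq : n * n = T.t
  n_act : ActB C.ev n T.B
  pn : π ⟨n, n_K⟩ = P8.nP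
  px : π ⟨S.x, S.x_K⟩ = P8.wA ∨ π ⟨S.x, S.x_K⟩ = P8.wB

namespace Tt

variable {C : Sec H} (T : Tt C)

/-- The map onto a group of permutations. -/
theorem exists_pi : ∃ π : T.K →* P8.Pm, (∀ g : T.K, π g = 1 ↔ (g : G) = 1 ∨ (g : G) = T.t) ∧
    (∀ σ : P8.Pm, Equiv.Perm.sign σ = 1 → ∃ g, π g = σ) ∧
    (¬ C.Ext → ∀ g, Equiv.Perm.sign (π g) = 1) ∧ (C.Ext → Function.Surjective π) := by
  have hker : ∀ g : T.K, T.pt' g = 1 ↔ (g : G) = 1 ∨ (g : G) = T.t := by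
    rintro ⟨g, hg⟩
    have h := T.px_eq T.K.one_mem hg
    rw [one_mul, show (⟨1, T.K.one_mem⟩ : T.K) = 1 from rfl, map_one] at h
    exact ⟨fun e => h.1 e.symm, fun e => (h.2 e).symm⟩
  have hs := QuotientGroup.mk'_surjective T.tK
  by_cases hE : C.Ext
  · obtain ⟨e⟩ := T.caseE hE
    refine ⟨e.toMonoidHom.comp T.pt', fun g => e.map_eq_one_iff.trans (hker g), fun σ _ => ?_,
      fun h => absurd hE h, fun _ => e.surjective.comp hs⟩
    exact (e.surjective.comp hs) σ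
  · obtain ⟨e⟩ := T.caseA hE
    refine ⟨(alternatingGroup (Fin 8)).subtype.comp (e.toMonoidHom.comp T.pt'), fun g => ?_, fun σ hσ => ?_,
      fun _ g => Equiv.Perm.mem_alternatingGroup.1 (e (T.pt' g)).2, fun h => absurd h hE⟩
    · rw [← hker g, ← e.map_eq_one_iff]
      exact OneMemClass.coe_eq_one
    · obtain ⟨g, hg⟩ := (e.surjective.comp hs) ⟨σ, Equiv.Perm.mem_alternatingGroup.2 hσ⟩
      exact ⟨g, congrArg Subtype.val hg⟩

theorem exists_n_sq : ∃ n ∈ T.K0, n * n = T.t ∧ ActB C.ev n T.B ∧ n * C.f * n⁻¹ = C.f ^ 2 ∧ n * H.z = H.z * n := by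
  obtain ⟨n, hn, hnA, hnf, hnz⟩ := T.exists_n0
  have hA := C.nact_mul hnA hnA
  rw [(t_rels T.B T.B_mem).2.1] at hA
  have hnK := (T.K0_le hn).2
  refine ⟨n, hn, ?_, hnA, hnf, hnz⟩
  rcases T.small_P (T.K.mul_mem hnK hnK) (Or.inr rfl) hA with h | h
  · exact absurd (C.nact_unique (C.nact_J h.1) hA) iso_fC.2.2.2.2.2.2.2
  obtain ⟨i, hi, j, hj, hp⟩ := T.P_code h
  have hK0 : T.t * (n * n) ∈ T.K0 := mul_mem T.t_K0 (mul_mem hn hn)
  have hzi : H.z ^ i = 1 := T.K0_Z (by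
    rw [show H.z ^ i = T.t * (n * n) * (C.f ^ j)⁻¹ by rw [hp]; group]
    exact mul_mem hK0 (inv_mem (pow_mem T.f_K0 j))) (pow_mem (mem_zpowers _) i)
  rw [hzi, one_mul] at hp
  have hnt : Commute n T.t := T.mem_K.1 hnK
  have hc : Commute n (C.f ^ j) := by
    rw [← hp]
    exact hnt.mul_right ((Commute.refl n).mul_right (Commute.refl n))
  have e : n * C.f ^ j * n⁻¹ = C.f ^ (2 * j) := by
    rw [pow_mul, ← hnf]; exact conj_pow.symm
  rw [hc.eq, mul_inv_cancel_right, two_mul, pow_add] at e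
  rw [mul_eq_left.1 e.symm] at hp
  calc n * n = T.t * T.t * (n * n) := by rw [T.t_sq, one_mul]
    _ = T.t * (T.t * (n * n)) := mul_assoc _ _ _
    _ = _ := by rw [hp, mul_one]

theorem exists_co (S : Swap T) : Nonempty (Co S) := by
  obtain ⟨π0, hker, halt, hA, hEs⟩ := T.exists_pi
  have inj3 : ∀ {a b : G} (ha : a ∈ T.K) (hb : b ∈ T.K), a ^ 3 = 1 → b ^ 3 = 1 → π0 ⟨a, ha⟩ = π0 ⟨b, hb⟩ → a = b := by
    intro a b ha hb ha3 hb3 he
    refine T.odd_inj ha hb ha3 hb3 ((T.px_eq ha hb).2 ?_)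
    have h1 : π0 (⟨a, ha⟩⁻¹ * ⟨b, hb⟩) = 1 := by rw [map_mul, map_inv, he, inv_mul_cancel]
    rcases (hker _).1 h1 with h | h
    · exact Or.inl (inv_mul_eq_one.1 h).symm
    · exact Or.inr (eq_mul_of_inv_mul_eq h)
  obtain ⟨g0, hg0⟩ := P8.conj_D0 (R := (T.P.subgroupOf T.K).map π0) (((IsPGroup.of_card (n := 2) (by
    rw [Nat.card_congr (subgroupOfEquivOfLe (inf_le_right : T.P ≤ T.K)).toEquiv, T.card_P]; norm_num)) :
      IsPGroup 3 (T.P.subgroupOf T.K)).map π0)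
  set Z := π0 ⟨H.z, T.z_K⟩
  set F := π0 ⟨C.f, T.f_K⟩
  have hp : g0 * Z * g0⁻¹ ∈ P8.d9 := hg0 _ ⟨_, mem_subgroupOf.2 T.z_P, rfl⟩
  have hq : g0 * F * g0⁻¹ ∈ P8.d9 := hg0 _ ⟨_, mem_subgroupOf.2 T.f_P, rfl⟩
  -- an element of order five
  set k5 := (T.ψ0.symm Char.SL25Facts.T : G) with hk5
  have hk5K : k5 ∈ T.K := (T.K0_le (T.ψ0.symm Char.SL25Facts.T).2).2
  have hk55 : k5 ^ 5 = 1 := by
    rw [hk5, ← coe_pow, ← map_pow, sl5T.1, map_one, coe_one]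
  set τ := π0 ⟨k5, hk5K⟩ with hτ
  have hτ1 : τ ≠ 1 := fun h => by
    rcases (hker _).1 h with h | h
    · exact sl5T.2.1 (T.ψ0.symm.injective (by rw [map_one]; exact Subtype.ext h))
    · refine sl5T.2.2 ?_
      have h' : T.ψ0 ⟨k5, (T.ψ0.symm Char.SL25Facts.T).2⟩ = Char.SL25Facts.T := T.ψ0.apply_symm_apply _
      rw [show (⟨k5, (T.ψ0.symm Char.SL25Facts.T).2⟩ : T.K0) = ⟨T.t, T.t_K0⟩ from Subtype.ext h, T.ψ0_apply] at h'
      exact h'.symm.trans T.t_psi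
  have hτ5 : τ ^ 5 = 1 := by
    rw [hτ, ← map_pow, show (⟨k5, hk5K⟩ : T.K) ^ 5 = 1 from Subtype.ext hk55, map_one]
  have hτz : τ * Z = Z * τ := by
    rw [hτ, ← map_mul, ← map_mul]
    exact congrArg π0 (Subtype.ext (H.L_cz (T.K0_le (T.ψ0.symm Char.SL25Facts.T).2).1))
  have hxz : π0 ⟨S.x, S.x_K⟩ * Z * (π0 ⟨S.x, S.x_K⟩)⁻¹ = F := by
    rw [← map_inv, ← map_mul, ← map_mul]
    refine congrArg π0 (Subtype.ext ?_)
    show S.x * H.z * S.x⁻¹ = C.f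
    rw [← C.ev_basis.1, S.x_act.2 4 (by norm_num), w_code.1, C.ev_basis.2.1]
  have hnot : ∀ g : P8.Pm, g * Z * g⁻¹ ∉ P8.d9 ∨ g * Z * g⁻¹ ∈ P8.cyc4 := by
    intro g
    by_cases h9 : g * Z * g⁻¹ ∈ P8.d9
    swap
    · exact Or.inl h9
    refine Or.inr (by_contra fun hc => ?_)
    have h1 : g * Z * g⁻¹ ≠ 1 := fun h => by
      exact H.z_ne (inj3 T.z_K T.K.one_mem H.z_cube (one_pow 3) ((conj_eq_one_iff.1 h).trans (map_one π0).symm))
    obtain ⟨k, -, hk⟩ := P8.six_conj _ h9 hc h1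
    exact hτ1 (P8.no_five (g := k * g) (by rw [← hk]; group) hτz hτ5)
  have hp4 : g0 * Z * g0⁻¹ ∈ P8.cyc4 := (hnot g0).resolve_left (not_not.2 hp)
  have hq4 : g0 * F * g0⁻¹ ∈ P8.cyc4 := by
    have e : g0 * π0 ⟨S.x, S.x_K⟩ * Z * (g0 * π0 ⟨S.x, S.x_K⟩)⁻¹ = g0 * F * g0⁻¹ := by rw [← hxz]; group
    exact e ▸ (hnot _).resolve_left (not_not.2 (e.symm ▸ hq))
  have hfz : ∀ k, F = π0 (⟨H.z, T.z_K⟩ ^ k) → 7 = vS k 4 := fun k hk => by
    have := inj3 T.f_K (T.K.pow_mem T.z_K k) (H.J_cube _ C.f_J) (H.J_cube _ (pow_mem H.z_J k)) hk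
    refine C.ev_inj (by norm_num) (vS_lt _ _) ?_
    rw [C.ev_smul, C.ev_basis.1, C.ev_basis.2.1]
    exact this
  obtain ⟨g1, -, hg1p, hg1q⟩ := P8.normalize _ hp4 _ hq4
    (fun h => absurd (hfz 1 (by rw [pow_one]; exact mul_left_cancel (mul_right_cancel h))) (by decide +kernel))
    (fun h => absurd (hfz 2 (by
      rw [map_pow, sq]
      exact mul_left_cancel (mul_right_cancel (h.trans (show g0 * Z * g0⁻¹ * (g0 * Z * g0⁻¹) = g0 * (Z * Z) * g0⁻¹ by group)))))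
      (by decide +kernel))
  obtain ⟨n, hn, hn2, hnA, hnf, hnz⟩ := T.exists_n_sq
  have hnK := (T.K0_le hn).2
  set g2 := g1 * g0 with hg2
  set π1 : T.K →* P8.Pm := (MulAut.conj g2).toMonoidHom.comp π0 with hπ1
  have hπ1z : π1 ⟨H.z, T.z_K⟩ = P8.c1 := by rw [← hg1p]; show g2 * Z * g2⁻¹ = _; rw [hg2]; group
  have hπ1f : π1 ⟨C.f, T.f_K⟩ = P8.c2 := by rw [← hg1q]; show g2 * F * g2⁻¹ = _; rw [hg2]; group
  have hsign1 : ∀ g, Equiv.Perm.sign (π1 g) = Equiv.Perm.sign (π0 g) := fun g => by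
    show Equiv.Perm.sign (g2 * π0 g * g2⁻¹) = _
    rw [map_mul, map_mul, map_inv]
    rcases Int.units_eq_one_or (Equiv.Perm.sign g2) with h | h <;> rw [h] <;> simp
  set σn := π1 ⟨n, hnK⟩ with hσn
  have hσn2 : σn * σn = 1 := by
    have : π0 (⟨n, hnK⟩ * ⟨n, hnK⟩) = 1 := (hker _).2 (Or.inr hn2)
    rw [hσn, ← map_mul]
    show g2 * π0 _ * g2⁻¹ = 1
    rw [this]; group
  have hσnev : Equiv.Perm.sign σn = 1 := by
    rw [hσn, hsign1]
    let F5 : SL5 →* ℤˣ := Equiv.Perm.sign.comp (π0.comp ((inclusion (T.K0_le.trans inf_le_right)).comp T.ψ0.symm.toMonoidHom))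
    have hT : F5 Char.SL25Facts.T = 1 := by
      rw [← sl5_comm.1, map_commutatorElement, commutatorElement_eq_one_iff_mul_comm]
      exact mul_comm _ _
    have h := sl5_kill F5 hT (T.ψ0 ⟨n, hn⟩)
    simp only [F5, MonoidHom.comp_apply, MulEquiv.coe_toMonoidHom, MulEquiv.symm_apply_apply] at h
    exact h
  have hn1 : σn * P8.c1 = P8.c1 * σn := by
    rw [← hπ1z, hσn, ← map_mul, ← map_mul]
    exact congrArg π1 (Subtype.ext hnz)
  have hn2' : σn * P8.c2 = P8.c2 * P8.c2 * σn := by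
    rw [← hπ1f, hσn, ← map_mul, ← map_mul, ← map_mul]
    refine congrArg π1 (Subtype.ext ?_)
    show n * C.f = C.f * C.f * n
    rw [← mul_inv_eq_iff_eq_mul, hnf, sq]
  obtain ⟨ga, hga, hgan⟩ : ∃ g, (g = 1 ∨ g = P8.c2 ∨ g = P8.c2⁻¹) ∧ g * σn * g⁻¹ = P8.nP := by
    rcases List.mem_append.1 (P8.shape_n hσn2 hn1 hn2') with h | h
    · exact P8.conj3_mem h
    · exfalso
      obtain ⟨g, -, hg⟩ := P8.conj3_mem h
      have := congrArg Equiv.Perm.sign hg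
      rw [map_mul, map_mul, map_inv, hσnev, mul_one, mul_inv_cancel, P8.p8_facts.2.2.2.2.2.2.2.2.2.2.2.2.1] at this
      exact absurd this (by decide)
  have hga1 : Commute ga P8.c1 ∧ Commute ga P8.c2 := by
    rcases hga with rfl | rfl | rfl
    · exact ⟨Commute.one_left _, Commute.one_left _⟩
    · exact ⟨P8.fix_facts.1.symm, Commute.refl _⟩
    · exact ⟨(show Commute P8.c2 P8.c1 from P8.fix_facts.1.symm).inv_left, (Commute.refl _).inv_left⟩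
  set π2 : T.K →* P8.Pm := (MulAut.conj ga).toMonoidHom.comp π1 with hπ2
  have hπ2z : π2 ⟨H.z, T.z_K⟩ = P8.c1 := by
    show ga * π1 _ * ga⁻¹ = _
    rw [hπ1z, hga1.1.eq, mul_inv_cancel_right]
  have hπ2f : π2 ⟨C.f, T.f_K⟩ = P8.c2 := by
    show ga * π1 _ * ga⁻¹ = _
    rw [hπ1f, hga1.2.eq, mul_inv_cancel_right]
  set σx := π2 ⟨S.x, S.x_K⟩ with hσx
  have hx2 : σx * σx = 1 := by
    rw [hσx, ← map_mul, show (⟨S.x, S.x_K⟩ : T.K) * ⟨S.x, S.x_K⟩ = 1 from Subtype.ext S.x_sq, map_one]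
  have hxc : σx * P8.c1 = P8.c2 * σx := by
    rw [← hπ2z, ← hπ2f, hσx, ← map_mul, ← map_mul]
    refine congrArg π2 (Subtype.ext ?_)
    show S.x * H.z = C.f * S.x
    rw [← mul_inv_eq_iff_eq_mul, ← C.ev_basis.1, S.x_act.2 4 (by norm_num), w_code.1, C.ev_basis.2.1]
  obtain ⟨gb, hgb, hgbx⟩ : ∃ g, (g = 1 ∨ g = P8.c1 ∨ g = P8.c1⁻¹) ∧ (g * σx * g⁻¹ = P8.wA ∨ g * σx * g⁻¹ = P8.wB) := by
    rcases List.mem_append.1 (P8.shape_x hx2 hxc) with h | h <;> obtain ⟨g, hg, he⟩ := P8.conj3_mem h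
    exacts [⟨g, hg, Or.inl he⟩, ⟨g, hg, Or.inr he⟩]
  have hgb1 : Commute gb P8.c1 ∧ Commute gb P8.c2 ∧ Commute gb P8.nP := by
    rcases hgb with rfl | rfl | rfl
    · exact ⟨Commute.one_left _, Commute.one_left _, Commute.one_left _⟩
    · exact ⟨Commute.refl _, P8.fix_facts.1, P8.fix_facts.2⟩
    · exact ⟨(Commute.refl _).inv_left, (show Commute P8.c1 P8.c2 from P8.fix_facts.1).inv_left,
        (show Commute P8.c1 P8.nP from P8.fix_facts.2).inv_left⟩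
  set g3 := gb * ga * g2 with hg3
  have hg3c : ∀ a, g3 * a * g3⁻¹ = gb * (ga * (g2 * a * g2⁻¹) * ga⁻¹) * gb⁻¹ := fun a => by rw [hg3]; group
  refine ⟨{ π := (MulAut.conj g3).toMonoidHom.comp π0, ker := fun g => ?_, alt := fun σ hσ => ?_, caseA := fun hE g => ?_,
            caseE := fun hE => ?_, pz := ?_, pf := ?_, n := n, n_K := hnK, n_L := (T.K0_le hn).1, n_sq := hn2,
            n_act := hnA, pn := ?_, px := ?_ }⟩
  · exact ((MulAut.conj g3).map_eq_one_iff).trans (hker g)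
  · obtain ⟨g, hg⟩ := halt (g3⁻¹ * σ * g3) (by
      rw [map_mul, map_mul, map_inv, hσ, mul_one, inv_mul_cancel])
    exact ⟨g, show g3 * π0 g * g3⁻¹ = σ by rw [hg]; group⟩
  · show Equiv.Perm.sign (g3 * π0 g * g3⁻¹) = 1
    rw [map_mul, map_mul, map_inv, hA hE g, mul_one, mul_inv_cancel]
  · exact (MulAut.conj g3).surjective.comp (hEs hE)
  · show g3 * _ * g3⁻¹ = _
    rw [hg3c]
    show gb * π2 _ * gb⁻¹ = _
    rw [hπ2z, hgb1.1.eq, mul_inv_cancel_right]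
  · show g3 * _ * g3⁻¹ = _
    rw [hg3c]
    show gb * π2 _ * gb⁻¹ = _
    rw [hπ2f, hgb1.2.1.eq, mul_inv_cancel_right]
  · show g3 * _ * g3⁻¹ = _
    rw [hg3c]
    show gb * (ga * σn * ga⁻¹) * gb⁻¹ = _
    rw [hgan, hgb1.2.2.eq, mul_inv_cancel_right]
  · show g3 * _ * g3⁻¹ = _ ∨ g3 * _ * g3⁻¹ = _
    rw [hg3c]
    exact hgbx

end Tt

end Cfsg.Agent.Spor.McLThree
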