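import Cfsg.Agent.Lib.Spor.McLThree.TQuot

/-!
The orders in the normalizer of the plane in `C(t)`, and its action as the dihedral group of order eight.
-/

set_option autoImplicit false
set_option maxRecDepth 100000
set_option synthInstance.maxSize 4096
set_option linter.unusedSectionVars false

namespace Cfsg.Agent.Spor.McLThree

open Subgroup Cfsg.Agent.Spor.UFourType

universe u

/-- The matrices fixing both lines pointwise. -/
def fixP (l : List ℕ) : List ℕ := l.filter fun M => Nat.beq (ap M 4) 4 && Nat.beq (ap M 7) 7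

/-- The matrices fixing `z f`. -/
def fixY (l : List ℕ) : List ℕ := l.filter fun M => Nat.beq (ap M cY) cY

theorem count_spec : ∀ B ∈ ordT, (fixP (tA B)).length = 2 ∧ (fixP (tE B)).length = 4 ∧ (fixY (tA B)).length = 4 ∧
    (fixY (tE B)).length = 8 ∧ (∀ M ∈ fixP (tA B), M = mI ∨ M = mT0) ∧
    (∀ M ∈ fixY (tE B), mM M M = mI ∨ mM M M = mT0) := by
  decide +kernel

theorem gen_comm : mM mH0 mT0 = mM mT0 mH0 ∧ mM mW0 mT0 = mM mT0 mW0 := by decide +kernel

theorem mI_HW : mM mI mH0 = mH0 ∧ mM mI mW0 = mW0 := by decide +kernel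

variable {G : Type u} [Group G] [Finite G] {H : Hyp G}

namespace Tt

variable {C : Sec H} (T : Tt C)

/-- Some element of the normalizer of the plane has this matrix. -/
def Has (M : ℕ) : Prop := ∃ g ∈ T.NP, ActB C.ev g M

theorem has_mul {M N : ℕ} (hM : T.Has M) (hN : T.Has N) : T.Has (mM M N) := by
  obtain ⟨g, hg, hgM⟩ := hM
  obtain ⟨h, hh, hhN⟩ := hN
  exact ⟨g * h, T.NP.mul_mem hg hh, C.nact_mul hgM hhN⟩

theorem has_basic : T.Has mI ∧ T.Has mT0 ∧ T.Has T.B ∧ T.Has mH0 ∧ T.Has mW0 := by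
  have hgen : ∀ {σ : A6} {M : ℕ}, ActB C.ev (C.rep σ) M → mM M mT0 = mM mT0 M → mM mI M = M → T.Has M := by
    intro σ M hM hc hI
    obtain ⟨j, hj, hk⟩ := T.lift_J (H.M_norm (C.rep_mem σ)) hM hc
    refine ⟨_, T.NJ_NP hk (mul_mem (H.M_norm (H.J_le_M hj)) (H.M_norm (C.rep_mem σ))), ?_⟩
    have := C.nact_mul (C.nact_J hj) hM
    rwa [hI] at this
  exact ⟨⟨1, T.NP.one_mem, C.nact_J (one_mem _)⟩, ⟨T.t, T.NJ_NP T.t_K T.t_N, T.t_act⟩,
    ⟨T.n, T.NJ_NP T.n_K T.n_N, T.n_act⟩, hgen C.act_gens.2.2.1 gen_comm.1 mI_HW.1,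
    hgen C.act_gens.2.2.2 gen_comm.2 mI_HW.2⟩

theorem has_tA {M : ℕ} (hM : M ∈ tA T.B) : T.Has M := by
  obtain ⟨hI, hT, hB, hH, hW⟩ := T.has_basic
  simp only [tA, List.mem_flatMap, List.mem_map] at hM
  obtain ⟨a, ha, b, hb, c, hc, rfl⟩ := hM
  refine T.has_mul (T.has_mul ?_ ?_) ?_
  · simp only [lB, List.mem_cons, List.not_mem_nil, or_false] at ha
    rcases ha with rfl | rfl | rfl | rfl
    exacts [hI, hT, hB, T.has_mul hT hB]
  · simp only [List.mem_cons, List.not_mem_nil, or_false] at hb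
    rcases hb with rfl | rfl
    exacts [hI, hH]
  · simp only [List.mem_cons, List.not_mem_nil, or_false] at hc
    rcases hc with rfl | rfl
    exacts [hI, hW]

theorem has_tE (hE : C.Ext) {M : ℕ} (hM : M ∈ tE T.B) : T.Has M := by
  rcases List.mem_append.1 hM with h | h
  · exact T.has_tA h
  · obtain ⟨N, hN, rfl⟩ := List.mem_map.1 h
    obtain ⟨d, hd, hdN, hdA⟩ := T.exists_d hE
    exact T.has_mul ⟨d, T.NJ_NP hd.1 hdN, hdA⟩ (T.has_tA hN)

/-- The centralizer of the plane. -/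
abbrev CP : Subgroup G := T.NP ⊓ (centralizer ({H.z} : Set G) ⊓ centralizer ({C.f} : Set G))

theorem CP_mat {g : G} (hg : g ∈ T.NP) {M : ℕ} (hM : ActB C.ev g M) :
    g ∈ T.CP ↔ ap M 4 = 4 ∧ ap M 7 = 7 := by
  constructor
  · rintro ⟨-, hz, hf⟩
    refine ⟨C.nact_fix hM (mem_centralizer_singleton_iff.1 hz), C.ev_inj (ap_lt _ _) (by norm_num) ?_⟩
    rw [← hM.2 7 (by norm_num), C.ev_basis.2.1, mem_centralizer_singleton_iff.1 hf, mul_inv_cancel_right]
  · rintro ⟨h4, h7⟩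
    refine ⟨hg, mem_centralizer_singleton_iff.2 (C.nact_z hM h4), mem_centralizer_singleton_iff.2 ?_⟩
    have h := hM.2 7 (by norm_num)
    rw [h7, C.ev_basis.2.1] at h
    exact mul_inv_eq_iff_eq_mul.1 h

theorem CP_of_cent {g : G} (hg : g ∈ T.K) (hz : g * H.z = H.z * g) (hf : g * C.f = C.f * g) : g ∈ T.CP :=
  ⟨T.NJ_NP hg (y_nonsing (C := C) (by
    rw [((show Commute g H.z from hz).mul_right (show Commute g C.f from hf)).eq, mul_inv_cancel_right]
    exact mem_zpowers _)), mem_centralizer_singleton_iff.2 hz, mem_centralizer_singleton_iff.2 hf⟩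

/-- The centralizer of `z f`. -/
abbrev CY : Subgroup G := T.K ⊓ centralizer ({H.z * C.f} : Set G)

theorem CY_NP : T.CY ≤ T.NP := fun g hg => T.NJ_NP hg.1 (y_nonsing (C := C) (by
  rw [mem_centralizer_singleton_iff.1 hg.2, mul_inv_cancel_right]; exact mem_zpowers _))

theorem CY_mat {g : G} (hg : g ∈ T.K) {M : ℕ} (hM : ActB C.ev g M) : g ∈ T.CY ↔ ap M cY = cY := by
  have hy : C.ev cY = H.z * C.f := by rw [cY, C.ev_add, C.ev_basis.1, C.ev_basis.2.1]
  constructor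
  · intro h
    refine C.ev_inj (ap_lt _ _) tY_facts.2.2.1 ?_
    rw [← hM.2 _ tY_facts.2.2.1, hy, mem_centralizer_singleton_iff.1 h.2, mul_inv_cancel_right]
  · intro h
    refine ⟨hg, mem_centralizer_singleton_iff.2 ?_⟩
    have h' := hM.2 cY tY_facts.2.2.1
    rw [h, hy] at h'
    exact mul_inv_eq_iff_eq_mul.1 h'

theorem P_CP : T.P ≤ T.CP := fun a ha => T.CP_of_cent ha.2 (H.J_comm a ha.1 _ H.z_J) (H.J_comm a ha.1 _ C.f_J)

theorem P_CY : T.P ≤ T.CY := fun a ha => ⟨ha.2, mem_centralizer_singleton_iff.2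
  (H.J_comm a ha.1 _ (H.J.mul_mem H.z_J C.f_J))⟩

theorem count_NP (l : List ℕ) (hl : l.Nodup) (hin : ∀ g ∈ T.NP, ∃ M ∈ l, ActB C.ev g M) (hhas : ∀ M ∈ l, T.Has M) :
    Nat.card T.NP = 9 * l.length ∧ Nat.card T.CP = 9 * (fixP l).length ∧ Nat.card T.CY = 9 * (fixY l).length := by
  refine ⟨T.card_by_mats inf_le_left T.P_NP l hl hin fun M hM => hhas M hM, ?_, ?_⟩
  · refine T.card_by_mats (inf_le_left.trans inf_le_left) T.P_CP _ (hl.filter _) ?_ ?_
    · intro g hg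
      obtain ⟨M, hM, hgM⟩ := hin g hg.1
      obtain ⟨h4, h7⟩ := (T.CP_mat hg.1 hgM).1 hg
      exact ⟨M, List.mem_filter.2 ⟨hM, by rw [h4, h7]; rfl⟩, hgM⟩
    · intro M hM
      obtain ⟨hMl, hfix⟩ := List.mem_filter.1 hM
      simp only [Bool.and_eq_true] at hfix
      obtain ⟨g, hg, hgM⟩ := hhas M hMl
      exact ⟨g, (T.CP_mat hg hgM).2 ⟨Nat.eq_of_beq_eq_true hfix.1, Nat.eq_of_beq_eq_true hfix.2⟩, hgM⟩
  · refine T.card_by_mats inf_le_left T.P_CY _ (hl.filter _) ?_ ?_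
    · intro g hg
      obtain ⟨M, hM, hgM⟩ := hin g (T.CY_NP hg)
      exact ⟨M, List.mem_filter.2 ⟨hM, by rw [(T.CY_mat hg.1 hgM).1 hg]; exact Nat.beq_refl _⟩, hgM⟩
    · intro M hM
      obtain ⟨hMl, hfix⟩ := List.mem_filter.1 hM
      obtain ⟨g, hg, hgM⟩ := hhas M hMl
      exact ⟨g, (T.CY_mat hg.1 hgM).2 (Nat.eq_of_beq_eq_true hfix), hgM⟩

theorem counts : (¬ C.Ext → Nat.card T.NP = 144 ∧ Nat.card T.CP = 18 ∧ Nat.card T.CY = 36) ∧
    (C.Ext → Nat.card T.NP = 288 ∧ Nat.card T.CP = 36 ∧ Nat.card T.CY = 72) := by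
  obtain ⟨c1, c2, c3, c4, -, -⟩ := count_spec T.B T.B_mem
  obtain ⟨hA, hE', lA, lE, -⟩ := tE_shape T.B T.B_mem
  constructor
  · intro hE
    obtain ⟨h1, h2, h3⟩ := T.count_NP _ hA (fun g hg => by
      obtain ⟨M, -, hgM, hMA⟩ := T.K_mat (T.NP_norm hg) hg.1
      exact ⟨M, hMA hE, hgM⟩) fun M hM => T.has_tA hM
    rw [lA] at h1; rw [c1] at h2; rw [c3] at h3
    exact ⟨h1, h2, h3⟩
  · intro hE
    obtain ⟨h1, h2, h3⟩ := T.count_NP _ hE' (fun g hg => by
      obtain ⟨M, hM, hgM, -⟩ := T.K_mat (T.NP_norm hg) hg.1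
      exact ⟨M, hM, hgM⟩) fun M hM => T.has_tE hE hM
    rw [lE] at h1; rw [c2] at h2; rw [c4] at h3
    exact ⟨h1, h2, h3⟩

/-- The centralizer of the image of `z f`. -/
theorem lift_y {g : G} (hg : g ∈ T.K) : T.pt' ⟨g, hg⟩ ∈ centralizer ({T.yb} : Set T.X) ↔ g ∈ T.CY := by
  rw [mem_centralizer_singleton_iff, yb,
    T.lift_comm hg _ (H.J_cube _ (H.J.mul_mem H.z_J C.f_J))]
  exact ⟨fun h => ⟨hg, mem_centralizer_singleton_iff.2 h⟩, fun h => mem_centralizer_singleton_iff.1 h.2⟩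

/-- The centralizer of the image of the plane. -/
theorem lift_cent {g : G} (hg : g ∈ T.K) : T.pt' ⟨g, hg⟩ ∈ centralizer (T.D : Set T.X) ↔ g ∈ T.CP := by
  constructor
  · intro h
    have key : ∀ a (ha : a ∈ T.P), g * a = a * g := fun a ha =>
      (T.lift_comm hg ha.2 (H.J_cube _ ha.1)).1 ((mem_centralizer_iff.1 h _ (T.D_mem ha)).symm)
    exact T.CP_of_cent hg (key _ T.z_P) (key _ T.f_P)
  · intro h
    refine mem_centralizer_iff.2 ?_
    rintro _ ⟨⟨a, haK⟩, ha, rfl⟩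
    obtain ⟨i, -, j, -, rfl⟩ := T.P_code (mem_subgroupOf.1 ha)
    refine ((T.lift_comm hg haK (H.J_cube _ (mem_subgroupOf.1 ha).1)).2 ?_).symm
    exact (((show Commute g H.z from mem_centralizer_singleton_iff.1 h.2.1).pow_right i).mul_right
      ((show Commute g C.f from mem_centralizer_singleton_iff.1 h.2.2).pow_right j)).eq

theorem card_centralizers : 2 * Nat.card (centralizer (T.D : Set T.X)) = Nat.card T.CP ∧
    2 * Nat.card (centralizer ({T.yb} : Set T.X)) = Nat.card T.CY :=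
  ⟨T.card_image (inf_le_left.trans inf_le_left)
      (T.CP_of_cent T.t_K (H.L_cz T.t_L) (T.mem_K.1 T.f_K).symm) _ fun _ hg => T.lift_cent hg,
    T.card_image inf_le_left ⟨T.t_K, mem_centralizer_singleton_iff.2
      ((T.mem_K.1 (T.K.mul_mem T.z_K T.f_K)).symm)⟩ _ fun _ hg => T.lift_y hg⟩

theorem D_normal_y : (T.D.subgroupOf (centralizer ({T.yb} : Set T.X))).Normal := by
  refine ⟨fun a ha c => mem_subgroupOf.2 ?_⟩
  obtain ⟨⟨g, hg⟩, hgc⟩ := QuotientGroup.mk'_surjective T.tK (c : T.X)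
  have h := (T.lift_norm hg).2 (T.CY_NP ((T.lift_y hg).1 (hgc.symm ▸ c.2)))
  have h' := ((mem_normalizer_iff.1 h) _).1 (mem_subgroupOf.1 ha)
  rw [hgc] at h'
  simpa using h'

theorem fourHom_dih : Nat.card T.fourHom.range = 8 ∧
    Nat.card T.fourHom.range = Nat.card dih4.range ∧ T.fourHom.ker = T.CP.subgroupOf T.NP := by
  have hker : T.fourHom.ker = T.CP.subgroupOf T.NP := by
    ext g
    rw [MonoidHom.mem_ker, T.fourHom_ker, mem_subgroupOf]
    exact ⟨fun h => ⟨g.2, mem_centralizer_singleton_iff.2 h.1, mem_centralizer_singleton_iff.2 h.2⟩,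
      fun h => ⟨mem_centralizer_singleton_iff.1 h.2.1, mem_centralizer_singleton_iff.1 h.2.2⟩⟩
  have h := T.fourHom.ker.card_mul_index
  rw [index_ker, hker, Nat.card_congr (subgroupOfEquivOfLe (inf_le_left : T.CP ≤ T.NP)).toEquiv] at h
  have h8 : Nat.card T.fourHom.range = 8 := by
    by_cases hE : C.Ext
    · obtain ⟨h1, h2, -⟩ := T.counts.2 hE
      rw [h1, h2] at h; omega
    · obtain ⟨h1, h2, -⟩ := T.counts.1 hE
      rw [h1, h2] at h; omega
  refine ⟨h8, ?_, hker⟩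
  rw [h8, ← Nat.card_congr (MonoidHom.ofInjective dih4_inj).toEquiv, DihedralGroup.nat_card]

/-- The normalizer of the plane modulo its centralizer. -/
theorem exists_NC_equiv [hn : ((centralizer (T.D : Set T.X)).subgroupOf (normalizer (T.D : Set T.X))).Normal] :
    Nonempty (normalizer (T.D : Set T.X) ⧸ (centralizer (T.D : Set T.X)).subgroupOf (normalizer (T.D : Set T.X))
      ≃* DihedralGroup 4) := by
  obtain ⟨-, hc, hker⟩ := T.fourHom_dih
  let f : T.NP →* normalizer (T.D : Set T.X) :=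
    (T.pt'.comp (inclusion inf_le_left)).codRestrict _ fun g => (T.lift_norm g.2.1).2 g.2
  let F := (QuotientGroup.mk' ((centralizer (T.D : Set T.X)).subgroupOf (normalizer (T.D : Set T.X)))).comp f
  have hsurj : Function.Surjective F := by
    intro x
    obtain ⟨⟨y, hy⟩, rfl⟩ := QuotientGroup.mk'_surjective _ x
    obtain ⟨⟨g, hg⟩, rfl⟩ := QuotientGroup.mk'_surjective T.tK y
    exact ⟨⟨g, (T.lift_norm hg).1 hy⟩, rfl⟩
  have hFk : F.ker = T.fourHom.rangeRestrict.ker := by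
    rw [MonoidHom.ker_rangeRestrict, hker]
    ext g
    rw [MonoidHom.mem_ker, mem_subgroupOf]
    show QuotientGroup.mk' _ (f g) = 1 ↔ _
    rw [QuotientGroup.mk'_apply, QuotientGroup.eq_one_iff, mem_subgroupOf]
    exact T.lift_cent g.2.1
  obtain ⟨e⟩ := equiv_of_same_ker F T.fourHom.rangeRestrict hsurj T.fourHom.rangeRestrict_surjective hFk
  have hr : T.fourHom.range = dih4.range :=
    eq_of_le_of_card_ge (by rintro _ ⟨g, rfl⟩; exact T.fourHom_range g) hc.ge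
  exact ⟨e.trans ((MulEquiv.subgroupCongr hr).trans (MonoidHom.ofInjective dih4_inj).symm)⟩

end Tt

end Cfsg.Agent.Spor.McLThree
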