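import Cfsg.Agent.Lib.Spor.McLThree.TPhi

/-!
The normalizer of the line of `z` in `C(t)` acts on three and five points.
-/

set_option autoImplicit false
set_option maxRecDepth 100000
set_option synthInstance.maxSize 4096
set_option linter.unusedSectionVars false

namespace Cfsg.Agent.Spor.McLThree

open Subgroup Cfsg.Agent.Spor.UFourType

universe u

theorem perm3_odd : ∀ p q : Equiv.Perm (Fin 3), q * q * q = 1 → p * q * p⁻¹ = q * q → q ≠ 1 →
    Equiv.Perm.sign p = -1 := by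
  decide +kernel

variable {G : Type u} [Group G] [Finite G] {H : Hyp G}

namespace Tt

variable {C : Sec H} (T : Tt C)

/-- The centralizer of `z` and `t`. -/
abbrev C0 : Subgroup G := T.K ⊓ centralizer ({H.z} : Set G)

theorem C0_Nz : T.C0 ≤ T.Nz := fun g hg => by
  haveI : Fintype (zpowers H.z) := Fintype.ofFinite _
  refine ⟨hg.1, Subgroup.mem_normalizer_fintype fun a ha => ?_⟩
  obtain ⟨i, hi⟩ := ha
  subst hi
  show g * H.z ^ i * g⁻¹ ∈ _
  rw [((show Commute g H.z from mem_centralizer_singleton_iff.1 hg.2).zpow_right i).eq, mul_inv_cancel_right]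
  exact zpow_mem (mem_zpowers _) i

theorem Nz_cases {g : G} (hg : g ∈ T.Nz) : g * H.z * g⁻¹ = H.z ∨ g * H.z * g⁻¹ = H.z ^ 2 := by
  obtain ⟨k, hk, hk'⟩ := H.pow_Z (T.Nz_conj_z hg)
  interval_cases k
  · exact absurd (conj_eq_one_iff.1 (hk'.trans (pow_zero _))) H.z_ne
  · exact Or.inl (hk'.trans (pow_one _))
  · exact Or.inr hk'

theorem card_Nz : Nat.card T.Nz = 2 * Nat.card T.C0 := by
  obtain ⟨h, hh, hhz⟩ := T.exists_h
  let f : Fin 2 × T.C0 → T.Nz := fun p => ⟨h ^ (p.1 : ℕ) * p.2, T.Nz.mul_mem (T.Nz.pow_mem hh _) (T.C0_Nz p.2.2)⟩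
  have hne : h ∉ T.C0 := fun h' => by
    have := mem_centralizer_singleton_iff.1 h'.2
    rw [this, mul_inv_cancel_right, sq] at hhz
    exact H.z_ne (mul_eq_left.1 hhz.symm)
  rw [← Nat.card_eq_of_bijective f ⟨?_, ?_⟩, Nat.card_prod, Nat.card_fin]
  · rintro ⟨i, c⟩ ⟨j, d⟩ hcd
    have h' : h ^ (i : ℕ) * (c : G) = h ^ (j : ℕ) * (d : G) := congrArg Subtype.val hcd
    fin_cases i <;> fin_cases j <;> simp only [pow_zero, pow_one, one_mul] at h'
    · exact Prod.ext rfl (Subtype.ext h')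
    · exact absurd (by rw [show h = (c : G) * (d : G)⁻¹ by rw [h']; group]; exact T.C0.mul_mem c.2 (T.C0.inv_mem d.2)) hne
    · exact absurd (by rw [show h = (d : G) * (c : G)⁻¹ by rw [← h']; group]; exact T.C0.mul_mem d.2 (T.C0.inv_mem c.2)) hne
    · exact Prod.ext rfl (Subtype.ext (mul_left_cancel h'))
  · rintro ⟨g, hg⟩
    rcases T.Nz_cases hg with hz | hz
    · exact ⟨(0, ⟨g, hg.1, mem_centralizer_singleton_iff.2 (mul_inv_eq_iff_eq_mul.1 hz)⟩), Subtype.ext (by simp [f])⟩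
    · refine ⟨(1, ⟨h⁻¹ * g, T.K.mul_mem (T.K.inv_mem hh.1) hg.1, mem_centralizer_singleton_iff.2 ?_⟩),
        Subtype.ext (show h ^ 1 * (h⁻¹ * g) = g by group)⟩
      refine mul_inv_eq_iff_eq_mul.1 ?_
      rw [show h⁻¹ * g * H.z * (h⁻¹ * g)⁻¹ = h⁻¹ * (g * H.z * g⁻¹) * h by group, hz, ← hhz]
      group

theorem K1_C0 : T.K1 ≤ T.C0 := fun _ hg => ⟨hg.2, mem_centralizer_singleton_iff.2 (H.L_cz hg.1)⟩

theorem C0_eq (hE : ¬ C.Ext) : T.C0 = T.K1 :=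
  le_antisymm (fun _ hg => ⟨C.cent_eq_L hE (mem_centralizer_singleton_iff.1 hg.2), hg.1⟩) T.K1_C0

theorem exists_d (hE : C.Ext) : ∃ d ∈ T.C0, d ∈ normalizer (H.J : Set G) ∧ ActB C.ev d mR := by
  obtain ⟨d, hdN, hdz, hdA⟩ := hE
  obtain ⟨j, hj, hk⟩ := T.lift_J hdN hdA R_comm.1
  have hA := C.nact_mul (C.nact_J hj) hdA
  rw [R_comm.2] at hA
  exact ⟨_, ⟨hk, mem_centralizer_singleton_iff.2 (((show Commute j H.z from H.J_comm j hj _ H.z_J).mul_left hdz).eq)⟩,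
    mul_mem (H.M_norm (H.J_le_M hj)) hdN, hA⟩
where
  R_comm : mM mR mT0 = mM mT0 mR ∧ mM mI mR = mR := by decide +kernel

theorem card_C0 (hE : C.Ext) : Nat.card T.C0 = 720 := by
  obtain ⟨d, hd, hdN, hdA⟩ := T.exists_d hE
  have hdz := mem_centralizer_singleton_iff.1 hd.2
  have hd2 : d * d ∈ T.K1 := ⟨C.act_small (C.nact_mul hdA hdA) (Or.inr iso_fC.2.2.2.2.2.2.1), T.K.mul_mem hd.1 hd.1⟩
  let f : Fin 2 × T.K1 → T.C0 := fun p => ⟨d ^ (p.1 : ℕ) * p.2, T.C0.mul_mem (T.C0.pow_mem hd _) (T.K1_C0 p.2.2)⟩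
  rw [← Nat.card_eq_of_bijective f ⟨?_, ?_⟩, Nat.card_prod, Nat.card_fin, T.card_K1]
  · rintro ⟨i, c⟩ ⟨j, e⟩ h
    have h' : d ^ (i : ℕ) * (c : G) = d ^ (j : ℕ) * (e : G) := congrArg Subtype.val h
    have hne : d ∉ H.L := C.ext_outside hdA
    fin_cases i <;> fin_cases j <;> simp only [pow_zero, pow_one, one_mul] at h'
    · exact Prod.ext rfl (Subtype.ext h')
    · exact absurd (by rw [show d = (c : G) * (e : G)⁻¹ by rw [h']; group]; exact mul_mem c.2.1 (inv_mem e.2.1)) hne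
    · exact absurd (by rw [show d = (e : G) * (c : G)⁻¹ by rw [← h']; group]; exact mul_mem e.2.1 (inv_mem c.2.1)) hne
    · exact Prod.ext rfl (Subtype.ext (mul_left_cancel h'))
  · rintro ⟨g, hg⟩
    rcases C.cent_cases (mem_centralizer_singleton_iff.1 hg.2) with h | ⟨-, h⟩
    · exact ⟨(0, ⟨g, h, hg.1⟩), Subtype.ext (by simp [f])⟩
    · refine ⟨(1, ⟨(d * d)⁻¹ * (d * g), T.K1.mul_mem (T.K1.inv_mem hd2) ⟨h d hdN hdz hdA, T.K.mul_mem hd.1 hg.1⟩⟩),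
        Subtype.ext (show d ^ 1 * ((d * d)⁻¹ * (d * g)) = g by group)⟩

theorem card_Nz_cases : (¬ C.Ext ∧ Nat.card T.Nz = 720) ∨ (C.Ext ∧ Nat.card T.Nz = 1440) := by
  by_cases hE : C.Ext
  · exact Or.inr ⟨hE, by rw [T.card_Nz, T.card_C0 hE]⟩
  · exact Or.inl ⟨hE, by rw [T.card_Nz, T.C0_eq hE, T.card_K1]⟩

/-- A subgroup of index three containing `SL₂(5)` and not `z`. -/
theorem exists_H2 : ∃ H2 : Subgroup T.Nz, H2.index = 3 ∧ T.K0.subgroupOf T.Nz ≤ H2 ∧ (⟨H.z, T.z_Nz⟩ : T.Nz) ∉ H2 := by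
  set N0 : Subgroup T.Nz := T.K0.subgroupOf T.Nz
  haveI : N0.Normal := ⟨fun k hk g => mem_subgroupOf.2 (T.K0_conj g.2 (mem_subgroupOf.1 hk))⟩
  set q := QuotientGroup.mk' N0
  set zz : T.Nz := ⟨H.z, T.z_Nz⟩
  have hz1 : q zz ≠ 1 := fun h => T.z_not_K0 (mem_subgroupOf.1 ((QuotientGroup.eq_one_iff _).1 h))
  have hz3 : q zz ^ 3 = 1 := by
    rw [← map_pow, show zz ^ 3 = 1 from Subtype.ext H.z_cube, map_one]
  haveI : Fact (Nat.Prime 3) := ⟨Nat.prime_three⟩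
  set Zb := zpowers (q zz)
  have hZ3 : Nat.card Zb = 3 := by rw [Nat.card_zpowers, orderOf_eq_prime hz3 hz1]
  haveI : Zb.Normal := ⟨fun y hy g => by
    obtain ⟨g, rfl⟩ := QuotientGroup.mk'_surjective N0 g
    obtain ⟨i, hi⟩ := hy
    subst hi
    show q g * q zz ^ i * (q g)⁻¹ ∈ Zb
    obtain ⟨k, hk⟩ := T.Nz_conj_z g.2
    rw [← conj_zpow, ← map_inv, ← map_mul, ← map_mul, show g * zz * g⁻¹ = zz ^ k from Subtype.ext (by
      show (g : G) * H.z * (g : G)⁻¹ = ((zz ^ k : T.Nz) : G)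
      rw [coe_zpow]; exact hk.symm), map_zpow]
    exact zpow_mem (zpow_mem (mem_zpowers _) k) i⟩
  have hN0 : Nat.card N0 = 120 := by
    rw [Nat.card_congr (subgroupOfEquivOfLe T.K0_Nz).toEquiv, Nat.card_congr T.ψ0.toEquiv, Nat.card_eq_fintype_card,
      sl5_card]
  have hcop : (Nat.card Zb).Coprime Zb.index := by
    have h1 := Zb.card_mul_index
    have h2 := N0.card_mul_index
    rw [hZ3] at h1 ⊢
    rw [hN0, Subgroup.index_eq_card] at h2
    rcases T.card_Nz_cases with ⟨-, hc⟩ | ⟨-, hc⟩ <;> rw [hc] at h2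
    · rw [show Zb.index = 2 by nlinarith]; norm_num
    · rw [show Zb.index = 4 by nlinarith]; norm_num
  obtain ⟨V, hV⟩ := exists_right_complement'_of_coprime hcop
  refine ⟨V.comap q, ?_, fun k hk => ?_, fun h => ?_⟩
  · rw [index_comap_of_surjective _ (QuotientGroup.mk'_surjective N0)]
    exact Nat.eq_of_mul_eq_mul_left (Nat.card_pos (α := V)) (by rw [V.card_mul_index, ← hV.card_mul, hZ3, mul_comm])
  · rw [mem_comap, show q k = 1 from (QuotientGroup.eq_one_iff _).2 hk]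
    exact one_mem _
  · have := hV.disjoint.le_bot ⟨mem_zpowers _, h⟩
    exact hz1 (mem_bot.1 this)

/-- The action on three and five points. -/
theorem exists_line_map : ∃ Ψ : T.Nz →* Equiv.Perm (Fin 3) × Equiv.Perm (Fin 5),
    Ψ.ker = (zpowers T.t).subgroupOf T.Nz ∧
    (¬ C.Ext → ∀ g : T.Nz, Equiv.Perm.sign (Ψ g).1 * Equiv.Perm.sign (Ψ g).2 = 1) := by
  obtain ⟨H2, hidx, hK2, hz2⟩ := T.exists_H2
  have hcard : Nat.card (T.Nz ⧸ H2) = 3 := by rw [← Subgroup.index_eq_card, hidx]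
  let e : T.Nz ⧸ H2 ≃ Fin 3 := Finite.equivFinOfCardEq hcard
  let σ3 : T.Nz →* Equiv.Perm (Fin 3) := (e.permCongrHom).toMonoidHom.comp (MulAction.toPermHom T.Nz (T.Nz ⧸ H2))
  have hker3 : σ3.ker = H2.normalCore := by
    rw [Subgroup.normalCore_eq_ker]
    ext g
    simp only [MonoidHom.mem_ker]
    exact ⟨fun h => e.permCongrHom.injective (h.trans (map_one _).symm), fun h => by
      show e.permCongrHom _ = 1
      rw [h, map_one]⟩
  have hcore : T.K0.subgroupOf T.Nz ≤ σ3.ker := by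
    haveI : (T.K0.subgroupOf T.Nz).Normal := ⟨fun k hk g => mem_subgroupOf.2 (T.K0_conj g.2 (mem_subgroupOf.1 hk))⟩
    rw [hker3]
    exact normal_le_normalCore.2 hK2
  set zz : T.Nz := ⟨H.z, T.z_Nz⟩
  refine ⟨σ3.prod T.Φ, le_antisymm ?_ ?_, fun hE g => ?_⟩
  · rintro ⟨g, hg⟩ hk
    have h3 : σ3 ⟨g, hg⟩ = 1 := congrArg Prod.fst (MonoidHom.mem_ker.1 hk)
    have h5 : T.Φ ⟨g, hg⟩ = 1 := congrArg Prod.snd (MonoidHom.mem_ker.1 hk)
    have hgc : (⟨g, hg⟩ : T.Nz) ∈ σ3.ker := MonoidHom.mem_ker.2 h3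
    have hgz : g * H.z * g⁻¹ = H.z := by
      rcases T.Nz_cases hg with h | h
      · exact h
      exfalso
      have hmem : (⟨g, hg⟩ : T.Nz) * (zz * ⟨g, hg⟩⁻¹ * zz⁻¹) ∈ σ3.ker :=
        mul_mem hgc ((MonoidHom.normal_ker σ3).conj_mem _ (inv_mem hgc) zz)
      rw [show (⟨g, hg⟩ : T.Nz) * (zz * ⟨g, hg⟩⁻¹ * zz⁻¹) = zz from Subtype.ext (by
        show g * (H.z * g⁻¹ * H.z⁻¹) = H.z
        rw [← mul_assoc, ← mul_assoc, h, sq, mul_inv_cancel_right]), hker3] at hmem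
      exact hz2 (H2.normalCore_le hmem)
    have hgz' := mul_inv_eq_iff_eq_mul.1 hgz
    have hin : ∀ {y : G} (hy : y ∈ T.Nz), y ∈ zpowers H.z → (⟨y, hy⟩ : T.Nz) ∈ H2 → y = 1 := by
      intro y hy hyZ hy2
      obtain ⟨k, hk, hk'⟩ := H.pow_Z hyZ
      subst hk'
      interval_cases k
      · exact pow_zero _
      · exact absurd (by simpa using hy2) hz2
      · have := H2.pow_mem hy2 2
        rw [show (⟨H.z ^ 2, hy⟩ : T.Nz) ^ 2 = zz from Subtype.ext (by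
          show (H.z ^ 2) ^ 2 = H.z
          rw [← pow_mul, pow_eq_pow_mod (2 * 2) H.z_cube, show 2 * 2 % 3 = 1 from rfl, pow_one])] at this
        exact absurd this hz2
    have hg2 : (⟨g, hg⟩ : T.Nz) ∈ H2 := H2.normalCore_le (hker3 ▸ hgc)
    rcases T.cent_K0 hg.1 hgz' (T.Φ_cent hg h5) with h | h
    · refine mem_subgroupOf.2 ?_
      show g ∈ zpowers T.t
      rw [hin hg h hg2]
      exact one_mem _
    · have htg : (⟨T.t * g, T.Nz.mul_mem (T.K0_Nz T.t_K0) hg⟩ : T.Nz) ∈ H2 :=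
        H2.mul_mem (hK2 (show (⟨T.t, T.K0_Nz T.t_K0⟩ : T.Nz) ∈ _ from mem_subgroupOf.2 T.t_K0)) hg2
      have h1 := hin _ h htg
      refine mem_subgroupOf.2 ?_
      show g ∈ zpowers T.t
      rw [eq_inv_of_mul_eq_one_right h1]
      exact inv_mem (mem_zpowers _)
  · intro g hg
    obtain ⟨i, hi⟩ := mem_subgroupOf.1 hg
    have htk : (⟨T.t, T.K0_Nz T.t_K0⟩ : T.Nz) ∈ (σ3.prod T.Φ).ker := by
      refine MonoidHom.mem_ker.2 (Prod.ext (MonoidHom.mem_ker.1 (hcore (mem_subgroupOf.2 T.t_K0))) ?_)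
      show T.Φ _ = 1
      rw [T.Φ_K0 T.t_K0, autPerm_inner, T.ψ0_apply T.t_K0]
      exact Or.inr T.t_psi
    rw [show g = (⟨T.t, T.K0_Nz T.t_K0⟩ : T.Nz) ^ i from Subtype.ext (by rw [coe_zpow]; exact hi.symm)]
    exact zpow_mem htk i
  · show Equiv.Perm.sign (σ3 g) * Equiv.Perm.sign (T.Φ g) = 1
    obtain ⟨g, hg⟩ := g
    have hzker : σ3 zz ≠ 1 := fun h => hz2 (H2.normalCore_le (hker3 ▸ MonoidHom.mem_ker.2 h))
    have hzz : σ3 zz * σ3 zz * σ3 zz = 1 := by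
      rw [← map_mul, ← map_mul, show zz * zz * zz = 1 from Subtype.ext (by
        show H.z * H.z * H.z = 1
        rw [← H.z_cube, pow_succ, sq]), map_one]
    rcases T.Nz_cases hg with h | h
    · have hK1 : g ∈ T.K1 := T.C0_eq hE ▸ ⟨hg.1, mem_centralizer_singleton_iff.2 (mul_inv_eq_iff_eq_mul.1 h)⟩
      obtain ⟨i, -, k, hk, hgk⟩ := T.K1_split hK1
      have h5 : Equiv.Perm.sign (T.Φ ⟨g, hg⟩) = 1 := T.Φ_sign_K1 hK1
      have h3 : Equiv.Perm.sign (σ3 ⟨g, hg⟩) = 1 := by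
        rw [show (⟨g, hg⟩ : T.Nz) = zz ^ i * ⟨k, T.K0_Nz hk⟩ from Subtype.ext hgk, map_mul σ3,
          MonoidHom.mem_ker.1 (hcore (mem_subgroupOf.2 hk : (⟨k, T.K0_Nz hk⟩ : T.Nz) ∈ _)), mul_one, map_pow, map_pow]
        have hs : Equiv.Perm.sign (σ3 zz) = 1 := by
          have := congrArg Equiv.Perm.sign hzz
          rw [map_mul, map_mul, map_one, Int.units_mul_self, one_mul] at this
          exact this
        rw [hs, one_pow]
      rw [h3, h5, one_mul]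
    · rw [T.Φ_outer hE hg h, perm3_odd _ (σ3 zz) hzz ?_ hzker]
      · rfl
      · rw [← map_inv, ← map_mul, ← map_mul, ← map_mul]
        exact congrArg σ3 (Subtype.ext (by rw [← sq]; exact h))

end Tt

end Cfsg.Agent.Spor.McLThree
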