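import Cfsg.Agent.Lib.Spor.McLThree.FiveModel

/-!
The action of the normalizer of the line of `z` in `C(t)` on five points, and what centralises `SL₂(5)`.
-/

set_option autoImplicit false
set_option maxRecDepth 100000
set_option synthInstance.maxSize 4096
set_option linter.unusedSectionVars false

namespace Cfsg.Agent.Spor.McLThree

open Subgroup Cfsg.Agent.Spor.UFourType

universe u

variable {G : Type u} [Group G] [Finite G] {H : Hyp G}

namespace Tt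

variable {C : Sec H} (T : Tt C)

/-- Conjugation on `SL₂(5)`. -/
noncomputable def conjK0 : T.Nz →* MulAut T.K0 where
  toFun g :=
    { toFun := fun k => ⟨g * k * (g : G)⁻¹, T.K0_conj g.2 k.2⟩
      invFun := fun k => ⟨(g : G)⁻¹ * k * g, by simpa using T.K0_conj (T.Nz.inv_mem g.2) k.2⟩
      left_inv := fun k => Subtype.ext (by simp [mul_assoc])
      right_inv := fun k => Subtype.ext (by simp [mul_assoc])
      map_mul' := fun a b => Subtype.ext (by simp [mul_assoc]) }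
  map_one' := MulEquiv.ext fun k => Subtype.ext (by simp)
  map_mul' a b := MulEquiv.ext fun k => Subtype.ext (by simp [MulAut.mul_apply, mul_assoc])

/-- The action on five points. -/
noncomputable def Φ : T.Nz →* Equiv.Perm (Fin 5) :=
  autPerm.comp ((MulAut.congr T.ψ0).toMonoidHom.comp T.conjK0)

theorem z_Nz : H.z ∈ T.Nz := ⟨T.z_K, le_normalizer (mem_zpowers _)⟩

theorem K1_Nz : T.K1 ≤ T.Nz := fun g hg => ⟨hg.2, by
  haveI : Fintype (zpowers H.z) := Fintype.ofFinite _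
  refine Subgroup.mem_normalizer_fintype fun a ha => ?_
  obtain ⟨i, hi⟩ := ha
  subst hi
  show g * H.z ^ i * g⁻¹ ∈ _
  rw [((show Commute g H.z from H.L_cz hg.1).zpow_right i).eq, mul_inv_cancel_right]
  exact zpow_mem (mem_zpowers _) i⟩

theorem K0_Nz : T.K0 ≤ T.Nz := T.K0_le.trans T.K1_Nz

theorem Φ_K0 {k : G} (hk : k ∈ T.K0) : T.Φ ⟨k, T.K0_Nz hk⟩ = autPerm (MulAut.conj (T.ψ0 ⟨k, hk⟩)) := by
  refine congrArg autPerm (MulEquiv.ext fun x => ?_)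
  show T.ψ0 ⟨k * (T.ψ0.symm x : T.K0) * k⁻¹, _⟩ = _
  rw [show (⟨k * (T.ψ0.symm x : T.K0) * k⁻¹, T.K0_conj (T.K0_Nz hk) (T.ψ0.symm x).2⟩ : T.K0) =
    ⟨k, hk⟩ * T.ψ0.symm x * (⟨k, hk⟩ : T.K0)⁻¹ from rfl, map_mul, map_mul, map_inv, MulEquiv.apply_symm_apply]
  rfl

theorem Φ_cent {g : G} (hg : g ∈ T.Nz) (h : T.Φ ⟨g, hg⟩ = 1) : ∀ k ∈ T.K0, g * k = k * g := by
  intro k hk
  have h1 := autPerm_inj h
  have h2 : T.ψ0 (T.conjK0 ⟨g, hg⟩ (T.ψ0.symm (T.ψ0 ⟨k, hk⟩))) = T.ψ0 ⟨k, hk⟩ := DFunLike.congr_fun h1 _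
  rw [MulEquiv.symm_apply_apply] at h2
  exact mul_inv_eq_iff_eq_mul.1 (congrArg Subtype.val (T.ψ0.injective h2))

theorem Φ_sign_K1 {g : G} (hg : g ∈ T.K1) : Equiv.Perm.sign (T.Φ ⟨g, T.K1_Nz hg⟩) = 1 := by
  obtain ⟨i, -, k, hk, rfl⟩ := T.K1_split hg
  have hz : T.Φ ⟨H.z, T.z_Nz⟩ = 1 := by
    show autPerm (MulAut.congr T.ψ0 (T.conjK0 ⟨H.z, T.z_Nz⟩)) = 1
    rw [show T.conjK0 ⟨H.z, T.z_Nz⟩ = 1 from MulEquiv.ext fun x => Subtype.ext (by
      show H.z * (x : G) * H.z⁻¹ = x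
      rw [← H.L_cz (T.K0_le x.2).1, mul_inv_cancel_right]), map_one, map_one]
  rw [show (⟨_, T.K1_Nz hg⟩ : T.Nz) = ⟨H.z, T.z_Nz⟩ ^ i * ⟨k, T.K0_Nz hk⟩ from rfl, map_mul, map_pow, hz, one_pow,
    one_mul, T.Φ_K0 hk, autPerm_sign]

/-- What centralises `z` and `SL₂(5)`. -/
theorem cent_K0 {g : G} (hgK : g ∈ T.K) (hz : g * H.z = H.z * g) (hk : ∀ k ∈ T.K0, g * k = k * g) :
    g ∈ zpowers H.z ∨ T.t * g ∈ zpowers H.z := by
  have hgf := hk _ T.f_K0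
  have hgN : g ∈ normalizer (H.J : Set G) := y_nonsing (C := C) (by
    rw [show g * (H.z * C.f) * g⁻¹ = H.z * C.f by
      rw [((show Commute g H.z from hz).mul_right (show Commute g C.f from hgf)).eq, mul_inv_cancel_right]]
    exact mem_zpowers _)
  obtain ⟨M, hM, hgM, -⟩ := T.K_mat hgN hgK
  have h4 := C.nact_fix hgM hz
  have h7 : ap M 7 = 7 := C.ev_inj (ap_lt _ _) (by norm_num) (by
    rw [← hgM.2 7 (by norm_num), C.ev_basis.2.1, hgf, mul_inv_cancel_right])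
  obtain ⟨n, hn, hnB, hnf, hnz⟩ := T.exists_n0
  have hcm := C.nact_mul hgM hnB
  rw [hk n hn] at hcm
  have hMB := C.nact_unique hcm (C.nact_mul hnB hgM)
  have hI := rot_twist T.B T.B_mem M ((tA_fix T.B T.B_mem).2.1 M hM h4 h7) hMB
  have key : ∀ p ∈ T.P, n * p = p * n → p ∈ zpowers H.z := by
    intro p hp hnp
    obtain ⟨i, hi, j, hj, rfl⟩ := T.P_code hp
    have e : n * (H.z ^ i * C.f ^ j) * n⁻¹ = H.z ^ i * C.f ^ (2 * j) := by
      rw [show n * (H.z ^ i * C.f ^ j) * n⁻¹ = (n * H.z ^ i * n⁻¹) * (n * C.f ^ j * n⁻¹) by group, show n * C.f ^ j * n⁻¹ = (n * C.f * n⁻¹) ^ j from conj_pow.symm,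
        hnf, ← pow_mul, ((show Commute n H.z from hnz).pow_right i).eq, mul_inv_cancel_right]
    rw [hnp, mul_inv_cancel_right] at e
    have e' := mul_left_cancel e
    have hj0 : C.f ^ j = 1 := by
      rw [two_mul, pow_add] at e'
      exact (mul_eq_left.1 e'.symm)
    rw [hj0, mul_one]
    exact pow_mem (mem_zpowers _) i
  rcases T.small_P hgK hI hgM with h | h
  · exact Or.inl (key g h (hk n hn).symm)
  · refine Or.inr (key _ h ?_)
    have hnt : n * T.t = T.t * n := T.mem_K.1 (T.K0_le hn).2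
    exact ((show Commute n T.t from hnt).mul_right (show Commute n g from (hk n hn).symm)).eq

/-- An element of `C(t)` inverting `z`. -/
theorem exists_h : ∃ h ∈ T.Nz, h * H.z * h⁻¹ = H.z ^ 2 := by
  obtain ⟨j, hj, hk⟩ := T.lift_J (H.M_norm (C.rep_mem ph)) C.act_gens.2.2.1 h_comm
  have hz : j * C.rep ph * H.z * (j * C.rep ph)⁻¹ = H.z ^ 2 := by
    rw [show j * C.rep ph * H.z * (j * C.rep ph)⁻¹ = j * (C.rep ph * H.z * (C.rep ph)⁻¹) * j⁻¹ by group,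
      ← C.ev_basis.1, C.act_gens.2.2.1.2 4 (by norm_num), ph_twice, H.J_comm _ hj _ (C.ev_J _), mul_inv_cancel_right,
      C.ev_smul]
  refine ⟨_, ⟨hk, ?_⟩, hz⟩
  haveI : Fintype (zpowers H.z) := Fintype.ofFinite _
  refine Subgroup.mem_normalizer_fintype fun a ha => ?_
  obtain ⟨i, hi⟩ := ha
  subst hi
  show j * C.rep ph * H.z ^ i * (j * C.rep ph)⁻¹ ∈ _
  rw [← conj_zpow, hz]
  exact zpow_mem (pow_mem (mem_zpowers _) 2) i
where
  h_comm : mM mH0 mT0 = mM mT0 mH0 := by decide +kernel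

/-- Without the extension the elements inverting `z` are odd on the five points. -/
theorem Φ_outer (hE : ¬ C.Ext) {g : G} (hg : g ∈ T.Nz) (hz : g * H.z * g⁻¹ = H.z ^ 2) :
    Equiv.Perm.sign (T.Φ ⟨g, hg⟩) = -1 := by
  rcases Int.units_eq_one_or (Equiv.Perm.sign (T.Φ ⟨g, hg⟩)) with h | h
  swap
  · exact h
  exfalso
  obtain ⟨x, hx⟩ := autPerm_even h
  obtain ⟨⟨k, hk⟩, rfl⟩ := T.ψ0.surjective x
  rw [← T.Φ_K0 hk] at hx
  set c := g * k⁻¹ with hc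
  have hcN : c ∈ T.Nz := T.Nz.mul_mem hg (T.Nz.inv_mem (T.K0_Nz hk))
  have hc1 : T.Φ ⟨c, hcN⟩ = 1 := by
    rw [show (⟨c, hcN⟩ : T.Nz) = ⟨g, hg⟩ * ⟨k, T.K0_Nz hk⟩⁻¹ from rfl, map_mul, map_inv, hx, mul_inv_cancel]
  have hcomm := T.Φ_cent hcN hc1
  have hcf := hcomm _ T.f_K0
  have hcz : c * H.z * c⁻¹ = H.z ^ 2 := by
    have hkz : Commute k H.z := H.L_cz (T.K0_le hk).1
    calc c * H.z * c⁻¹ = g * (k⁻¹ * H.z * k) * g⁻¹ := by rw [hc]; group
      _ = g * H.z * g⁻¹ := by rw [hkz.inv_left.eq, inv_mul_cancel_right]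
      _ = _ := hz
  have hcN' : c ∈ normalizer (H.J : Set G) := T.norm_P_le fun a ha => by
    obtain ⟨i, -, j, -, rfl⟩ := T.P_code ha
    rw [show c * (H.z ^ i * C.f ^ j) * c⁻¹ = (c * H.z ^ i * c⁻¹) * (c * C.f ^ j * c⁻¹) by group, show c * H.z ^ i * c⁻¹ = (c * H.z * c⁻¹) ^ i from conj_pow.symm,
      hcz, ((show Commute c C.f from hcf).pow_right j).eq, mul_inv_cancel_right]
    exact mul_mem (pow_mem (pow_mem T.z_P 2) i) (pow_mem T.f_P j)
  obtain ⟨M, -, hcM, hMA⟩ := T.K_mat hcN' hcN.1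
  obtain ⟨n, hn, hnB, -, -⟩ := T.exists_n0
  refine outer_twist T.B T.B_mem M (hMA hE) ?_ ?_ ?_
  · refine C.ev_inj (ap_lt _ _) (by norm_num) ?_
    rw [← hcM.2 4 (by norm_num), C.ev_basis.1, hcz, show (8 : ℕ) = vS 2 4 by decide +kernel, C.ev_smul, C.ev_basis.1]
  · refine C.ev_inj (ap_lt _ _) (by norm_num) ?_
    rw [← hcM.2 7 (by norm_num), C.ev_basis.2.1, hcf, mul_inv_cancel_right]
  · have h1 := C.nact_mul hcM hnB
    rw [hcomm n hn] at h1
    exact C.nact_unique h1 (C.nact_mul hnB hcM)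

end Tt

end Cfsg.Agent.Spor.McLThree
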