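import Cfsg.Agent.Lib.Spor.McLThree.TLine
import Cfsg.Agent.Lib.Spor.McLThree.FourPoints

/-!
The quotient of `C(t)` by `⟨t⟩`: the image of the plane, its normalizer and centralizers.
-/

set_option autoImplicit false
set_option maxRecDepth 100000
set_option synthInstance.maxSize 4096
set_option linter.unusedSectionVars false

namespace Cfsg.Agent.Spor.McLThree

open Subgroup Cfsg.Agent.Spor.UFourType

universe u

/-- The four singular vectors of the plane. -/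
def four (i : Fin 4) : ℕ := List.getD [4, 7, 8, 5] i 0

theorem four_spec : (∀ B ∈ ordT, ∀ M ∈ tE B, ∀ i, ∃ j, ap M (four i) = four j) ∧
    (∀ i j, four i = four j → i = j) ∧ (∀ i, four i < 81 ∧ four (i + 2) = vS 2 (four i)) ∧
    (∀ i : Fin 4, (fc4 ^ 2) i = i + 2) := by
  decide +kernel

theorem tE_shape : ∀ B ∈ ordT, (tA B).Nodup ∧ (tE B).Nodup ∧ (tA B).length = 16 ∧ (tE B).length = 32 ∧
    (∀ M ∈ tA B, M ∈ tE B) := by
  decide +kernel

theorem equiv_of_same_ker {A B D : Type*} [Group A] [Group B] [Group D] (f : A →* B) (g : A →* D)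
    (hf : Function.Surjective f) (hg : Function.Surjective g) (h : f.ker = g.ker) : Nonempty (B ≃* D) :=
  ⟨(QuotientGroup.quotientKerEquivOfSurjective f hf).symm.trans
    ((QuotientGroup.quotientMulEquivOfEq h).trans (QuotientGroup.quotientKerEquivOfSurjective g hg))⟩

variable {G : Type u} [Group G] [Finite G] {H : Hyp G}

namespace Tt

variable {C : Sec H} (T : Tt C)

/-- The order of a subgroup of `K ∩ N(J)` containing the plane, from its matrices. -/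
theorem card_by_mats {U : Subgroup G} (hU : U ≤ T.K) (hPU : T.P ≤ U) (l : List ℕ) (hl : l.Nodup)
    (hmat : ∀ g ∈ U, ∃ M ∈ l, ActB C.ev g M) (hsurj : ∀ M ∈ l, ∃ g ∈ U, ActB C.ev g M) :
    Nat.card U = 9 * l.length := by
  choose g hgU hgA using fun M : {M // M ∈ l} => hsurj M.1 M.2
  let f : T.P × {M // M ∈ l} → U := fun p => ⟨g p.2 * p.1, U.mul_mem (hgU p.2) (hPU p.1.2)⟩
  have hact : ∀ p : T.P × {M // M ∈ l}, ActB C.ev (g p.2 * p.1) p.2.1 := fun p => by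
    refine ⟨(hgA p.2).1, fun v hv => ?_⟩
    rw [← (hgA p.2).2 v hv]
    calc g p.2 * (p.1 : G) * C.ev v * (g p.2 * (p.1 : G))⁻¹
        = g p.2 * ((p.1 : G) * C.ev v * (p.1 : G)⁻¹) * (g p.2)⁻¹ := by group
      _ = _ := by rw [H.J_comm _ p.1.2.1 _ (C.ev_J v), mul_inv_cancel_right]
  rw [← Nat.card_eq_of_bijective f ⟨fun p q h => ?_, fun x => ?_⟩, Nat.card_prod, T.card_P]
  · classical
    rw [Nat.card_congr (Equiv.subtypeEquivRight fun M => (List.mem_toFinset (l := l)).symm), Nat.card_eq_finsetCard,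
      List.toFinset_card_of_nodup hl]
  · have h' : g p.2 * (p.1 : G) = g q.2 * q.1 := congrArg Subtype.val h
    have hM : p.2 = q.2 := Subtype.ext (C.nact_unique (hact p) (h' ▸ hact q))
    rw [hM] at h'
    exact Prod.ext (Subtype.ext (mul_left_cancel h')) hM
  · obtain ⟨M, hM, hxM⟩ := hmat x x.2
    refine ⟨(⟨(g ⟨M, hM⟩)⁻¹ * x, ?_⟩, ⟨M, hM⟩), Subtype.ext (mul_inv_cancel_left _ _)⟩
    refine ⟨H.J_self_cent fun a ha => ?_, T.K.mul_mem (T.K.inv_mem (hU (hgU _))) (hU x.2)⟩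
    obtain ⟨v, hv, rfl⟩ := C.ev_surj ha
    refine mul_inv_eq_iff_eq_mul.1 ?_
    calc (g ⟨M, hM⟩)⁻¹ * x * C.ev v * ((g ⟨M, hM⟩)⁻¹ * x)⁻¹
        = (g ⟨M, hM⟩)⁻¹ * ((x : G) * C.ev v * (x : G)⁻¹) * g ⟨M, hM⟩ := by group
      _ = (g ⟨M, hM⟩)⁻¹ * (g ⟨M, hM⟩ * C.ev v * (g ⟨M, hM⟩)⁻¹) * g ⟨M, hM⟩ := by
        rw [hxM.2 v hv, (hgA _).2 v hv]
      _ = _ := by group

/-- The normalizer of the plane in the centralizer. -/
abbrev NP : Subgroup G := T.K ⊓ normalizer (T.P : Set G)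

theorem NP_norm {g : G} (hg : g ∈ T.NP) : g ∈ normalizer (H.J : Set G) :=
  T.norm_P_le fun a ha => ((mem_normalizer_iff.1 hg.2) a).1 ha

theorem NJ_NP {g : G} (hgK : g ∈ T.K) (hgN : g ∈ normalizer (H.J : Set G)) : g ∈ T.NP := by
  haveI : Fintype T.P := Fintype.ofFinite _
  refine ⟨hgK, Subgroup.mem_normalizer_fintype fun a ha => ⟨((mem_normalizer_iff.1 hgN) a).1 ha.1, ?_⟩⟩
  exact T.K.mul_mem (T.K.mul_mem hgK ha.2) (T.K.inv_mem hgK)

theorem P_NP : T.P ≤ T.NP := fun _ ha => T.NJ_NP ha.2 (H.M_norm (H.J_le_M ha.1))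

theorem four_act {g : G} (hg : g ∈ T.NP) (i : Fin 4) : ∃ j, g * C.ev (four i) * g⁻¹ = C.ev (four j) := by
  obtain ⟨M, hM, hgM, -⟩ := T.K_mat (T.NP_norm hg) hg.1
  obtain ⟨j, hj⟩ := four_spec.1 T.B T.B_mem M hM i
  exact ⟨j, by rw [hgM.2 _ (four_spec.2.2.1 i).1, hj]⟩

/-- The image index. -/
noncomputable def fourFun (g : T.NP) (i : Fin 4) : Fin 4 := (T.four_act g.2 i).choose

theorem fourFun_spec (g : T.NP) (i : Fin 4) :
    (g : G) * C.ev (four i) * (g : G)⁻¹ = C.ev (four (T.fourFun g i)) := (T.four_act g.2 i).choose_spec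

theorem fourFun_eq {g : T.NP} {i j : Fin 4} (h : (g : G) * C.ev (four i) * (g : G)⁻¹ = C.ev (four j)) :
    T.fourFun g i = j :=
  four_spec.2.1 _ _ (C.ev_inj (four_spec.2.2.1 _).1 (four_spec.2.2.1 _).1 ((T.fourFun_spec g i).symm.trans h))

/-- The action on the four singular vectors. -/
noncomputable def fourHom : T.NP →* Equiv.Perm (Fin 4) :=
  MonoidHom.toHomPerm
    { toFun := fun g => T.fourFun g
      map_one' := funext fun i => T.fourFun_eq (by simp only [coe_one, one_mul, inv_one, mul_one]; rfl)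
      map_mul' := fun a b => funext fun i => T.fourFun_eq (by
        rw [coe_mul, show (a : G) * b * C.ev (four i) * ((a : G) * b)⁻¹ =
          (a : G) * ((b : G) * C.ev (four i) * (b : G)⁻¹) * (a : G)⁻¹ by group, T.fourFun_spec b i]
        exact T.fourFun_spec a _) }

theorem fourHom_apply (g : T.NP) (i : Fin 4) : T.fourHom g i = T.fourFun g i := rfl

theorem fourHom_range (g : T.NP) : T.fourHom g ∈ dih4.range := by
  refine dih4_range (Equiv.ext fun i => ?_)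
  rw [Equiv.Perm.mul_apply, Equiv.Perm.mul_apply, four_spec.2.2.2, four_spec.2.2.2]
  refine T.fourFun_eq ?_
  rw [(four_spec.2.2.1 i).2, (four_spec.2.2.1 _).2, C.ev_smul, C.ev_smul, ← conj_pow]
  exact congrArg (· ^ 2) (T.fourFun_spec g i)

theorem fourHom_ker (g : T.NP) :
    T.fourHom g = 1 ↔ (g : G) * H.z = H.z * g ∧ (g : G) * C.f = C.f * g := by
  constructor
  · intro h
    have h0 := T.fourFun_spec g 0
    have h1 := T.fourFun_spec g 1
    rw [show T.fourFun g 0 = 0 from Equiv.congr_fun h 0, show four 0 = 4 from rfl, C.ev_basis.1] at h0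
    rw [show T.fourFun g 1 = 1 from Equiv.congr_fun h 1, show four 1 = 7 from rfl, C.ev_basis.2.1] at h1
    exact ⟨mul_inv_eq_iff_eq_mul.1 h0, mul_inv_eq_iff_eq_mul.1 h1⟩
  · rintro ⟨hz, hf⟩
    refine Equiv.ext fun i => T.fourFun_eq ?_
    have h4 : (g : G) * C.ev 4 * (g : G)⁻¹ = C.ev 4 := by rw [C.ev_basis.1, hz, mul_inv_cancel_right]
    have h7 : (g : G) * C.ev 7 * (g : G)⁻¹ = C.ev 7 := by rw [C.ev_basis.2.1, hf, mul_inv_cancel_right]
    have h8 : C.ev 8 = C.ev 4 ^ 2 := by rw [← C.ev_smul]; rfl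
    have h5 : C.ev 5 = C.ev 7 ^ 2 := by rw [← C.ev_smul]; rfl
    fin_cases i
    · exact h4
    · exact h7
    · show (g : G) * C.ev 8 * (g : G)⁻¹ = C.ev 8
      rw [h8, ← conj_pow, h4]
    · show (g : G) * C.ev 5 * (g : G)⁻¹ = C.ev 5
      rw [h5, ← conj_pow, h7]

/-- The subgroup `⟨t⟩`. -/
abbrev tK : Subgroup T.K := (zpowers T.t).subgroupOf T.K

instance : (T.tK).Normal := ⟨fun x hx g => by
  obtain ⟨i, hi⟩ := mem_subgroupOf.1 hx
  have hc : Commute (g : G) (T.t ^ i) := (show Commute (g : G) T.t from T.mem_K.1 g.2).zpow_right i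
  refine mem_subgroupOf.2 ?_
  show (g : G) * (x : G) * (g : G)⁻¹ ∈ zpowers T.t
  rw [← show T.t ^ i = (x : G) from hi, hc.eq, mul_inv_cancel_right]
  exact zpow_mem (mem_zpowers _) i⟩

/-- The quotient. -/
abbrev X := T.K ⧸ T.tK

/-- The projection. -/
noncomputable abbrev pt' : T.K →* T.X := QuotientGroup.mk' T.tK

theorem px_eq {g g' : G} (hg : g ∈ T.K) (hg' : g' ∈ T.K) :
    T.pt' ⟨g, hg⟩ = T.pt' ⟨g', hg'⟩ ↔ g' = g ∨ g' = g * T.t := by
  rw [QuotientGroup.mk'_apply, QuotientGroup.mk'_apply, QuotientGroup.eq, mem_subgroupOf]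
  simp only [coe_mul, coe_inv]
  constructor
  · rintro ⟨i, hi⟩
    have hi' : T.t ^ i = g⁻¹ * g' := hi
    rcases Int.emod_two_eq_zero_or_one i with h | h
    · left
      have : T.t ^ i = 1 := by
        rw [← orderOf_dvd_iff_zpow_eq_one, T.t_order]; exact_mod_cast Int.dvd_of_emod_eq_zero h
      rw [this] at hi'
      exact (inv_mul_eq_one.1 hi'.symm).symm
    · right
      have : T.t ^ i = T.t := by
        rw [← Int.emod_add_mul_ediv i 2, h, zpow_add, zpow_one, zpow_mul, zpow_two, T.t_sq, one_zpow, mul_one]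
      rw [this] at hi'
      rw [hi', mul_inv_cancel_left]
  · rintro (rfl | rfl)
    · rw [inv_mul_cancel]; exact one_mem _
    · rw [inv_mul_cancel_left]; exact mem_zpowers _

theorem odd_inj {a b : G} (ha : a ∈ T.K) (hb : b ∈ T.K) (ha3 : a ^ 3 = 1) (hb3 : b ^ 3 = 1)
    (h : T.pt' ⟨a, ha⟩ = T.pt' ⟨b, hb⟩) : a = b := by
  rcases (T.px_eq ha hb).1 h with h | h
  · exact h.symm
  · exfalso
    rw [h, (show Commute a T.t from T.mem_K.1 ha).mul_pow, ha3, one_mul, pow_succ, sq, T.t_sq, one_mul] at hb3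
    exact T.t_ne hb3

/-- The image of the plane. -/
noncomputable def D : Subgroup T.X := (T.P.subgroupOf T.K).map T.pt'

theorem D_mem {a : G} (ha : a ∈ T.P) : T.pt' ⟨a, ha.2⟩ ∈ T.D := ⟨_, mem_subgroupOf.2 ha, rfl⟩

theorem card_D : Nat.card T.D = 9 := by
  rw [← T.card_P]
  refine (Nat.card_eq_of_bijective (fun a : T.P => (⟨_, T.D_mem a.2⟩ : T.D)) ⟨fun a b h => ?_, ?_⟩).symm
  · exact Subtype.ext (T.odd_inj a.2.2 b.2.2 (H.J_cube _ a.2.1) (H.J_cube _ b.2.1) (congrArg Subtype.val h :))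
  · rintro ⟨_, ⟨a, ha, rfl⟩⟩
    exact ⟨⟨a, mem_subgroupOf.1 ha⟩, Subtype.ext rfl⟩

theorem D_exp : ∀ a ∈ T.D, a ^ 3 = 1 := by
  rintro _ ⟨a, ha, rfl⟩
  rw [← map_pow, show a ^ 3 = 1 from Subtype.ext (by simpa using H.J_cube _ (mem_subgroupOf.1 ha).1), map_one]

theorem D_comm : ∀ a ∈ T.D, ∀ b ∈ T.D, a * b = b * a := by
  rintro _ ⟨a, ha, rfl⟩ _ ⟨b, hb, rfl⟩
  rw [← map_mul, ← map_mul]
  exact congrArg _ (Subtype.ext (H.J_comm _ (mem_subgroupOf.1 ha).1 _ (mem_subgroupOf.1 hb).1))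

/-- The image of `z f`. -/
noncomputable def yb : T.X := T.pt' ⟨H.z * C.f, T.K.mul_mem T.z_K T.f_K⟩

/-- The image of `z`. -/
noncomputable def zb : T.X := T.pt' ⟨H.z, T.z_K⟩

theorem closure_yz : closure {T.yb, T.zb} = T.D := by
  refine le_antisymm ((closure_le _).2 ?_) ?_
  · rintro x (rfl | rfl)
    · exact T.D_mem (T.P.mul_mem T.z_P T.f_P)
    · exact T.D_mem T.z_P
  · rintro _ ⟨⟨a, haK⟩, ha, rfl⟩
    obtain ⟨i, -, j, -, rfl⟩ := T.P_code (mem_subgroupOf.1 ha)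
    set Dc := closure {T.yb, T.zb}
    have hz : T.pt' ⟨H.z, T.z_K⟩ ∈ Dc := subset_closure (Or.inr rfl)
    have hf : T.pt' ⟨C.f, T.f_K⟩ ∈ Dc := by
      rw [show (⟨C.f, T.f_K⟩ : T.K) = ⟨H.z, T.z_K⟩⁻¹ * ⟨H.z * C.f, T.K.mul_mem T.z_K T.f_K⟩ from
        Subtype.ext (by simp), map_mul, map_inv]
      exact mul_mem (inv_mem hz) (subset_closure (Or.inl rfl))
    rw [show (⟨H.z ^ i * C.f ^ j, haK⟩ : T.K) = ⟨H.z, T.z_K⟩ ^ i * ⟨C.f, T.f_K⟩ ^ j from Subtype.ext (by simp),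
      map_mul, map_pow, map_pow]
    exact mul_mem (pow_mem hz i) (pow_mem hf j)

theorem D_sylow : ∃ S : Sylow 3 T.X, (S : Subgroup T.X) = T.D := by
  haveI : Fact (Nat.Prime 3) := ⟨Nat.prime_three⟩
  obtain ⟨S, hS⟩ := (IsPGroup.of_card (n := 2) (by rw [T.card_D]; norm_num) : IsPGroup 3 T.D).exists_le_sylow
  refine ⟨S, (eq_of_le_of_card_ge hS ?_).symm⟩
  -- a Sylow group of `K` over `P` is `P`
  obtain ⟨S0, hS0⟩ := (IsPGroup.of_card (n := 2) (by
    rw [Nat.card_congr (subgroupOfEquivOfLe (inf_le_right : T.P ≤ T.K)).toEquiv, T.card_P]; norm_num) :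
      IsPGroup 3 (T.P.subgroupOf T.K)).exists_le_sylow
  have hS0P : (S0 : Subgroup T.K) = T.P.subgroupOf T.K := by
    have h := T.P_sylow (S0.isPGroup'.map T.K.subtype) (map_subtype_le _) (fun a ha =>
      ⟨⟨a, ha.2⟩, hS0 (mem_subgroupOf.2 ha), rfl⟩)
    refine le_antisymm (fun x hx => mem_subgroupOf.2 ?_) hS0
    rw [← h]
    exact ⟨x, hx, rfl⟩
  have h9 : Nat.card S0 = 9 := by
    rw [show Nat.card S0 = Nat.card (S0 : Subgroup T.K) from rfl, hS0P,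
      Nat.card_congr (subgroupOfEquivOfLe (inf_le_right : T.P ≤ T.K)).toEquiv, T.card_P]
  have hf := S0.card_eq_multiplicity
  have hdvd : Nat.card T.X ∣ Nat.card T.K := card_quotient_dvd_card _
  have hle : (Nat.card T.X).factorization 3 ≤ (Nat.card T.K).factorization 3 :=
    (Nat.factorization_le_iff_dvd Nat.card_pos.ne' Nat.card_pos.ne').2 hdvd 3
  rw [T.card_D, show Nat.card S = Nat.card (S : Subgroup T.X) from rfl] at *
  calc Nat.card (S : Subgroup T.X) = 3 ^ (Nat.card T.X).factorization 3 := S.card_eq_multiplicity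
    _ ≤ 3 ^ (Nat.card T.K).factorization 3 := Nat.pow_le_pow_right (by norm_num) hle
    _ = _ := by rw [← hf]; exact h9

/-- Normalising the image of the plane. -/
theorem lift_norm {g : G} (hg : g ∈ T.K) :
    T.pt' ⟨g, hg⟩ ∈ normalizer (T.D : Set T.X) ↔ g ∈ T.NP := by
  constructor
  · intro h
    refine T.NJ_NP hg (T.norm_P_le fun a ha => ?_)
    obtain ⟨⟨b, hbK⟩, hb, hbe⟩ := ((mem_normalizer_iff.1 h) _).1 (T.D_mem ha)
    rw [← map_inv, ← map_mul, ← map_mul] at hbe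
    have hgag : g * a * g⁻¹ ∈ T.K := T.K.mul_mem (T.K.mul_mem hg ha.2) (T.K.inv_mem hg)
    have e : b = g * a * g⁻¹ := T.odd_inj hbK hgag (H.J_cube _ (mem_subgroupOf.1 hb).1)
      (by rw [conj_pow, H.J_cube _ ha.1, mul_one, mul_inv_cancel]) hbe
    exact e ▸ mem_subgroupOf.1 hb
  · intro h
    haveI : Fintype T.D := Fintype.ofFinite _
    refine Subgroup.mem_normalizer_fintype ?_
    rintro _ ⟨⟨a, haK⟩, ha, rfl⟩
    rw [← map_inv, ← map_mul, ← map_mul]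
    exact ⟨_, mem_subgroupOf.2 (((mem_normalizer_iff.1 h.2) a).1 (mem_subgroupOf.1 ha)), rfl⟩

/-- Commuting with the image of an element of order three. -/
theorem lift_comm {g a : G} (hg : g ∈ T.K) (ha : a ∈ T.K) (ha3 : a ^ 3 = 1) :
    T.pt' ⟨g, hg⟩ * T.pt' ⟨a, ha⟩ = T.pt' ⟨a, ha⟩ * T.pt' ⟨g, hg⟩ ↔ g * a = a * g := by
  constructor
  · intro h
    have h' : T.pt' ⟨g * a * g⁻¹, T.K.mul_mem (T.K.mul_mem hg ha) (T.K.inv_mem hg)⟩ = T.pt' ⟨a, ha⟩ := by
      rw [show (⟨g * a * g⁻¹, T.K.mul_mem (T.K.mul_mem hg ha) (T.K.inv_mem hg)⟩ : T.K) = ⟨g, hg⟩ * ⟨a, ha⟩ * ⟨g, hg⟩⁻¹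
        from rfl, map_mul, map_mul, map_inv, h, mul_inv_cancel_right]
    exact mul_inv_eq_iff_eq_mul.1 (T.odd_inj _ ha (by rw [conj_pow, ha3, mul_one, mul_inv_cancel]) ha3 h')
  · intro h
    rw [← map_mul, ← map_mul]
    exact congrArg _ (Subtype.ext h)

/-- The order of a subgroup of the quotient from that of its preimage. -/
theorem card_image {U : Subgroup G} (hU : U ≤ T.K) (htU : T.t ∈ U) (Y : Subgroup T.X)
    (h : ∀ g (hg : g ∈ T.K), T.pt' ⟨g, hg⟩ ∈ Y ↔ g ∈ U) : 2 * Nat.card Y = Nat.card U := by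
  have hmap : Y = (U.subgroupOf T.K).map T.pt' := by
    ext y
    obtain ⟨⟨g, hg⟩, rfl⟩ := QuotientGroup.mk'_surjective T.tK y
    refine ⟨fun hy => ⟨_, mem_subgroupOf.2 ((h g hg).1 hy), rfl⟩, ?_⟩
    rintro ⟨⟨g', hg'⟩, hu, he⟩
    rw [← he]
    exact (h g' hg').2 (mem_subgroupOf.1 hu)
  set f : U.subgroupOf T.K →* T.X := T.pt'.comp (U.subgroupOf T.K).subtype
  have hr : f.range = Y := by rw [hmap, MonoidHom.range_comp, range_subtype]
  have h1 := f.ker.card_mul_index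
  rw [index_ker, hr, Nat.card_congr (subgroupOfEquivOfLe hU).toEquiv] at h1
  have hk : Nat.card f.ker = 2 := by
    rw [← T.t_order, ← Nat.card_zpowers]
    refine Nat.card_congr
      { toFun := fun x => ⟨((x.1 : T.K) : G), mem_subgroupOf.1 ((QuotientGroup.eq_one_iff _).1 (MonoidHom.mem_ker.1 x.2))⟩
        invFun := fun a => ⟨⟨⟨a, ?_⟩, mem_subgroupOf.2 ?_⟩, MonoidHom.mem_ker.2 ((QuotientGroup.eq_one_iff _).2
          (mem_subgroupOf.2 a.2))⟩
        left_inv := fun _ => rfl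
        right_inv := fun _ => rfl }
    · obtain ⟨i, hi⟩ := a.2
      subst_vars
      exact hi ▸ T.K.zpow_mem T.t_K i
    · obtain ⟨i, hi⟩ := a.2
      exact hi ▸ U.zpow_mem htU i
  rw [hk] at h1
  exact h1

/-- The line normalizer in the quotient. -/
theorem lift_line {g : G} (hg : g ∈ T.K) :
    T.pt' ⟨g, hg⟩ ∈ normalizer (zpowers T.zb : Set T.X) ↔ g ∈ T.Nz := by
  constructor
  · intro h
    obtain ⟨i, hi⟩ := ((mem_normalizer_iff.1 h) T.zb).1 (mem_zpowers _)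
    have hz : g * H.z * g⁻¹ ∈ zpowers H.z := by
      have hmem : T.pt' ⟨g * H.z * g⁻¹, T.K.mul_mem (T.K.mul_mem hg T.z_K) (T.K.inv_mem hg)⟩ =
          T.pt' ⟨H.z ^ i, T.K.zpow_mem T.z_K i⟩ := by
        rw [show (⟨g * H.z * g⁻¹, T.K.mul_mem (T.K.mul_mem hg T.z_K) (T.K.inv_mem hg)⟩ : T.K) =
            ⟨g, hg⟩ * ⟨H.z, T.z_K⟩ * ⟨g, hg⟩⁻¹ from rfl, map_mul, map_mul, map_inv,
          show (⟨H.z ^ i, T.K.zpow_mem T.z_K i⟩ : T.K) = ⟨H.z, T.z_K⟩ ^ i from rfl, map_zpow]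
        exact hi.symm
      rw [T.odd_inj _ _ (by rw [conj_pow, H.z_cube, mul_one, mul_inv_cancel]) (H.J_cube _ (zpow_mem H.z_J i)) hmem]
      exact zpow_mem (mem_zpowers _) i
    haveI : Fintype (zpowers H.z) := Fintype.ofFinite _
    refine ⟨hg, Subgroup.mem_normalizer_fintype fun a ha => ?_⟩
    obtain ⟨k, hk⟩ := ha
    subst hk
    show g * H.z ^ k * g⁻¹ ∈ _
    rw [← conj_zpow]
    exact zpow_mem hz k
  · intro h
    haveI : Fintype (zpowers T.zb) := Fintype.ofFinite _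
    refine Subgroup.mem_normalizer_fintype ?_
    rintro _ ⟨k, rfl⟩
    show T.pt' ⟨g, hg⟩ * T.zb ^ k * (T.pt' ⟨g, hg⟩)⁻¹ ∈ _
    obtain ⟨i, hi⟩ := T.Nz_conj_z h
    rw [← conj_zpow, zb, ← map_inv, ← map_mul, ← map_mul, show (⟨g, hg⟩ * ⟨H.z, T.z_K⟩ * ⟨g, hg⟩⁻¹ : T.K) =
      ⟨H.z, T.z_K⟩ ^ i from Subtype.ext (by simpa using hi.symm), map_zpow]
    exact zpow_mem (zpow_mem (mem_zpowers _) i) k

/-- The normalizer of the line maps onto the one in the quotient. -/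
theorem exists_line_equiv {W : Type*} [Group W] (Ψ : T.Nz →* W) (hk : Ψ.ker = (zpowers T.t).subgroupOf T.Nz) :
    Nonempty (normalizer (zpowers T.zb : Set T.X) ≃* Ψ.range) := by
  let f : T.Nz →* normalizer (zpowers T.zb : Set T.X) :=
    (T.pt'.comp (inclusion inf_le_left)).codRestrict _ fun g => (T.lift_line g.2.1).2 g.2
  refine equiv_of_same_ker f Ψ.rangeRestrict ?_ Ψ.rangeRestrict_surjective ?_
  · rintro ⟨y, hy⟩
    obtain ⟨⟨g, hg⟩, rfl⟩ := QuotientGroup.mk'_surjective T.tK y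
    exact ⟨⟨g, (T.lift_line hg).1 hy⟩, Subtype.ext rfl⟩
  · rw [MonoidHom.ker_rangeRestrict, hk]
    ext g
    rw [MonoidHom.mem_ker, mem_subgroupOf]
    refine ⟨fun h => ?_, fun h => Subtype.ext ?_⟩
    · have h' : T.pt' ⟨(g : G), g.2.1⟩ = 1 := congrArg Subtype.val h
      rw [QuotientGroup.mk'_apply, QuotientGroup.eq_one_iff] at h'
      exact mem_subgroupOf.1 h'
    · show T.pt' ⟨(g : G), g.2.1⟩ = 1
      rw [QuotientGroup.mk'_apply, QuotientGroup.eq_one_iff]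
      exact mem_subgroupOf.2 h

end Tt

end Cfsg.Agent.Spor.McLThree
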