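import Cfsg.Agent.Lib.Spor.McLThree.TBasic
import Cfsg.Agent.Lib.Char.SL25Facts

/-!
In the centralizer of `z` and the involution, `SL₂(5)` splits off: it is the commutator subgroup of `C_L(t)`.
-/

set_option autoImplicit false
set_option maxRecDepth 100000
set_option synthInstance.maxSize 4096
set_option linter.unusedSectionVars false

namespace Cfsg.Agent.Spor.McLThree

open Subgroup Cfsg.Agent.Spor.UFourType

universe u

open scoped commutatorElement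

/-- Matrices with commutators the two generators. -/
def cx (k : ℕ) : SL5 :=
  match k with
  | 0 => ⟨!![1, 3; 0, 1], by decide⟩
  | 1 => ⟨!![2, 0; 0, 3], by decide⟩
  | 2 => ⟨!![0, 2; 2, 0], by decide⟩
  | _ => ⟨!![1, 4; 3, 3], by decide⟩

/-- Two generators of `SL₂(5)` are commutators. -/
theorem sl5_comm : ⁅cx 0, cx 1⁆ = Char.SL25Facts.T ∧ ⁅cx 2, cx 3⁆ = Char.SL25Facts.a := by
  decide +kernel

theorem mI_ordT : ∀ B ∈ ordT, mM mI B = B := by decide +kernel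

variable {G : Type u} [Group G] [Finite G] {H : Hyp G}

theorem Hyp.conj_L_norm (H : Hyp G) {g l : G} (hg : g * H.z * g⁻¹ ∈ zpowers H.z) (hl : l ∈ H.L) :
    g * l * g⁻¹ ∈ H.L := by
  have hzg : H.z ∈ zpowers (g * H.z * g⁻¹) := by
    rw [eq_of_le_of_card_ge (zpowers_le.2 hg) (by
      rw [Nat.card_zpowers, Nat.card_zpowers, ← MulAut.conj_apply, (MulAut.conj g).orderOf_eq])]
    exact mem_zpowers _
  have hle : H.L ≤ H.L.comap (MulAut.conj g).toMonoidHom := by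
    conv_lhs => rw [H.L_def]
    rw [closure_le]
    rintro x ⟨hxz, k, hxk⟩
    refine H.mem_L (k := k) ?_ (by rw [MulEquiv.coe_toMonoidHom, MulAut.conj_apply, conj_pow, hxk]; group)
    obtain ⟨i, hi⟩ := hzg
    have hc : Commute (g * x * g⁻¹) (g * H.z * g⁻¹) := by
      show _ = _
      rw [← MulAut.conj_apply, ← MulAut.conj_apply, ← map_mul, ← map_mul, hxz]
    have := (hc.zpow_right i).eq
    rw [show (g * H.z * g⁻¹) ^ i = H.z from hi] at this
    exact this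
  exact hle hl

namespace Tt

variable {C : Sec H} (T : Tt C)

/-- The centralizer of `t` in `L`. -/
abbrev K1 : Subgroup G := H.L ⊓ T.K

/-- The map to `SL₂(5)`. -/
noncomputable def ψ1 : T.K1 →* SL5 := H.ψ.comp (inclusion inf_le_left)

theorem ψ1_surj : Function.Surjective T.ψ1 := fun x => by
  obtain ⟨g, hg, rfl⟩ := H.psi_lift x
  obtain ⟨q, hq, hk⟩ := T.lift_L hg
  refine ⟨⟨q * g, mul_mem (H.Q_le_L hq) hg, hk⟩, ?_⟩
  show H.ψ ⟨q * g, mul_mem (H.Q_le_L hq) hg⟩ = _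
  rw [H.psi_mul (H.Q_le_L hq) hg, (H.ψ_ker ⟨q, H.Q_le_L hq⟩).2 hq, one_mul]

theorem ψ1_ker (g : T.K1) : T.ψ1 g = 1 ↔ (g : G) ∈ zpowers H.z := by
  refine ⟨fun h => T.Q_cent ((H.ψ_ker _).1 h) g.2.2, fun h => (H.ψ_ker _).2 (H.Z_le_Q h)⟩

theorem z_K1 : H.z ∈ T.K1 := ⟨H.Q_le_L H.z_Q, T.z_K⟩

theorem P_K1 : T.P ≤ T.K1 := fun _ ha => ⟨H.S_le_L (H.J_le_S ha.1), ha.2⟩

theorem card_K1 : Nat.card T.K1 = 360 := by
  have h1 := T.ψ1.ker.card_mul_index
  rw [index_ker, MonoidHom.range_eq_top.2 T.ψ1_surj, card_top, Nat.card_eq_fintype_card (α := SL5), sl5_card,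
    show T.ψ1.ker = (zpowers H.z).subgroupOf T.K1 from Subgroup.ext fun x => by
      rw [MonoidHom.mem_ker, T.ψ1_ker, mem_subgroupOf],
    Nat.card_congr (subgroupOfEquivOfLe (zpowers_le.2 T.z_K1)).toEquiv, H.card_Z] at h1
  exact h1.symm

/-- The group `SL₂(5)` inside the centralizer. -/
noncomputable def K0 : Subgroup G := (commutator T.K1).map T.K1.subtype

theorem K0_le : T.K0 ≤ T.K1 := map_subtype_le _

open scoped IsMulCommutative in
theorem z_not_K0 : H.z ∉ T.K0 := by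
  rintro ⟨w, hw, hwz⟩
  set R : Subgroup T.K1 := T.P.subgroupOf T.K1
  haveI : IsMulCommutative R := ⟨⟨fun a b => Subtype.ext (Subtype.ext
    (H.J_comm _ (mem_subgroupOf.1 a.2).1 _ (mem_subgroupOf.1 b.2).1))⟩⟩
  set τ := MonoidHom.transfer (MonoidHom.id R) (G := T.K1)
  have hidx : R.index = 40 := by
    have := R.card_mul_index
    rw [Nat.card_congr (subgroupOfEquivOfLe T.P_K1).toEquiv, T.card_P, T.card_K1] at this
    omega
  have hcen : ∀ g : T.K1, g * w = w * g := fun g => Subtype.ext (by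
    show (g : G) * (w : G) = w * g
    rw [show (w : G) = H.z from hwz]; exact H.L_cz g.2.1)
  have hτ := MonoidHom.transfer_eq_pow (MonoidHom.id R) w fun k g _ => by
    rw [mul_assoc, ← ((show Commute g w from hcen g).pow_right k).eq, inv_mul_cancel_left]
  have h0 : τ w = 1 := MonoidHom.mem_ker.1 (Abelianization.commutator_subset_ker τ hw)
  rw [h0] at hτ
  have h40 : w ^ 40 = 1 := by
    have := congrArg Subtype.val hτ
    simp only [MonoidHom.id_apply, hidx] at this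
    exact this.symm
  have hz40 : H.z ^ 40 = 1 := by
    rw [← hwz, ← map_pow, h40, map_one]
  rw [pow_eq_pow_mod 40 H.z_cube, show 40 % 3 = 1 from rfl, pow_one] at hz40
  exact H.z_ne hz40

theorem K0_Z {g : G} (hg : g ∈ T.K0) (hz : g ∈ zpowers H.z) : g = 1 := by
  by_contra hne
  obtain ⟨k, hk, rfl⟩ := H.pow_Z hz
  refine T.z_not_K0 ?_
  interval_cases k
  · exact absurd (pow_zero _) hne
  · simpa using hg
  · have := pow_mem hg 2
    rwa [← pow_mul, pow_eq_pow_mod (2 * 2) H.z_cube, show 2 * 2 % 3 = 1 from rfl, pow_one] at this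

/-- The restriction to the commutator subgroup. -/
noncomputable def ψ0hom : T.K0 →* SL5 := T.ψ1.comp (inclusion T.K0_le)

theorem ψ0_bij : Function.Bijective T.ψ0hom := by
  constructor
  · refine (injective_iff_map_eq_one _).2 fun g hg => Subtype.ext ?_
    exact T.K0_Z g.2 ((T.ψ1_ker _).1 hg)
  · have key : ∀ a b : SL5, ⁅a, b⁆ ∈ T.ψ0hom.range := by
      intro a b
      obtain ⟨a', rfl⟩ := T.ψ1_surj a
      obtain ⟨b', rfl⟩ := T.ψ1_surj b
      exact ⟨⟨_, mem_map_of_mem T.K1.subtype (commutator_mem_commutator (mem_top a') (mem_top b'))⟩,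
        map_commutatorElement T.ψ1 a' b'⟩
    exact MonoidHom.range_eq_top.1 (Char.SL25Facts.eq_top (sl5_comm.1 ▸ key _ _) (sl5_comm.2 ▸ key _ _))

/-- The isomorphism with `SL₂(5)`. -/
noncomputable def ψ0 : T.K0 ≃* SL5 := MulEquiv.ofBijective _ T.ψ0_bij

theorem ψ0_apply {g : G} (hg : g ∈ T.K0) : T.ψ0 ⟨g, hg⟩ = H.ψ ⟨g, (T.K0_le hg).1⟩ := rfl

theorem K1_split {g : G} (hg : g ∈ T.K1) : ∃ i < 3, ∃ k ∈ T.K0, g = H.z ^ i * k := by
  obtain ⟨⟨k, hk⟩, hk'⟩ := T.ψ0_bij.2 (T.ψ1 ⟨g, hg⟩)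
  have hz : g * k⁻¹ ∈ zpowers H.z :=
    (T.ψ1_ker ⟨g * k⁻¹, mul_mem hg (inv_mem (T.K0_le hk))⟩).1 (by
      rw [show (⟨g * k⁻¹, mul_mem hg (inv_mem (T.K0_le hk))⟩ : T.K1) = ⟨g, hg⟩ * ⟨k, T.K0_le hk⟩⁻¹ from rfl, map_mul,
        map_inv, ← hk']
      exact mul_inv_cancel _)
  obtain ⟨i, hi, hi'⟩ := H.pow_Z hz
  exact ⟨i, hi, k, hk, by rw [← hi', inv_mul_cancel_right]⟩

/-- The normalizer of the line of `z` in the centralizer of `t`. -/
abbrev Nz : Subgroup G := T.K ⊓ normalizer (zpowers H.z : Set G)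

theorem Nz_conj_z {g : G} (hg : g ∈ T.Nz) : g * H.z * g⁻¹ ∈ zpowers H.z :=
  ((mem_normalizer_iff.1 hg.2) _).1 (mem_zpowers _)

theorem K0_conj {g k : G} (hg : g ∈ T.Nz) (hk : k ∈ T.K0) : g * k * g⁻¹ ∈ T.K0 := by
  obtain ⟨w, hw, rfl⟩ := hk
  have hc : ∀ x ∈ T.K1, g * x * g⁻¹ ∈ T.K1 := fun x hx =>
    ⟨H.conj_L_norm (T.Nz_conj_z hg) hx.1, T.K.mul_mem (T.K.mul_mem hg.1 hx.2) (T.K.inv_mem hg.1)⟩
  let c : T.K1 →* T.K1 := ((MulAut.conj g).toMonoidHom.comp T.K1.subtype).codRestrict T.K1 fun x => hc x x.2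
  refine ⟨c w, ?_, rfl⟩
  have h := mem_map_of_mem c hw
  rw [_root_.commutator_def, map_commutator] at h
  exact (_root_.commutator_def T.K1).symm ▸ commutator_mono le_top le_top h

/-- An element of order four of `SL₂(5)` inverting `f`. -/
theorem exists_n0 : ∃ n ∈ T.K0, ActB C.ev n T.B ∧ n * C.f * n⁻¹ = C.f ^ 2 ∧ n * H.z = H.z * n := by
  obtain ⟨i, -, k, hk, hnk⟩ := T.K1_split ⟨T.n_L, T.n_K⟩
  have hzi : H.z ^ i ∈ H.J := pow_mem H.z_J i
  have hkA : ActB C.ev k T.B := by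
    have := C.nact_mul (C.nact_J (inv_mem hzi)) T.n_act
    rw [hnk, inv_mul_cancel_left, mI_ordT T.B T.B_mem] at this
    exact this
  refine ⟨k, hk, hkA, ?_, H.L_cz (T.K0_le hk).1⟩
  rw [← C.ev_basis.2.1, hkA.2 7 (by norm_num), (t_rels T.B T.B_mem).2.2.2.2.2.2.2.2.2.1, ← C.ev_smul]
  rfl

theorem f_K0 : C.f ∈ T.K0 := by
  obtain ⟨n, hn, -, hnf, hnz⟩ := T.exists_n0
  obtain ⟨i, hi, k, hk, hfk⟩ := T.K1_split (T.P_K1 T.f_P)
  have hzk : Commute H.z k := (H.L_cz (T.K0_le hk).1).symm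
  rw [hfk, (hzk.pow_left i).mul_pow, show n * (H.z ^ i * k) * n⁻¹ = (n * H.z ^ i * n⁻¹) * (n * k * n⁻¹) by group,
    ((show Commute n H.z from hnz).pow_right i).eq, mul_inv_cancel_right, ← pow_mul] at hnf
  have hmem : H.z ^ i ∈ T.K0 := by
    have e : H.z ^ i = (n * k * n⁻¹) * (k ^ 2)⁻¹ := by
      have h2 : H.z ^ (i * 2) = H.z ^ i * H.z ^ i := by rw [← pow_add]; ring_nf
      rw [h2, mul_assoc (H.z ^ i)] at hnf
      rw [mul_left_cancel hnf]; group
    rw [e]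
    exact mul_mem (mul_mem (mul_mem hn hk) (inv_mem hn)) (inv_mem (pow_mem hk 2))
  rw [hfk, T.K0_Z hmem (pow_mem (mem_zpowers _) i), one_mul]
  exact hk

theorem t_K0 : T.t ∈ T.K0 := by
  obtain ⟨i, hi, k, hk, htk⟩ := T.K1_split ⟨T.t_L, T.t_K⟩
  have hzk : Commute H.z k := (H.L_cz (T.K0_le hk).1).symm
  have h := T.t_sq
  rw [← sq, htk, (hzk.pow_left i).mul_pow, ← pow_mul] at h
  have hmem : H.z ^ (i * 2) ∈ T.K0 := by
    rw [eq_inv_of_mul_eq_one_left h]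
    exact inv_mem (pow_mem hk 2)
  have h1 := T.K0_Z hmem (pow_mem (mem_zpowers _) _)
  have h2 : H.z ^ i = 1 := by
    have := congrArg (fun x => x * x) h1
    rw [← pow_add, one_mul, pow_eq_pow_mod _ H.z_cube, show (i * 2 + i * 2) % 3 = i by omega] at this
    exact this
  rw [htk, h2, one_mul]
  exact hk

end Tt

end Cfsg.Agent.Spor.McLThree
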