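import Cfsg.Agent.Lib.Spor.McLThree.Coord

/-!
The permutations of six points correspond to the 360 matrices of the table.
-/

set_option autoImplicit false
set_option maxRecDepth 100000
set_option synthInstance.maxSize 4096
set_option linter.unusedSectionVars false

namespace Cfsg.Agent.Spor.McLThree

open Subgroup Cfsg.Agent.Spor.UFourType

universe u

/-- The matrices, in the order in which they are reached from the three generators. -/
def gT : List ℕ := [
  14408200, 14436240, 16538694, 14467492, 14461764, 16565999, 14520642, 18662298, 16595394, 14514006, 18191820,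
  16591523, 14495136, 18689603, 16648295, 14455272, 25153063, 18723372, 16961317, 1716797, 14501604, 18238337,
  14442888, 17126778, 18130908, 18715127, 16622789, 14369321, 20343841, 18776273, 16902583, 13461006, 14389733,
  25087693, 19836493, 25065907, 18909907, 32541078, 16778329, 2082960, 16719613, 31475982, 1655561, 18225935,
  17173295, 18164627, 20291593, 17070240, 18497551, 3252071, 18750767, 16875678, 8651784, 20220480, 24593209,
  20309173, 18851173, 39502321, 16686138, 13715297, 34185697, 13373526, 25022394, 19771123, 25131271, 19753711,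
  25379315, 7529862, 19081213, 32727613, 19022497, 3308933, 32479518, 1899972, 31841905, 1843038, 8748611,
  31418796, 1849698, 17160893, 18177011, 17103959, 18556447, 7004976, 24540961, 20361415, 17257495, 30887466,
  18313123, 3618954, 18372001, 33011016, 18824268, 34693099, 8907133, 38942413, 8616792, 24469848, 20237166,
  24562915, 20680578, 12339066, 18989022, 39576240, 7612968, 39414517, 13499095, 34439004, 13592663, 34102267,
  13514431, 19705824, 25001172, 19819075, 25404750, 9189798, 19887731, 30914123, 25279848, 7843513, 25189613,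
  33037673, 32898919, 3502350, 32839717, 34963848, 32526755, 31658917, 2026008, 31599715, 1906488, 7156553,
  39038256, 8993393, 31466033, 28757350, 2019564, 2076336, 17116343, 18451050, 11801076, 17316391, 34640365,
  18299418, 7396799, 38889679, 7074960, 24615157, 20577155, 13985880, 17427361, 31074721, 17486239, 30944490,
  3434526, 33377659, 3495672, 11996069, 33072414, 34768817, 12369684, 34657783, 39197519, 8718241, 38911471,
  8816435, 24490908, 20596193, 4826710, 24754932, 30941105, 20406815, 12711455, 20438064, 33064655, 39715073,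
  7694513, 39806118, 39349458, 34223543, 13692199, 34314588, 13538015, 9341375, 34037208, 28784256, 13769999,
  13676917, 19688976, 25360439, 9589996, 19913166, 32574059, 25208483, 9463523, 31508963, 9141684, 20142558,
  31048140, 20052323, 30998039, 7744787, 33351078, 7656079, 9778434, 33125963, 3673656, 32668393, 3612348,
  32587919, 7333403, 12648059, 34852554, 32512913, 31782685, 1950076, 12123239, 31522823, 1772200, 7220003,
  12470723, 39281256, 8859156, 14308043, 31452191, 28804584, 28816156, 12173567, 17210994, 39436465, 12075361,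
  34119841, 11844816, 17413656, 13911522, 34710511, 7142227, 38964199, 7118197, 24651509, 14201863, 20425847,
  31244587, 31303951, 30971075, 33193231, 3680118, 33252595, 3441024, 33098999, 12452287, 34931951, 39006359,
  8729203, 4997976, 28811238, 8896225, 8925623, 24670547, 39371976, 5185734, 34055352, 4804840, 24835463,
  31134103, 24866712, 12436951, 33437041, 14062775, 7832605, 39551615, 7921799, 9518225, 39480367, 34414379,
  13642440, 9971214, 13464240, 9286727, 34168117, 28718957, 28870440, 9955932, 19868855, 34568604, 9949260,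
  38817918, 9607492, 20071193, 9267253, 9243223, 31211436, 7871471, 33160080, 7667041, 32826174, 11945795,
  32622054, 12534173, 34952279, 14130599, 31586172, 12047304, 31736346, 7087926, 39026687, 14173806, 8681604,
  28790742, 28850106, 28843476, 39531119, 34393883, 11927293, 34586910, 7294507, 38840598, 28863966, 7318591,
  24854495, 14052337, 5015388, 3543670, 3367252, 12613315, 5174826, 5008938, 14240273, 4991358, 12628597,
  39735563, 9793770, 34244033, 9920477, 9212952, 28737911, 34748483, 39177185, 9800382, 9420991, 9445075,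
  7795536, 7619442, 12103819, 12402096, 14230321, 11870724, 7264182, 13995768, 4960361, 11898889, 5168316,
  5192400, 14023933, 12578838, 9977718, 9743573, 9390666, 9771978, 5137751]

/-- How each matrix comes from an earlier one and a generator. -/
def gPar : List (ℕ × ℕ) := [
  (0, 0), (0, 0), (0, 1), (0, 2), (1, 0), (1, 1), (1, 2), (2, 1), (2, 2), (3, 0), (3, 1), (4, 1), (4, 2),
  (5, 1), (5, 2), (6, 0), (6, 1), (7, 2), (8, 0), (8, 1), (9, 0), (9, 1), (9, 2), (10, 1), (10, 2), (11, 1),
  (11, 2), (12, 0), (12, 1), (13, 2), (14, 0), (14, 1), (15, 0), (15, 1), (16, 1), (16, 2), (17, 0), (17, 1),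
  (18, 0), (18, 1), (18, 2), (19, 1), (19, 2), (20, 1), (21, 1), (21, 2), (22, 1), (23, 2), (24, 0), (24, 1),
  (25, 2), (26, 0), (26, 1), (27, 1), (28, 1), (28, 2), (29, 0), (29, 1), (30, 0), (30, 1), (31, 1), (31, 2),
  (32, 1), (33, 1), (33, 2), (34, 2), (35, 0), (35, 1), (36, 0), (36, 1), (36, 2), (37, 1), (37, 2), (38, 1),
  (39, 1), (39, 2), (40, 1), (41, 2), (42, 0), (43, 1), (43, 2), (44, 2), (45, 0), (45, 1), (46, 1), (46, 2),
  (47, 0), (47, 1), (48, 0), (48, 1), (48, 2), (49, 1), (50, 0), (50, 1), (51, 1), (52, 1), (52, 2), (53, 1),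
  (53, 2), (54, 2), (55, 0), (55, 1), (56, 0), (56, 1), (57, 1), (57, 2), (58, 1), (59, 1), (59, 2), (60, 2),
  (61, 0), (62, 1), (62, 2), (63, 2), (64, 0), (64, 1), (65, 0), (65, 1), (66, 0), (66, 1), (66, 2), (67, 1),
  (68, 1), (69, 1), (69, 2), (70, 1), (72, 0), (73, 1), (73, 2), (74, 2), (75, 0), (75, 1), (76, 1), (76, 2),
  (77, 0), (77, 1), (78, 0), (78, 2), (79, 2), (80, 0), (80, 1), (81, 0), (81, 1), (82, 0), (82, 1), (83, 1),
  (83, 2), (84, 2), (85, 0), (85, 1), (86, 0), (86, 1), (86, 2), (87, 2), (88, 1), (89, 1), (89, 2), (90, 1),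
  (91, 2), (92, 1), (93, 1), (93, 2), (94, 1), (94, 2), (95, 2), (96, 0), (97, 2), (98, 0), (98, 1), (99, 0),
  (99, 1), (100, 0), (100, 1), (100, 2), (101, 1), (102, 1), (103, 1), (103, 2), (105, 0), (106, 1), (106, 2),
  (107, 2), (108, 0), (108, 1), (109, 0), (109, 1), (110, 0), (110, 2), (111, 2), (112, 0), (112, 1), (113, 0),
  (113, 1), (114, 0), (114, 1), (115, 1), (115, 2), (116, 0), (116, 1), (116, 2), (117, 2), (118, 1), (119, 1),
  (119, 2), (120, 1), (121, 2), (122, 1), (122, 2), (123, 2), (124, 0), (124, 1), (125, 1), (125, 2), (126, 0),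
  (127, 2), (128, 0), (128, 1), (129, 0), (130, 0), (130, 1), (131, 1), (132, 2), (133, 0), (133, 1), (134, 0),
  (134, 1), (135, 2), (137, 1), (138, 0), (138, 1), (139, 1), (140, 1), (140, 2), (141, 0), (142, 1), (142, 2),
  (143, 1), (145, 2), (146, 0), (147, 0), (148, 1), (148, 2), (150, 1), (151, 2), (153, 0), (154, 1), (154, 2),
  (155, 2), (156, 0), (158, 0), (159, 1), (159, 2), (162, 2), (163, 0), (163, 1), (164, 1), (165, 0), (165, 2),
  (166, 0), (166, 1), (167, 1), (168, 1), (168, 2), (169, 0), (169, 1), (169, 2), (171, 1), (172, 1), (173, 1),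
  (175, 1), (175, 2), (176, 2), (177, 1), (178, 0), (179, 2), (180, 0), (180, 1), (182, 0), (182, 1), (184, 0),
  (184, 1), (185, 2), (187, 1), (188, 0), (188, 1), (189, 1), (190, 1), (190, 2), (191, 0), (193, 1), (196, 0),
  (198, 2), (201, 2), (202, 2), (203, 0), (207, 0), (207, 1), (209, 0), (211, 2), (212, 0), (212, 1), (214, 0),
  (215, 1), (217, 0), (218, 1), (221, 0), (222, 1), (222, 2), (224, 1), (225, 2), (226, 0), (228, 1), (230, 1),
  (230, 2), (235, 0), (236, 2), (237, 0), (237, 1), (238, 2), (239, 2), (240, 2), (241, 1), (246, 0), (248, 0),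
  (250, 2), (251, 1), (253, 1), (257, 1), (262, 0), (266, 2), (270, 0), (270, 1), (274, 0), (275, 1), (277, 1),
  (280, 2), (283, 1), (285, 1), (285, 2), (289, 2), (290, 2), (292, 0), (294, 0), (295, 1), (298, 0), (299, 1),
  (302, 2), (304, 2), (306, 2), (307, 1), (313, 0), (315, 1), (318, 1), (320, 0), (329, 0), (330, 1), (333, 2),
  (334, 2), (338, 0), (347, 1)]

/-- One step of the table. -/
def gStep (i : ℕ) : Bool :=
  Nat.beq i 0 || (Nat.blt (gPar.getD i (0, 0)).1 i && (Nat.blt (gPar.getD i (0, 0)).2 3 &&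
    Nat.beq (gT.getD i 0) (mM (gT.getD (gPar.getD i (0, 0)).1 0) ([mA0, mB0, mW0].getD (gPar.getD i (0, 0)).2 mI))))

theorem gT_facts : gT.getD 0 0 = mI ∧ gT.length = 360 ∧ ((List.range 360).all gStep) = true ∧ gT.Nodup ∧
    mI ∈ gT ∧ mA0 ∈ gT ∧ mB0 ∈ gT ∧ mH0 ∈ gT ∧ mW0 ∈ gT ∧ mT0 ∈ gT := by
  decide +kernel

variable {G : Type u} [Group G] [Finite G] {H : Hyp G}

namespace Sec

variable (C : Sec H)

theorem act_all {A : ℕ} (hA : A ∈ gT) : ∃ σ, C.Act σ A := by
  obtain ⟨h0, hlen, hstep, -⟩ := gT_facts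
  obtain ⟨hpa, hpb, -, hpw⟩ := C.act_gens
  suffices ∀ i < 360, ∃ σ, C.Act σ (gT.getD i 0) by
    obtain ⟨i, hi, rfl⟩ := List.mem_iff_getElem.1 hA
    rw [← List.getD_eq_getElem gT 0 hi]
    exact this i (hlen ▸ hi)
  intro i
  induction i using Nat.strong_induction_on with
  | _ i ih =>
    intro hi
    have hs := List.all_eq_true.1 hstep i (List.mem_range.2 hi)
    simp only [gStep, Bool.or_eq_true, Bool.and_eq_true] at hs
    rcases hs with hs | ⟨h1, h2, h3⟩
    · rw [Nat.eq_of_beq_eq_true hs, h0]
      exact ⟨1, C.act_one'⟩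
    · have h1' : (gPar.getD i (0, 0)).1 < i := Nat.le_of_ble_eq_true h1
      obtain ⟨σ, hσ⟩ := ih _ h1' (h1'.trans hi)
      refine ⟨σ * pg (gPar.getD i (0, 0)).2, ?_⟩
      rw [Nat.eq_of_beq_eq_true h3]
      refine C.act_comp hσ ?_
      have h2' : (gPar.getD i (0, 0)).2 < 3 := Nat.le_of_ble_eq_true h2
      generalize (gPar.getD i (0, 0)).2 = k at h2' ⊢
      interval_cases k <;> assumption

/-- The correspondence. -/
theorem act_table : ∃ ρ : A6 → ℕ, (∀ σ, ρ σ ∈ gT ∧ C.Act σ (ρ σ)) ∧ Function.Injective ρ := by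
  classical
  choose s hs using fun A : {A // A ∈ gT} => C.act_all A.2
  have hinj : Function.Injective s := fun A B h => Subtype.ext (C.act_eq (h ▸ hs A) (hs B))
  have hcard : Nat.card {A // A ∈ gT} = Nat.card A6 := by
    rw [card_A6, Nat.card_congr (Equiv.subtypeEquivRight fun A => (List.mem_toFinset (l := gT)).symm),
      Nat.card_eq_finsetCard, List.toFinset_card_of_nodup gT_facts.2.2.2.1, gT_facts.2.1]
  haveI : Finite {A // A ∈ gT} := Nat.finite_of_card_ne_zero (by rw [hcard, card_A6]; norm_num)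
  have hb : Function.Bijective s := (Nat.bijective_iff_injective_and_card s).2 ⟨hinj, hcard⟩
  let e := Equiv.ofBijective s hb
  refine ⟨fun σ => (e.symm σ).1, fun σ => ⟨(e.symm σ).2, ?_⟩, fun σ τ h => e.symm.injective (Subtype.ext h)⟩
  have h := hs (e.symm σ)
  rwa [show s (e.symm σ) = σ from e.apply_symm_apply σ] at h

/-- The matrix of a permutation. -/
noncomputable def mat (σ : A6) : ℕ := C.act_table.choose σ

theorem mat_mem (σ : A6) : C.mat σ ∈ gT := (C.act_table.choose_spec.1 σ).1

theorem mat_act (σ : A6) : C.Act σ (C.mat σ) := (C.act_table.choose_spec.1 σ).2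

theorem mat_inj : Function.Injective C.mat := C.act_table.choose_spec.2

theorem mat_surj {A : ℕ} (hA : A ∈ gT) : ∃ σ, C.mat σ = A := by
  obtain ⟨σ, hσ⟩ := C.act_all hA
  exact ⟨σ, C.act_eq (C.mat_act σ) hσ⟩

theorem mat_mul (σ τ : A6) : C.mat (σ * τ) = mM (C.mat σ) (C.mat τ) :=
  C.act_eq (C.mat_act _) (C.act_comp (C.mat_act σ) (C.mat_act τ))

/-- Conjugation by an element of `M` in coordinates. -/
theorem conj_M {g : G} (hg : g ∈ H.M) {v : ℕ} (hv : v < 81) :
    g * C.ev v * g⁻¹ = C.ev (ap (C.mat (C.θ ⟨g, hg⟩)) v) := by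
  rw [← C.cj_eq hg (C.ev_J v)]
  exact (C.mat_act _).2 v hv

end Sec

end Cfsg.Agent.Spor.McLThree
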