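import Cfsg.Agent.Lib.Spor.McLThree.TModel
import Cfsg.Agent.Lib.Spor.UFourType.GeoData

/-!
The matrices used in the geometry of 112 points.
-/

set_option autoImplicit false
set_option maxRecDepth 100000
set_option synthInstance.maxSize 4096

namespace Cfsg.Agent.Spor.McLThree

open Cfsg.Agent.Spor.UFourType

/-- The matrix of the inverter, depending on the element of order four. -/
def mh (B : ℕ) : ℕ := mM (mM mW0 B) (mM mW0 B)

/-- Matrices carrying the first singular line onto the ten. -/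
def lineM : List ℕ :=
  [14408200, 14467492, 14520642, 14495136, 16595394, 18723372, 18750767, 16622789, 18776273, 16648295]

theorem mh_spec : ∀ B ∈ ordT, mh B ∈ gT ∧ mM (mh B) (mh B) = mT0 ∧ ap (mh B) 4 = 8 ∧
    mT0 ∈ gT ∧ mW0 ∈ gT ∧ mI ∈ gT := by
  decide +kernel

theorem lineM_spec : ∀ i < 10, lineM.getD i 0 ∈ gT ∧ lC i < 81 ∧
    (ap (lineM.getD i 0) 4 = lC i ∨ ap (lineM.getD i 0) 4 = vS 2 (lC i)) ∧
    (i = 0 → lineM.getD i 0 = mI) ∧ (i ≠ 0 → ∃ X ∈ syT, mM X mW0 = lineM.getD i 0) := by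
  decide +kernel

theorem lineM_perp : ∀ i < 10, ∀ u < 81, Nat.beq (qB (lC i) (ap (lineM.getD i 0) u)) 0 = Nat.beq (qB 4 u) 0 := by
  decide +kernel

theorem gT_line : ∀ A ∈ gT, ∃ i < 10, ap A 4 = lC i ∨ ap A 4 = vS 2 (lC i) := by decide +kernel

theorem line_stab : ∀ B ∈ ordT, ∀ A ∈ gT, (ap A 4 = 4 ∨ ap A 4 = 8) →
    ∃ X ∈ syT, ∃ D ∈ [mI, mT0, mh B, mM mT0 (mh B)], mM X D = A := by
  decide +kernel

/-- No element of order three inverted by the involution commutes with its two conjugates. -/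
theorem inverted_none : ∀ B ∈ ordT, ∀ A ∈ gT, mM A (mM A A) = mI → mM (mM mT0 A) mT0 = mM A A →
    mM A (mM (mM mW0 A) mW0) = mM (mM (mM mW0 A) mW0) A →
    mM A (mM (mM (mh B) A) (mM mT0 (mh B))) = mM (mM (mM (mh B) A) (mM mT0 (mh B))) A → A = mI := by
  decide +kernel

theorem syT_fix : ∀ X ∈ syT, ap X 7 = 7 → X = mI := by decide +kernel

theorem mid_facts : midL.Nodup ∧ midL.length = 9 ∧
    (∀ v ∈ midL, v < 81 ∧ qB 4 v = 0 ∧ ap mT0 v = vS 2 v ∧ (v ≠ 0 → ∀ k : Fin 3, v ≠ vS k 4)) := by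
  decide +kernel

/-- A code with value `c` on the first line. -/
theorem first_codes : ∀ c : Fin 3, vS c 3 = vA (vS (2 * (c : ℕ)) 4) (vS c 7) ∧ qB (lC 0) (vS c 3) = c ∧
    lC 0 = 4 := by
  decide +kernel

end Cfsg.Agent.Spor.McLThree
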