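import Cfsg.Agent.Lib.Spor.McLThree.TCoord

/-!
The permutations used to walk in the geometry of 112 points.
-/

set_option autoImplicit false
set_option maxRecDepth 100000
set_option synthInstance.maxSize 4096

namespace Cfsg.Agent.Spor.McLThree.P8

attribute [local instance 10000] List.decidableBAll List.decidableBEx

/-- The even permutation leaving the normalizer of the plane. -/
def wP : Pm := mkP [1, 0, 2, 3, 4, 6, 5, 7] [1, 0, 2, 3, 4, 6, 5, 7] (by decide +kernel) (by decide +kernel)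

/-- The inverter of both cycles. -/
def hP : Pm := mkP [1, 0, 2, 4, 3, 5, 6, 7] [1, 0, 2, 4, 3, 5, 6, 7] (by decide +kernel) (by decide +kernel)

/-- The permutation of the opposite point. -/
def pP : Pm := mkP [4, 3, 6, 1, 0, 7, 2, 5] [4, 3, 6, 1, 0, 7, 2, 5] (by decide +kernel) (by decide +kernel)

/-- A conjugator from the double transposition. -/
def cw : Pm := mkP [2, 3, 4, 0, 1, 7, 5, 6] [3, 4, 0, 1, 2, 6, 7, 5] (by decide +kernel) (by decide +kernel)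

/-- The translations moving along the line. -/
def aP (c : ℕ) : Pm := [1, c1 * c1 * c2, c1 * (c2 * c2)].getD c 1

/-- The powers of the first cycle. -/
def zP (c : ℕ) : Pm := [1, c1 * c1, c1].getD c 1

/-- The image of the elements of `M` in the centralizer. -/
def nm36 : List Pm := d9.flatMap fun d => [d, d * hP, d * wA, d * (wA * hP)]

/-- Normalising the plane. -/
def norm9 (σ : Pm) : Prop := σ * c1 * σ⁻¹ ∈ d9 ∧ σ * c2 * σ⁻¹ ∈ d9

instance (σ : Pm) : Decidable (norm9 σ) := inferInstanceAs (Decidable (_ ∧ _))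

theorem u_facts :
    Equiv.Perm.sign wP = 1 ∧ cw * nP * cw⁻¹ = wP ∧ Equiv.Perm.sign cw = 1 ∧ wA * nP * (wA * nP) = hP ∧
    wP * wA * wP = pP ∧ pP * pP = 1 ∧ wP * c1 * wP⁻¹ = c1 * c1 ∧ hP * c1 * hP⁻¹ = c1 * c1 ∧
    pP * hP = hP * pP ∧ pP * wA = wA * pP ∧ wP * hP = hP * wP ∧
    ¬ norm9 wP ∧ ¬ norm9 pP ∧ ¬ norm9 (wP * c2 * wP⁻¹) := by
  decide +kernel

theorem d9_split : ∀ d ∈ d9, ∃ i : Fin 3, ∃ j : Fin 3, c1 ^ (i : ℕ) * c2 ^ (j : ℕ) = d := by decide +kernel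

theorem pow_list : ∀ i : Fin 3, ∀ j : Fin 3,
    c1 ^ (2 * (i : ℕ)) * c2 ^ (i : ℕ) = aP i ∧ c1 ^ (2 * (i : ℕ)) = zP i ∧ c1 ^ (i : ℕ) * c2 ^ (j : ℕ) ∈ d9 := by
  decide +kernel

theorem conj_d9 : ∀ d ∈ d9, norm9 (pP * d * pP⁻¹) → d = 1 := by decide +kernel

theorem line_free : ∀ c : Fin 3, norm9 (wP⁻¹ * aP c * wP) → c = 0 := by decide +kernel

theorem walks : (∀ c : Fin 3, c ≠ 0 → (aP c * wP)⁻¹ * (wP * aP c * wP) ∈ nm36) ∧
    (∀ c : Fin 3, (zP c * pP)⁻¹ * (wP * wA * aP c * wP) ∈ nm36) ∧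
    (∀ c : Fin 3, c ≠ 0 → (zP c * pP)⁻¹ * (pP * aP c * wP) ∈ nm36) ∧ wP⁻¹ * (pP * wP) ∈ nm36 := by
  decide +kernel

end Cfsg.Agent.Spor.McLThree.P8
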