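import Cfsg.Agent.Lib.Spor.McLThree.TClass
import Cfsg.Agent.Lib.Spor.McLThree.UPerm
import Cfsg.Agent.Lib.Spor.McLThree.UModel

/-!
The stabilizer in `M` of the opposite point: it meets `J` trivially and induces all the matrices of the table.
-/

set_option autoImplicit false
set_option maxRecDepth 100000
set_option synthInstance.maxSize 4096
set_option linter.unusedSectionVars false

namespace Cfsg.Agent.Spor.McLThree

open Subgroup Cfsg.Agent.Spor.UFourType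

universe u

variable {G : Type u} [Group G] [Finite G] {H : Hyp G}

theorem sl5_no_three : ∀ x : SL5, x * x * x = 1 → x ≠ 1 →
    x * (Char.SL25Facts.T * x * Char.SL25Facts.T⁻¹) * (x * (Char.SL25Facts.T * x * Char.SL25Facts.T⁻¹)) *
      (x * (Char.SL25Facts.T * x * Char.SL25Facts.T⁻¹)) ≠ 1 ∨
    x * (Char.SL25Facts.a * x * Char.SL25Facts.a⁻¹) * (x * (Char.SL25Facts.a * x * Char.SL25Facts.a⁻¹)) *
      (x * (Char.SL25Facts.a * x * Char.SL25Facts.a⁻¹)) ≠ 1 := by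
  decide +kernel

theorem Hyp.norm_Q_of_line (H : Hyp G) {g q : G} (hg : g * H.z * g⁻¹ ∈ zpowers H.z) (hq : q ∈ H.Q) :
    g * q * g⁻¹ ∈ H.Q := by
  have hgi : g⁻¹ * H.z * g ∈ zpowers H.z := by
    have hzg : H.z ∈ zpowers (g * H.z * g⁻¹) := by
      rw [eq_of_le_of_card_ge (zpowers_le.2 hg) (by
        rw [Nat.card_zpowers, Nat.card_zpowers, ← MulAut.conj_apply, (MulAut.conj g).orderOf_eq])]
      exact mem_zpowers _
    obtain ⟨i, hi⟩ := hzg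
    refine ⟨i, ?_⟩
    calc H.z ^ i = g⁻¹ * (g * H.z * g⁻¹) ^ i * g := by rw [conj_zpow]; group
      _ = _ := by rw [show (g * H.z * g⁻¹) ^ i = H.z from hi]
  set N : Subgroup G := H.Q.map (MulAut.conj g).toMonoidHom
  have hNL : N ≤ H.L := by
    rintro _ ⟨b, hb, rfl⟩
    exact H.conj_L_norm hg (H.Q_le_L hb)
  have hN3 : ∀ n ∈ N, n ^ 3 = 1 := by
    rintro _ ⟨b, hb, rfl⟩
    rw [← map_pow, H.Q_cube b hb, map_one]
  have hNn : ∀ l ∈ H.L, ∀ n ∈ N, l * n * l⁻¹ ∈ N := by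
    rintro l hl _ ⟨b, hb, rfl⟩
    refine ⟨g⁻¹ * l * g * b * (g⁻¹ * l * g)⁻¹, H.norm_Q _ ?_ b hb, ?_⟩
    · obtain ⟨i, hi⟩ := hg
      have hlz : Commute l (g * H.z * g⁻¹) := by
        rw [show g * H.z * g⁻¹ = H.z ^ i from hi.symm]
        exact (show Commute l H.z from H.L_cz hl).zpow_right i
      have := (Commute.conj_iff g⁻¹).2 hlz
      rw [inv_inv, show g⁻¹ * (g * H.z * g⁻¹) * g = H.z by group] at this
      exact this.eq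
    · show g * (g⁻¹ * l * g * b * (g⁻¹ * l * g)⁻¹) * g⁻¹ = l * (g * b * g⁻¹) * l⁻¹
      group
  have hgq : g * q * g⁻¹ ∈ N := ⟨q, hq, rfl⟩
  refine (H.ψ_ker ⟨_, hNL hgq⟩).1 (by_contra fun hne => ?_)
  set x := H.ψ ⟨_, hNL hgq⟩ with hx
  have hcube : ∀ n (hn : n ∈ N), H.ψ ⟨n, hNL hn⟩ * H.ψ ⟨n, hNL hn⟩ * H.ψ ⟨n, hNL hn⟩ = 1 := fun n hn => by
    rw [← map_mul, ← map_mul, ← map_one H.ψ]
    refine congrArg H.ψ (Subtype.ext ?_)
    show n * n * n = 1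
    rw [← hN3 n hn, pow_succ, sq]
  have key : ∀ y : SL5, x * (y * x * y⁻¹) * (x * (y * x * y⁻¹)) * (x * (y * x * y⁻¹)) = 1 := by
    intro y
    obtain ⟨l, hl, rfl⟩ := H.psi_lift y
    have h := hcube _ (mul_mem hgq (hNn l hl _ hgq))
    rwa [H.psi_mul (hNL hgq) (hNL (hNn l hl _ hgq)), H.psi_conj hl (hNL hgq)] at h
  rcases sl5_no_three x (hcube _ hgq) hne with h | h
  exacts [h (key _), h (key _)]

namespace Sec

variable (C : Sec H)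

/-- Two elements with the same matrix differ by an element of `J`. -/
theorem same_act {g g' : G} {A : ℕ} (h : ActB C.ev g A) (h' : ActB C.ev g' A) : g⁻¹ * g' ∈ H.J :=
  C.act_mI_mem ⟨(C.nact_J (one_mem H.J)).1, fun v hv => by
    rw [← (C.nact_J (one_mem H.J)).2 v hv, show g⁻¹ * g' * C.ev v * (g⁻¹ * g')⁻¹ = g⁻¹ * (g' * C.ev v * g'⁻¹) * g by
      group, h'.2 v hv, ← h.2 v hv]
    group⟩

theorem mem_M_of_act {g : G} {A : ℕ} (h : ActB C.ev g A) (hA : A ∈ gT) : g ∈ H.M := by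
  obtain ⟨σ, rfl⟩ := C.mat_surj hA
  rw [show g = C.rep σ * ((C.rep σ)⁻¹ * g) by group]
  exact mul_mem (C.rep_mem σ) (H.J_le_M (C.same_act (C.nact_rep σ) h))

theorem ev_mid {v : ℕ} (hv : v ∈ midL) : C.ev v ∈ H.Q := by
  obtain ⟨i, j, rfl⟩ := mid_span v hv
  rw [C.ev_add, C.ev_smul, C.ev_smul, C.ev_basis.2.2.1, C.ev_basis.2.2.2]
  exact mul_mem (pow_mem C.e1_JQ.2 _) (pow_mem C.e2_JQ.2 _)
where
  mid_span : ∀ v ∈ midL, ∃ i : Fin 3, ∃ j : Fin 3, vA (vS (i : ℕ) 18) (vS (j : ℕ) 54) = v := by decide +kernel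

end Sec

namespace Co

variable {C : Sec H} {T : Tt C} {S : Swap T} (O : Co S)

/-- The inverter. -/
def h : G := S.x * O.n * (S.x * O.n)

theorem h_K : O.h ∈ T.K := T.K.mul_mem (T.K.mul_mem S.x_K O.n_K) (T.K.mul_mem S.x_K O.n_K)

theorem h_act : ActB C.ev O.h (mh T.B) :=
  C.nact_mul (C.nact_mul S.x_act O.n_act) (C.nact_mul S.x_act O.n_act)

theorem h_M : O.h ∈ H.M := C.mem_M_of_act O.h_act (mh_spec T.B T.B_mem).1

theorem x_M (_O : Co S) : S.x ∈ H.M := C.mem_M_of_act S.x_act (mh_spec T.B T.B_mem).2.2.2.2.1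

theorem t_M (_O : Co S) : T.t ∈ H.M := C.mem_M_of_act T.t_act (mh_spec T.B T.B_mem).2.2.2.1

theorem ph : O.π ⟨O.h, O.h_K⟩ = P8.hP := by
  rw [show (⟨O.h, O.h_K⟩ : T.K) = ⟨S.x, S.x_K⟩ * ⟨O.n, O.n_K⟩ * (⟨S.x, S.x_K⟩ * ⟨O.n, O.n_K⟩) from rfl, map_mul,
    map_mul, O.px_A, O.pn]
  exact P8.u_facts.2.2.2.1

/-- Elements of order three with the same image are equal. -/
theorem three_eq {a b : G} (ha : a ∈ T.K) (hb : b ∈ T.K) (ha3 : a ^ 3 = 1) (hb3 : b ^ 3 = 1)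
    (h : O.π ⟨a, ha⟩ = O.π ⟨b, hb⟩) : a = b :=
  T.odd_inj ha hb ha3 hb3 ((T.px_eq ha hb).2 (O.fibre h))

theorem lift_d9 {d : P8.Pm} (hd : d ∈ P8.d9) :
    ∃ i j : ℕ, O.π ⟨H.z ^ i * C.f ^ j, T.K.mul_mem (T.K.pow_mem T.z_K i) (T.K.pow_mem T.f_K j)⟩ = d := by
  obtain ⟨i, j, rfl⟩ := P8.d9_split d hd
  refine ⟨i, j, ?_⟩
  rw [show (⟨H.z ^ (i : ℕ) * C.f ^ (j : ℕ), T.K.mul_mem (T.K.pow_mem T.z_K i) (T.K.pow_mem T.f_K j)⟩ : T.K) =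
    ⟨H.z, T.z_K⟩ ^ (i : ℕ) * ⟨C.f, T.f_K⟩ ^ (j : ℕ) from rfl, map_mul, map_pow, map_pow, O.pz, O.pf]

theorem π_P {a : G} (ha : a ∈ T.P) : O.π ⟨a, ha.2⟩ ∈ P8.d9 := by
  obtain ⟨i, hi, j, hj, rfl⟩ := T.P_code ha
  rw [show (⟨H.z ^ i * C.f ^ j, ha.2⟩ : T.K) = ⟨H.z, T.z_K⟩ ^ i * ⟨C.f, T.f_K⟩ ^ j from rfl, map_mul, map_pow,
    map_pow, O.pz, O.pf]
  exact (P8.pow_list ⟨i, hi⟩ ⟨j, hj⟩).2.2

/-- Elements normalising `J` normalise the plane. -/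
theorem norm9_of {g : G} (hg : g ∈ T.K) (hN : g ∈ normalizer (H.J : Set G)) : P8.norm9 (O.π ⟨g, hg⟩) := by
  have key : ∀ a (ha : a ∈ T.P), O.π ⟨g, hg⟩ * O.π ⟨a, ha.2⟩ * (O.π ⟨g, hg⟩)⁻¹ ∈ P8.d9 := fun a ha => by
    have hm : g * a * g⁻¹ ∈ T.P := ((mem_normalizer_iff.1 (T.NJ_NP hg hN).2) a).1 ha
    have h := O.π_P hm
    rwa [← map_inv, ← map_mul, ← map_mul]
  have h1 := key _ T.z_P
  have h2 := key _ T.f_P
  rw [O.pz] at h1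
  rw [O.pf] at h2
  exact ⟨h1, h2⟩

/-- An element whose image is that of an element of `M` is in `M`. -/
theorem mem_M {g : G} (hg : g ∈ T.K) (h : O.π ⟨g, hg⟩ ∈ P8.nm36) : g ∈ H.M := by
  have fin : ∀ e (he : e ∈ T.K), e ∈ H.M → O.π ⟨e, he⟩ = O.π ⟨g, hg⟩ → g ∈ H.M := fun e he heM hπ => by
    rcases O.fibre hπ with h | h <;> rw [show g = _ from h]
    exacts [heM, mul_mem heM O.t_M]
  simp only [P8.nm36, List.mem_flatMap, List.mem_cons, List.not_mem_nil, or_false] at h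
  obtain ⟨d, hd, hd'⟩ := h
  obtain ⟨i, j, hij⟩ := O.lift_d9 hd
  have hP : H.z ^ i * C.f ^ j ∈ H.M := H.J_le_M (mul_mem (pow_mem H.z_J i) (pow_mem C.f_J j))
  have hK := T.K.mul_mem (T.K.pow_mem T.z_K i) (T.K.pow_mem T.f_K j)
  rcases hd' with h | h | h | h
  · exact fin _ hK hP (hij.trans h.symm)
  · refine fin _ (T.K.mul_mem hK O.h_K) (mul_mem hP O.h_M) ?_
    rw [h, ← hij, ← O.ph, ← map_mul]
    rfl
  · refine fin _ (T.K.mul_mem hK S.x_K) (mul_mem hP O.x_M) ?_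
    rw [h, ← hij, ← O.px_A, ← map_mul]
    rfl
  · refine fin _ (T.K.mul_mem hK (T.K.mul_mem S.x_K O.h_K)) (mul_mem hP (mul_mem O.x_M O.h_M)) ?_
    rw [h, ← hij, ← O.ph, ← O.px_A, ← map_mul, ← map_mul]
    rfl

end Co

/-- An element of the centralizer moving the base point. -/
structure Wl {C : Sec H} {T : Tt C} {S : Swap T} (O : Co S) where
  w : G
  w_K : w ∈ T.K
  pw : O.π ⟨w, w_K⟩ = P8.wP

theorem Co.exists_wl {C : Sec H} {T : Tt C} {S : Swap T} (O : Co S) : Nonempty (Wl O) := by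
  obtain ⟨w, hw, h⟩ := O.lift P8.u_facts.1
  exact ⟨⟨w, hw, h⟩⟩

namespace Wl

variable {C : Sec H} {T : Tt C} {S : Swap T} {O : Co S} (W : Wl O)

theorem w_sq : W.w * W.w = T.t :=
  O.dt_sq (g := ⟨W.w, W.w_K⟩) P8.u_facts.2.2.1 (W.pw.trans P8.u_facts.2.1.symm)

theorem w_inv : W.w⁻¹ = W.w * T.t := by
  refine inv_eq_of_mul_eq_one_right ?_
  rw [← mul_assoc, W.w_sq, T.t_sq]

theorem w_z : W.w * H.z * W.w⁻¹ = H.z ^ 2 := by
  have h2 : H.z ^ 2 ∈ T.K := T.K.pow_mem T.z_K 2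
  refine O.three_eq (T.K.mul_mem (T.K.mul_mem W.w_K T.z_K) (T.K.inv_mem W.w_K)) h2
    (by rw [conj_pow, H.z_cube, mul_one, mul_inv_cancel])
    (by rw [← pow_mul, pow_mul', H.z_cube, one_pow]) ?_
  rw [show (⟨H.z ^ 2, h2⟩ : T.K) = ⟨H.z, T.z_K⟩ ^ 2 from rfl, map_pow, O.pz,
    show (⟨W.w * H.z * W.w⁻¹, T.K.mul_mem (T.K.mul_mem W.w_K T.z_K) (T.K.inv_mem W.w_K)⟩ : T.K) =
      ⟨W.w, W.w_K⟩ * ⟨H.z, T.z_K⟩ * ⟨W.w, W.w_K⟩⁻¹ from rfl, map_mul, map_mul, map_inv, W.pw, O.pz, sq]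
  exact P8.u_facts.2.2.2.2.2.2.1

include W in
theorem Q_conj {g q : G} (hgz : g * H.z * g⁻¹ ∈ zpowers H.z) (hq : q ∈ H.Q) : g * q * g⁻¹ ∈ H.Q :=
  H.norm_Q_of_line hgz hq

theorem w_Q {q : G} (hq : q ∈ H.Q) : W.w * q * W.w⁻¹ ∈ H.Q :=
  W.Q_conj (W.w_z ▸ pow_mem (mem_zpowers _) 2) hq

theorem wi_Q {q : G} (hq : q ∈ H.Q) : W.w⁻¹ * q * W.w ∈ H.Q := by
  have h := W.Q_conj (g := W.w⁻¹) (q := q) ?_ hq
  · rwa [inv_inv] at h
  · rw [inv_inv, show W.w⁻¹ * H.z * W.w = (W.w⁻¹ * H.z ^ 2 * W.w) ^ 2 by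
      rw [show W.w⁻¹ * H.z ^ 2 * W.w = W.w⁻¹ * H.z ^ 2 * W.w⁻¹⁻¹ by rw [inv_inv], conj_pow, ← pow_mul,
        pow_eq_pow_mod (2 * 2) H.z_cube, show 2 * 2 % 3 = 1 from rfl, pow_one, inv_inv]]
    rw [show W.w⁻¹ * H.z ^ 2 * W.w = H.z by rw [← W.w_z]; group]
    exact pow_mem (mem_zpowers _) 2

/-- The element of the opposite point. -/
def p : G := W.w * S.x * W.w

theorem p_K : W.p ∈ T.K := T.K.mul_mem (T.K.mul_mem W.w_K S.x_K) W.w_K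

theorem pp : O.π ⟨W.p, W.p_K⟩ = P8.pP := by
  rw [show (⟨W.p, W.p_K⟩ : T.K) = ⟨W.w, W.w_K⟩ * ⟨S.x, S.x_K⟩ * ⟨W.w, W.w_K⟩ from rfl, map_mul, map_mul, W.pw,
    O.px_A]
  exact P8.u_facts.2.2.2.2.1

theorem p_sq : W.p * W.p ∈ H.M := by
  refine O.mem_M (T.K.mul_mem W.p_K W.p_K) ?_
  rw [show (⟨W.p * W.p, T.K.mul_mem W.p_K W.p_K⟩ : T.K) = ⟨W.p, W.p_K⟩ * ⟨W.p, W.p_K⟩ from rfl, map_mul, W.pp,
    P8.u_facts.2.2.2.2.2.1]
  exact List.mem_flatMap.2 ⟨1, List.mem_cons_self, List.mem_cons_self⟩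

/-- The stabilizer in `M` of the opposite point. -/
def Kst : Subgroup G := H.M ⊓ H.M.comap (MulAut.conj W.p⁻¹).toMonoidHom

theorem mem_Kst {g : G} : g ∈ W.Kst ↔ g ∈ H.M ∧ W.p⁻¹ * g * W.p ∈ H.M := by
  rw [Kst, Subgroup.mem_inf, Subgroup.mem_comap, MulEquiv.coe_toMonoidHom, MulAut.conj_apply, inv_inv]

theorem Kst_p {g : G} (hg : g ∈ W.Kst) : W.p⁻¹ * g * W.p ∈ W.Kst := by
  obtain ⟨h1, h2⟩ := W.mem_Kst.1 hg
  refine W.mem_Kst.2 ⟨h2, ?_⟩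
  rw [show W.p⁻¹ * (W.p⁻¹ * g * W.p) * W.p = (W.p * W.p)⁻¹ * g * (W.p * W.p) by group]
  exact mul_mem (mul_mem (inv_mem W.p_sq) h1) W.p_sq

/-- Elements of `C(t)` in `M` commuting with the opposite element modulo the centre. -/
theorem cent_Kst {d : G} (hd : d ∈ T.K) (hdM : d ∈ H.M) (hc : P8.pP * O.π ⟨d, hd⟩ = O.π ⟨d, hd⟩ * P8.pP) :
    d ∈ W.Kst ∧ (W.p⁻¹ * d * W.p = d ∨ W.p⁻¹ * d * W.p = d * T.t) := by
  have hK : W.p⁻¹ * d * W.p ∈ T.K := T.K.mul_mem (T.K.mul_mem (T.K.inv_mem W.p_K) hd) W.p_K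
  have h := O.fibre (g := ⟨d, hd⟩) (g' := ⟨_, hK⟩) (by
    rw [show (⟨_, hK⟩ : T.K) = ⟨W.p, W.p_K⟩⁻¹ * ⟨d, hd⟩ * ⟨W.p, W.p_K⟩ from rfl, map_mul, map_mul, map_inv, W.pp,
      mul_assoc, ← hc, inv_mul_cancel_left])
  refine ⟨W.mem_Kst.2 ⟨hdM, ?_⟩, h⟩
  rcases h with h | h <;> rw [show W.p⁻¹ * d * W.p = _ from h]
  exacts [hdM, mul_mem hdM O.t_M]

theorem x_Kst : S.x ∈ W.Kst ∧ (W.p⁻¹ * S.x * W.p = S.x ∨ W.p⁻¹ * S.x * W.p = S.x * T.t) :=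
  W.cent_Kst S.x_K O.x_M (by rw [O.px_A]; exact P8.u_facts.2.2.2.2.2.2.2.2.2.1)

theorem h_Kst : O.h ∈ W.Kst ∧ (W.p⁻¹ * O.h * W.p = O.h ∨ W.p⁻¹ * O.h * W.p = O.h * T.t) :=
  W.cent_Kst O.h_K O.h_M (by rw [O.ph]; exact P8.u_facts.2.2.2.2.2.2.2.2.1)

theorem t_Kst : T.t ∈ W.Kst := by
  refine (W.cent_Kst T.t_K O.t_M ?_).1
  rw [O.π_t, mul_one, one_mul]

theorem h_w : W.w⁻¹ * O.h * W.w = O.h ∨ W.w⁻¹ * O.h * W.w = O.h * T.t := by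
  refine O.fibre (g := ⟨O.h, O.h_K⟩) (g' := ⟨_, T.K.mul_mem (T.K.mul_mem (T.K.inv_mem W.w_K) O.h_K) W.w_K⟩) ?_
  rw [show (⟨_, T.K.mul_mem (T.K.mul_mem (T.K.inv_mem W.w_K) O.h_K) W.w_K⟩ : T.K) =
    ⟨W.w, W.w_K⟩⁻¹ * ⟨O.h, O.h_K⟩ * ⟨W.w, W.w_K⟩ from rfl, map_mul, map_mul, map_inv, W.pw, O.ph, mul_assoc,
    ← P8.u_facts.2.2.2.2.2.2.2.2.2.2.1, inv_mul_cancel_left]

/-- The translates of the middle plane. -/
theorem y_Kst {v : ℕ} (hv : v ∈ midL) :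
    W.w * C.ev v * W.w⁻¹ ∈ H.Q ∧ W.w * C.ev v * W.w⁻¹ ∈ W.Kst := by
  have hQ := W.w_Q (C.ev_mid hv)
  refine ⟨hQ, W.mem_Kst.2 ⟨H.S_le_M (H.Q_le_S hQ), ?_⟩⟩
  obtain ⟨hv81, -, hvT, -⟩ := mid_facts.2.2 v hv
  rw [show W.p⁻¹ * (W.w * C.ev v * W.w⁻¹) * W.p = W.w⁻¹ * (S.x⁻¹ * C.ev v * S.x) * W.w by unfold p; group]
  refine H.S_le_M (H.Q_le_S (W.wi_Q ?_))
  rw [show S.x⁻¹ = S.x from inv_eq_of_mul_eq_one_right S.x_sq]
  nth_rw 2 [← inv_eq_of_mul_eq_one_right S.x_sq]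
  rw [S.x_act.2 v hv81]
  refine C.ev_mid (mid_codes _ (ap_lt _ _) (C.ev_inj (ap_lt _ _) (vS_lt _ _) ?_))
  rw [C.ev_smul, ← T.t_act.2 _ (ap_lt _ _), ← S.x_act.2 v hv81,
    show (S.x * C.ev v * S.x⁻¹) ^ 2 = S.x * C.ev v ^ 2 * S.x⁻¹ from conj_pow, ← C.ev_smul, ← hvT,
    ← T.t_act.2 v hv81]
  calc T.t * (S.x * C.ev v * S.x⁻¹) * T.t⁻¹ = (T.t * S.x) * C.ev v * (T.t * S.x)⁻¹ := by group
    _ = (S.x * T.t) * C.ev v * (S.x * T.t)⁻¹ := by rw [T.mem_K.1 S.x_K]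
    _ = _ := by group

/-- The elements of the plane normalising nothing. -/
theorem P_Kst {a : G} (ha : a ∈ T.P) (hK : W.p⁻¹ * a * W.p ∈ H.M) : a = 1 := by
  have hK' : W.p⁻¹ * a * W.p ∈ T.K := T.K.mul_mem (T.K.mul_mem (T.K.inv_mem W.p_K) ha.2) W.p_K
  have h := O.norm9_of hK' (H.M_norm hK)
  rw [show (⟨_, hK'⟩ : T.K) = ⟨W.p, W.p_K⟩⁻¹ * ⟨a, ha.2⟩ * ⟨W.p, W.p_K⟩ from rfl, map_mul, map_mul, map_inv, W.pp,
    inv_eq_of_mul_eq_one_right P8.u_facts.2.2.2.2.2.1] at h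
  nth_rw 2 [← inv_eq_of_mul_eq_one_right P8.u_facts.2.2.2.2.2.1] at h
  refine O.three_eq ha.2 T.K.one_mem (H.J_cube _ ha.1) (one_pow 3) ?_
  rw [P8.conj_d9 _ (O.π_P ha) h]
  exact (map_one O.π).symm

/-- The middle plane does not reach `J` under the walking element. -/
theorem mid_out {v : ℕ} (hv : v ∈ midL) (h0 : v ≠ 0) : W.w⁻¹ * C.ev v * W.w ∉ H.J := by
  intro hq
  obtain ⟨hv81, -, -, hz⟩ := mid_facts.2.2 v hv
  set g := W.w * C.f * W.w⁻¹ with hg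
  have hgK : g ∈ T.K := T.K.mul_mem (T.K.mul_mem W.w_K T.f_K) (T.K.inv_mem W.w_K)
  have hfz : Commute C.f H.z := H.J_comm _ C.f_J _ H.z_J
  have hgz : g * H.z = H.z * g := by
    have e : H.z = W.w * H.z ^ 2 * W.w⁻¹ := by
      rw [← conj_pow, W.w_z, ← pow_mul, pow_eq_pow_mod (2 * 2) H.z_cube, show 2 * 2 % 3 = 1 from rfl, pow_one]
    rw [e, hg, ← MulAut.conj_apply, ← MulAut.conj_apply, ← map_mul, ← map_mul, (hfz.pow_right 2).eq]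
  have hgv : g * C.ev v = C.ev v * g := by
    have e : C.ev v = W.w * (W.w⁻¹ * C.ev v * W.w) * W.w⁻¹ := by group
    rw [e, hg, ← MulAut.conj_apply, ← MulAut.conj_apply, ← map_mul, ← map_mul, H.J_comm _ C.f_J _ hq]
  have hN := C.cz_x_norm hgz (x := C.ev v) ⟨C.ev_J v, C.ev_mid hv⟩ (fun hzp => by
      obtain ⟨k, hk, hk'⟩ := C.ev_Z hzp
      exact hz h0 ⟨k, hk⟩ (C.ev_inj hv81 (vS_lt _ _) hk'))
    (by rw [hgv, mul_inv_cancel_right]; exact mem_zpowers _)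
  have h := O.norm9_of hgK hN
  rw [show (⟨g, hgK⟩ : T.K) = ⟨W.w, W.w_K⟩ * ⟨C.f, T.f_K⟩ * ⟨W.w, W.w_K⟩⁻¹ from rfl, map_mul, map_mul, map_inv,
    W.pw, O.pf] at h
  exact P8.u_facts.2.2.2.2.2.2.2.2.2.2.2.2.2 h

/-- The stabilizer meets `J` trivially. -/
theorem K_E {a : G} (haJ : a ∈ H.J) (ha : a ∈ W.Kst) : a = 1 := by
  have htt : T.t⁻¹ = T.t := inv_eq_of_mul_eq_one_right T.t_sq
  have hxx : S.x⁻¹ = S.x := inv_eq_of_mul_eq_one_right S.x_sq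
  set a' := T.t * a * T.t⁻¹ with ha'
  have ha'J : a' ∈ H.J := ((mem_normalizer_iff.1 T.t_N) a).1 haJ
  have ha'K : a' ∈ W.Kst := mul_mem (mul_mem W.t_Kst ha) (inv_mem W.t_Kst)
  have hc : a * a' = 1 := by
    refine W.P_Kst ⟨mul_mem haJ ha'J, T.mem_K.2 ?_⟩ (W.mem_Kst.1 (mul_mem ha ha'K)).2
    calc a * a' * T.t = a * (T.t * a) := by rw [ha']; group
      _ = T.t * (a' * a) := by
        rw [ha', show T.t * (T.t * a * T.t⁻¹ * a) = T.t * T.t * a * T.t⁻¹ * a by group, T.t_sq, htt]; group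
      _ = _ := by rw [H.J_comm _ ha'J _ haJ]
  obtain ⟨v, hv, rfl⟩ := C.ev_surj haJ
  have hinv : T.t * C.ev v * T.t⁻¹ = (C.ev v)⁻¹ := (eq_inv_of_mul_eq_one_right hc)
  have hmid : v ∈ midL := mid_codes v hv (C.ev_inj (ap_lt _ _) (vS_lt _ _) (by
    rw [← T.t_act.2 v hv, hinv, C.ev_smul, sq, three_sq (H.J_cube _ haJ)]))
  by_contra hne
  have hv0 : v ≠ 0 := fun h => hne (by
    subst h
    have := C.ev_add 0 0
    rw [show vA 0 0 = 0 from rfl] at this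
    exact mul_eq_left.1 this.symm)
  set e := W.p⁻¹ * C.ev v * W.p with he
  have heM : e ∈ H.M := (W.mem_Kst.1 ha).2
  set A := C.mat (C.θ ⟨e, heM⟩)
  have hA : ActB C.ev e A := C.nact_M heM
  have he3 : e * (e * e) = 1 := by
    have h := H.J_cube _ haJ
    rw [pow_succ', sq] at h
    rw [he, show W.p⁻¹ * C.ev v * W.p * (W.p⁻¹ * C.ev v * W.p * (W.p⁻¹ * C.ev v * W.p)) =
      W.p⁻¹ * (C.ev v * (C.ev v * C.ev v)) * W.p by group, h]; group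
  have hpt : Commute W.p T.t := T.mem_K.1 W.p_K
  have hte : T.t * e * T.t = e * e := by
    rw [eq_inv_of_mul_eq_one_right he3, he]
    calc T.t * (W.p⁻¹ * C.ev v * W.p) * T.t = T.t * W.p⁻¹ * C.ev v * (W.p * T.t⁻¹) := by rw [htt]; group
      _ = W.p⁻¹ * (T.t * C.ev v * T.t⁻¹) * W.p := by rw [← hpt.inv_left.eq, hpt.inv_right.eq]; group
      _ = _ := by rw [hinv]; group
  have hA3 : mM A (mM A A) = mI :=
    C.nact_unique (he3 ▸ C.nact_mul hA (C.nact_mul hA hA)) (C.nact_J (one_mem _))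
  have hAT : mM (mM mT0 A) mT0 = mM A A :=
    C.nact_unique (hte ▸ C.nact_mul (C.nact_mul T.t_act hA) T.t_act) (C.nact_mul hA hA)
  -- the conjugates commute
  have hcomm : ∀ {y : G}, y ∈ normalizer (H.J : Set G) → y ∈ T.K →
      (W.p⁻¹ * y * W.p = y ∨ W.p⁻¹ * y * W.p = y * T.t) → Commute e (y * e * y⁻¹) := by
    intro y hy hyK hc
    obtain ⟨y', hy', hy'e⟩ : ∃ y' ∈ normalizer (H.J : Set G), W.p⁻¹ * y' * W.p = y := by
      rcases hc with h | h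
      · exact ⟨y, hy, h⟩
      · refine ⟨y * T.t, mul_mem hy T.t_N, ?_⟩
        calc W.p⁻¹ * (y * T.t) * W.p = W.p⁻¹ * y * W.p * (W.p⁻¹ * T.t * W.p) := by group
          _ = y := by rw [h, hpt.inv_left.eq, inv_mul_cancel_right, mul_assoc, T.t_sq, mul_one]
    have h1 : y * e * y⁻¹ = W.p⁻¹ * (y' * C.ev v * y'⁻¹) * W.p := by rw [he, ← hy'e]; group
    have hJ := H.J_comm _ haJ _ (((mem_normalizer_iff.1 hy') _).1 haJ)
    show e * (y * e * y⁻¹) = y * e * y⁻¹ * e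
    rw [h1, he, show W.p⁻¹ * C.ev v * W.p * (W.p⁻¹ * (y' * C.ev v * y'⁻¹) * W.p) =
      W.p⁻¹ * (C.ev v * (y' * C.ev v * y'⁻¹)) * W.p by group, hJ]
    group
  have hyx := hcomm (H.M_norm O.x_M) S.x_K W.x_Kst.2
  have hyh := hcomm (H.M_norm O.h_M) O.h_K W.h_Kst.2
  have hxA : ActB C.ev (S.x * e * S.x⁻¹) (mM (mM mW0 A) mW0) := by
    rw [hxx]; exact C.nact_mul (C.nact_mul S.x_act hA) S.x_act
  have hhiA : ActB C.ev O.h⁻¹ (mM mT0 (mh T.B)) := by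
    obtain ⟨-, hh2, -, -⟩ := mh_spec T.B T.B_mem
    obtain ⟨D, hD⟩ := C.exists_act (inv_mem (H.M_norm O.h_M))
    have h1 := C.nact_mul T.t_act O.h_act
    have h2 : ActB C.ev (T.t * (O.h * O.h)) mI := by
      have := C.nact_mul T.t_act (C.nact_mul O.h_act O.h_act)
      rwa [hh2, iso_fC.2.2.2.2.2.1] at this
    have h3 := C.nact_mul (C.nact_J (C.act_mI_mem h2)) hD
    rw [show T.t * (O.h * O.h) * O.h⁻¹ = T.t * O.h by group] at h3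
    rw [C.nact_unique h1 h3]
    refine ⟨mM_lt _ _, fun u hu => ?_⟩
    have h4 := h3.2 u hu
    rw [← h4, show T.t * O.h = T.t * (O.h * O.h) * O.h⁻¹ by group]
    set j := T.t * (O.h * O.h)
    have hj : j ∈ H.J := C.act_mI_mem h2
    rw [show j * O.h⁻¹ * C.ev u * (j * O.h⁻¹)⁻¹ = j * (O.h⁻¹ * C.ev u * O.h⁻¹⁻¹) * j⁻¹ by group,
      H.J_comm _ hj _ (((mem_normalizer_iff.1 (inv_mem (H.M_norm O.h_M))) _).1 (C.ev_J u)), mul_inv_cancel_right]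
  have hhA := C.nact_mul (C.nact_mul O.h_act hA) hhiA
  have hA1 : A = mI := inverted_none T.B T.B_mem A (C.mat_mem _) hA3 hAT
    (C.nact_unique (hyx.eq ▸ C.nact_mul hA hxA) (C.nact_mul hxA hA))
    (C.nact_unique (hyh.eq ▸ C.nact_mul hA hhA) (C.nact_mul hhA hA))
  -- so the conjugate is in the middle plane
  have heJ : e ∈ H.J := C.act_mI_mem (hA1 ▸ hA)
  obtain ⟨u, hu, hue⟩ := C.ev_surj heJ
  have humid : u ∈ midL := mid_codes u hu (C.ev_inj (ap_lt _ _) (vS_lt _ _) (by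
    rw [← T.t_act.2 u hu, C.ev_smul, hue, htt, hte, sq]))
  set q := W.w⁻¹ * C.ev v * W.w with hq
  have hqQ : q ∈ H.Q := W.wi_Q (C.ev_mid hmid)
  have hq' : S.x * q * S.x ∈ H.Q := by
    have e1 : S.x * q * S.x = W.w * e * W.w⁻¹ := by
      nth_rw 1 [← hxx]
      rw [hq, he]; unfold p; group
    rw [e1, ← hue]
    exact W.w_Q (C.ev_mid humid)
  have hqf : q * C.f = C.f * q := by
    have h := (H.z_cen _ hq').symm
    have hxf : S.x * H.z * S.x = C.f := by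
      nth_rw 2 [← hxx]
      rw [← C.ev_basis.1, S.x_act.2 4 (by norm_num), w_code.1, C.ev_basis.2.1]
    rw [← hxf]
    calc q * (S.x * H.z * S.x) = S.x * S.x * q * (S.x * H.z * S.x) := by rw [S.x_sq, one_mul]
      _ = S.x * ((S.x * q * S.x) * H.z) * S.x := by group
      _ = S.x * (H.z * (S.x * q * S.x)) * S.x := by rw [h]
      _ = S.x * H.z * S.x * q * (S.x * S.x) := by group
      _ = _ := by rw [S.x_sq, mul_one]
  obtain ⟨X, hX, hqX⟩ := C.mat_of_S (H.Q_le_S hqQ)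
  have hX7 : ap X 7 = 7 := C.ev_inj (ap_lt _ _) (by norm_num) (by
    rw [← hqX.2 7 (by norm_num), C.ev_basis.2.1, hqf, mul_inv_cancel_right])
  rw [syT_fix X hX hX7] at hqX
  exact W.mid_out hmid hv0 (C.act_mI_mem hqX)

theorem K_inj {g g' : G} (hg : g ∈ W.Kst) (hg' : g' ∈ W.Kst) {A : ℕ} (h : ActB C.ev g A) (h' : ActB C.ev g' A) :
    g = g' :=
  eq_of_inv_mul_eq_one (W.K_E (C.same_act h h') (mul_mem (inv_mem hg) hg'))

include W in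
/-- The unipotent matrices are induced by the translated middle plane. -/
theorem mid_onto {X : ℕ} (hX : X ∈ syT) : ∃ v ∈ midL, ActB C.ev (W.w * C.ev v * W.w⁻¹) X := by
  classical
  have hy : ∀ v : {v // v ∈ midL}, ∃ X ∈ syT, ActB C.ev (W.w * C.ev v * W.w⁻¹) X := fun v =>
    C.mat_of_S (H.Q_le_S (W.y_Kst v.2).1)
  choose F hF hFA using hy
  have hinj : Function.Injective F := by
    intro v v' h
    have h1 := W.K_inj (W.y_Kst v.2).2 (W.y_Kst v'.2).2 (hFA v) (h ▸ hFA v')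
    exact Subtype.ext (C.ev_inj (mid_facts.2.2 v v.2).1 (mid_facts.2.2 v' v'.2).1
      (mul_left_cancel (mul_right_cancel h1)))
  have hsub : Finset.univ.image F ⊆ syT.toFinset := fun b hb => by
    obtain ⟨i, -, rfl⟩ := Finset.mem_image.1 hb
    exact List.mem_toFinset.2 (hF i)
  have heq := Finset.eq_of_subset_of_card_le hsub (by
    rw [Finset.card_image_of_injective _ hinj, Finset.card_univ,
      Fintype.card_congr (Equiv.subtypeEquivRight fun v => (List.mem_toFinset (l := midL)).symm), Fintype.card_coe,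
      List.toFinset_card_of_nodup mid_facts.1, mid_facts.2.1]
    exact (List.toFinset_card_le _).trans syT_spec.2.1.le)
  obtain ⟨i, -, rfl⟩ := Finset.mem_image.1 (heq ▸ List.mem_toFinset.2 hX : X ∈ Finset.univ.image F)
  exact ⟨i, i.2, hFA i⟩

include W in
/-- The unipotent matrices are induced in `Q`. -/
theorem K_onto_syT {X : ℕ} (hX : X ∈ syT) : ∃ y ∈ W.Kst, y ∈ H.Q ∧ ActB C.ev y X := by
  obtain ⟨v, hv, hA⟩ := W.mid_onto hX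
  exact ⟨_, (W.y_Kst hv).2, (W.y_Kst hv).1, hA⟩

include W in
/-- Every matrix is induced by the stabilizer. -/
theorem K_real {A : ℕ} (hA : A ∈ gT) : ∃ k ∈ W.Kst, ActB C.ev k A := by
  have hle : W.Kst ≤ H.M := inf_le_left
  set L := (W.Kst.subgroupOf H.M).map C.θ with hL
  have key : ∀ {g : G}, g ∈ W.Kst → ∀ {σ : A6}, ActB C.ev g (C.mat σ) → σ ∈ L := fun {g} hg {σ} hA =>
    ⟨⟨g, hle hg⟩, mem_subgroupOf.2 hg, C.mat_inj (C.nact_unique (C.nact_M (hle hg)) hA)⟩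
  have hact : ∀ {σ : A6} {X : ℕ}, C.Act σ X → C.mat σ = X := fun h => C.act_eq (C.mat_act _) h
  obtain ⟨ha, hb, -, hw⟩ := C.act_gens
  obtain ⟨ya, hya, -, hyaA⟩ := W.K_onto_syT syT_spec.2.2.2.1
  obtain ⟨yb, hyb, -, hybA⟩ := W.K_onto_syT syT_spec.2.2.2.2.1
  have htop : L = ⊤ := gen_top (key hya ((hact ha).symm ▸ hyaA)) (key hyb ((hact hb).symm ▸ hybA))
    (key W.x_Kst.1 ((hact hw).symm ▸ S.x_act))
  obtain ⟨σ, rfl⟩ := C.mat_surj hA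
  obtain ⟨⟨g, hgM⟩, hg, hgσ⟩ := (htop.symm ▸ mem_top σ : σ ∈ L)
  exact ⟨g, mem_subgroupOf.1 hg, hgσ ▸ C.nact_M hgM⟩

/-- Every element of `M` is a translation times a member of the stabilizer. -/
theorem M_split {m : G} (hm : m ∈ H.M) :
    (∃ v < 81, ∃ k ∈ W.Kst, m = C.ev v * k) ∧ ∃ v < 81, ∃ k ∈ W.Kst, m = k * C.ev v := by
  obtain ⟨k, hk, hkA⟩ := W.K_real (C.mat_mem (C.θ ⟨m, hm⟩))
  have hj := C.same_act hkA (C.nact_M hm)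
  obtain ⟨v, hv, hv'⟩ := C.ev_surj hj
  refine ⟨?_, v, hv, k, hk, by rw [hv', mul_inv_cancel_left]⟩
  obtain ⟨u, hu, hu'⟩ := C.ev_surj (((mem_normalizer_iff.1 (H.M_norm (inf_le_left (a := H.M) hk))) _).1 hj)
  exact ⟨u, hu, k, hk, by rw [hu']; group⟩

end Wl

end Cfsg.Agent.Spor.McLThree
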