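import Cfsg.Agent.Lib.Spor.McLThree.UPoints

/-!
The subgroup generated by `M` and the walking element is the unitary group of four dimensions over nine elements.
-/

set_option autoImplicit false
set_option maxRecDepth 100000
set_option synthInstance.maxSize 4096
set_option linter.unusedSectionVars false

namespace Cfsg.Agent.Spor.McLThree

open Subgroup Cfsg.Agent.Spor.UFourType

universe u

variable {G : Type u} [Group G] [Finite G] {H : Hyp G}

namespace Wl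

variable {C : Sec H} {T : Tt C} {S : Swap T} {O : Co S} (W : Wl O)

/-- The subgroup generated by `M` and the walking element. -/
def U : Subgroup G := Subgroup.closure ((H.M : Set G) ∪ {W.w})

theorem M_le_U : H.M ≤ W.U := fun _ hm => Subgroup.subset_closure (Or.inl hm)

theorem w_U : W.w ∈ W.U := Subgroup.subset_closure (Or.inr rfl)

theorem x_U : S.x ∈ W.U := W.M_le_U O.x_M

theorem p_U : W.p ∈ W.U := mul_mem (mul_mem W.w_U W.x_U) W.w_U

/-- The points. -/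
noncomputable def pt (kk : ℕ → G) (n : Fin 112) : G ⧸ H.M :=
  if n.1 = 0 then cs H.M 1 else if n.1 < 31 then W.PN kk ((n.1 - 1) / 3) ((n.1 - 1) % 3) else W.PD (n.1 - 31)

namespace Reps

variable {W} {kk : ℕ → G} (R : W.Reps kk)
include R

theorem pt_base : W.pt kk 0 = cs H.M 1 := by simp [pt]

theorem pt_N {i c : ℕ} (hi : i < 10) (hc : c < 3) :
    ∃ n : Fin 112, n.1 = 1 + 3 * i + c ∧ W.pt kk n = W.PN kk i c := by
  refine ⟨⟨1 + 3 * i + c, by omega⟩, rfl, ?_⟩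
  unfold pt
  rw [if_neg (by simp), if_pos (by simp; omega), show (1 + 3 * i + c - 1) / 3 = i by omega,
    show (1 + 3 * i + c - 1) % 3 = c by omega]

theorem pt_D {v : ℕ} (hv : v < 81) : ∃ n : Fin 112, n.1 = 31 + v ∧ W.pt kk n = W.PD v := by
  refine ⟨⟨31 + v, by omega⟩, rfl, ?_⟩
  unfold pt
  rw [if_neg (by simp), if_neg (by simp), show 31 + v - 31 = v by omega]

theorem pt_cases (n : Fin 112) : (n.1 = 0 ∧ W.pt kk n = cs H.M 1) ∨
    (∃ i < 10, ∃ c < 3, n.1 = 1 + 3 * i + c ∧ W.pt kk n = W.PN kk i c) ∨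
    ∃ v < 81, n.1 = 31 + v ∧ W.pt kk n = W.PD v := by
  unfold pt
  by_cases h0 : n.1 = 0
  · exact Or.inl ⟨h0, if_pos h0⟩
  by_cases h1 : n.1 < 31
  · refine Or.inr (Or.inl ⟨(n.1 - 1) / 3, by omega, (n.1 - 1) % 3, by omega, by omega, ?_⟩)
    rw [if_neg h0, if_pos h1]
  · refine Or.inr (Or.inr ⟨n.1 - 31, by omega, by omega, ?_⟩)
    rw [if_neg h0, if_neg h1]

theorem ev_swap (a b : ℕ) (P : G ⧸ H.M) : C.ev a • C.ev b • P = C.ev b • C.ev a • P := by
  rw [← mul_smul, ← mul_smul, H.J_comm _ (C.ev_J a) _ (C.ev_J b)]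

theorem PN_ne_base {i c : ℕ} (hi : i < 10) : W.PN kk i c ≠ cs H.M 1 := by
  intro h
  rw [R.PN_def] at h
  have h3 : cs H.M W.w = cs H.M 1 := MulAction.injective (C.ev (wL i c) * kk i)
    (h.trans (W.fix_base.2 (R.PN_M hi c)).symm)
  rw [cs_eq, mul_one] at h3
  exact W.w_not_M (inv_mem_iff.1 h3)

theorem PD_ne_base {v : ℕ} : W.PD v ≠ cs H.M 1 := by
  intro h
  rw [PD] at h
  have h3 : cs H.M W.p = cs H.M 1 := MulAction.injective (C.ev v)
    (h.trans (W.fix_base.2 (H.J_le_M (C.ev_J v))).symm)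
  rw [cs_eq, mul_one] at h3
  exact W.p_not_M (inv_mem_iff.1 h3)

theorem fix_p {u : ℕ} (hu : u < 81) (h : C.ev u • cs H.M W.p = cs H.M W.p) : u = 0 := by
  rw [cs_smul, cs_eq] at h
  have h' := inv_mem h
  rw [show ((C.ev u * W.p)⁻¹ * W.p)⁻¹ = W.p⁻¹ * C.ev u * W.p by group] at h'
  exact C.ev_eq_one hu (W.K_E (C.ev_J u) (W.mem_Kst.2 ⟨H.J_le_M (C.ev_J u), h'⟩))

theorem D_eq {u v : ℕ} (hu : u < 81) (hv : v < 81) (h : W.PD u = W.PD v) : u = v := by
  rw [PD, PD, ← inv_smul_eq_iff, ← mul_smul] at h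
  obtain ⟨w, hw, hw'⟩ := C.ev_surj (mul_mem (inv_mem (C.ev_J v)) (C.ev_J u))
  rw [← hw'] at h
  have h0 := R.fix_p hw h
  subst h0
  have : C.ev 0 = 1 := by
    have := C.ev_add 0 0
    rw [show vA 0 0 = 0 from rfl] at this
    exact mul_eq_left.1 this.symm
  rw [this] at hw'
  exact C.ev_inj hu hv (inv_mul_eq_one.1 hw'.symm).symm

theorem N_ne_D {i c v : ℕ} (hi : i < 10) : W.PN kk i c ≠ W.PD v := by
  intro h
  obtain ⟨u, hu, hu0, hp⟩ := perp_some i hi
  have h1 : C.ev u • W.PN kk i c = W.PN kk i c := by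
    rw [PN, R.ev_swap, R.perp_fix hi hu hp]
  rw [h, PD, R.ev_swap, MulAction.injective (C.ev v) |>.eq_iff] at h1
  exact hu0 (R.fix_p hu h1)

theorem ev_sub (a b : ℕ) : (C.ev b)⁻¹ * C.ev a = C.ev (vA a (vS 2 b)) := by
  rw [C.ev_add, C.ev_smul, sq, three_sq (H.J_cube _ (C.ev_J b)),
    H.J_comm _ (C.ev_J a) _ (inv_mem (C.ev_J b))]

theorem N_eq {i c j d : ℕ} (hi : i < 10) (hc : c < 3) (hj : j < 10) (hd : d < 3)
    (h : W.PN kk i c = W.PN kk j d) : i = j ∧ c = d := by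
  have hij : i = j := by
    by_contra hne
    obtain ⟨u, hu, hp, hq⟩ := perp_sep i hi j hj hne
    have h1 : C.ev u • W.PN kk i c = W.PN kk i c := by
      rw [PN, R.ev_swap, R.perp_fix hi hu hp]
    rw [h, PN, R.ev_swap, (MulAction.injective _).eq_iff] at h1
    exact hq (R.perp_conv hj hu h1)
  subst hij
  refine ⟨rfl, ?_⟩
  obtain ⟨ha, ea⟩ := wL_spec i hi c hc
  obtain ⟨hb, eb⟩ := wL_spec i hi d hd
  rw [PN, PN, ← inv_smul_eq_iff, ← mul_smul, R.ev_sub] at h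
  have h0 := R.perp_conv hi (vA_lt _ _) h
  have hd' := List.all_eq_true.1 (List.all_eq_true.1 (List.all_eq_true.1 qB_diff i (List.mem_range.2 hi)) _
    (List.mem_range.2 ha)) _ (List.mem_range.2 hb)
  rw [Nat.eq_of_beq_eq_true hd', ea, eb] at h0
  omega

theorem pt_inj : Function.Injective (W.pt kk) := by
  intro m n h
  rcases R.pt_cases m with ⟨hm, em⟩ | ⟨i, hi, c, hc, hm, em⟩ | ⟨v, hv, hm, em⟩ <;>
    rcases R.pt_cases n with ⟨hn, en⟩ | ⟨j, hj, d, hd, hn, en⟩ | ⟨w, hw, hn, en⟩ <;> rw [em, en] at h <;>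
    refine Fin.ext ?_
  · omega
  · exact absurd h.symm (R.PN_ne_base hj)
  · exact absurd h.symm R.PD_ne_base
  · exact absurd h (R.PN_ne_base hi)
  · obtain ⟨rfl, rfl⟩ := R.N_eq hi hc hj hd h; omega
  · exact absurd h (R.N_ne_D hi)
  · exact absurd h R.PD_ne_base
  · exact absurd h.symm (R.N_ne_D hj)
  · have := R.D_eq hv hw h; omega

theorem smul_D {m : G} (hm : m ∈ H.M) (v : ℕ) : ∃ u < 81, m • W.PD v = W.PD u := by
  rw [PD, ← mul_smul]
  exact W.M_D (mul_mem hm (H.J_le_M (C.ev_J v)))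

theorem M_range {m : G} (hm : m ∈ H.M) (n : Fin 112) : ∃ n', m • W.pt kk n = W.pt kk n' := by
  rcases R.pt_cases n with ⟨-, en⟩ | ⟨i, hi, c, hc, -, en⟩ | ⟨v, hv, -, en⟩ <;> rw [en]
  · exact ⟨0, by rw [W.fix_base.2 hm, R.pt_base]⟩
  · rw [R.PN_def, ← mul_smul]
    obtain ⟨j, hj, d, hd, e1⟩ := R.M_pt (mul_mem hm (R.PN_M hi c))
    obtain ⟨n', -, e2⟩ := R.pt_N hj hd
    exact ⟨n', e1.trans e2.symm⟩
  · obtain ⟨u, hu, e1⟩ := R.smul_D hm v
    obtain ⟨n', -, e2⟩ := R.pt_D hu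
    exact ⟨n', e1.trans e2.symm⟩

theorem adj_range {n : Fin 112} {y : G ⧸ H.M} (h : Adj H.M W.w (W.pt kk n) y) : ∃ n', y = W.pt kk n' := by
  rcases R.pt_cases n with ⟨-, en⟩ | ⟨i, hi, c, hc, -, en⟩ | ⟨v, hv, -, en⟩ <;> rw [en] at h
  · obtain ⟨j, hj, d, hd, rfl⟩ := R.adj_base.1 h
    obtain ⟨n', -, e2⟩ := R.pt_N hj hd
    exact ⟨n', e2.symm⟩
  · rw [R.PN_def] at h
    have h' := h.smul (C.ev (wL i c) * kk i)⁻¹
    rw [inv_smul_smul] at h'
    obtain ⟨n', e1⟩ : ∃ n', (C.ev (wL i c) * kk i)⁻¹ • y = W.pt kk n' := by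
      rcases R.adj_first h' with h1 | ⟨d, -, h1⟩ | ⟨u, hu, h1⟩ <;> rw [h1]
      · exact ⟨0, R.pt_base.symm⟩
      · obtain ⟨n', -, e2⟩ := R.pt_N (show 0 < 10 by norm_num) d.2
        exact ⟨n', e2.symm⟩
      · obtain ⟨n', -, e2⟩ := R.pt_D hu
        exact ⟨n', e2.symm⟩
    obtain ⟨n'', e2⟩ := R.M_range (R.PN_M hi c) n'
    exact ⟨n'', by rw [← e2, ← e1, smul_inv_smul]⟩
  · rw [PD] at h
    have h' := h.smul (C.ev v)⁻¹
    rw [inv_smul_smul] at h'
    obtain ⟨n', e1⟩ : ∃ n', (C.ev v)⁻¹ • y = W.pt kk n' := by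
      rcases R.adj_p.1 h' with ⟨j, hj, h1⟩ | ⟨j, hj, h1⟩
      · obtain ⟨j', hj', d, hd, e1⟩ := R.M_pt (R.kk_M hj)
        obtain ⟨n', -, e2⟩ := R.pt_N hj' hd
        exact ⟨n', (h1.trans e1).trans e2.symm⟩
      · rcases h1 with h1 | h1
        · obtain ⟨n', -, e2⟩ := R.pt_D (lineM_spec j hj).2.1
          exact ⟨n', h1.trans e2.symm⟩
        · obtain ⟨n', -, e2⟩ := R.pt_D (vS_lt 2 (lC j))
          exact ⟨n', h1.trans e2.symm⟩
    obtain ⟨n'', e2⟩ := R.M_range (H.J_le_M (C.ev_J v)) n'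
    exact ⟨n'', by rw [← e2, ← e1, smul_inv_smul]⟩

theorem first_eq : cs H.M W.w = W.PN kk 0 ((0 : Fin 3) : ℕ) := by
  rw [R.first, show W.av ((0 : Fin 3) : ℕ) = 1 by rw [W.av_eq]; simp, one_mul]

theorem adj_D {v : ℕ} (hv : v < 81) : Adj H.M W.w (W.PN kk 0 (qB (lC 0) v)) (W.PD v) := by
  have h := R.adj_opp.smul (C.ev v)
  rwa [show C.ev v • cs H.M W.w = W.PN kk 0 (qB (lC 0) v) by
    rw [← R.trans (by norm_num) hv, R.zero, one_smul]] at h

theorem w_range (n : Fin 112) : ∃ n', W.w • W.pt kk n = W.pt kk n' := by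
  have hN : ∀ i c, i < 10 → c < 3 → ∃ n', W.w • W.PN kk i c = W.pt kk n' := fun i c hi hc => by
    have h := (R.adj_base.2 ⟨i, hi, c, hc, rfl⟩).smul W.w
    rw [W.f_base.1, R.first_eq] at h
    obtain ⟨n0, -, e0⟩ := R.pt_N (show 0 < 10 by norm_num) (show ((0 : Fin 3) : ℕ) < 3 by norm_num)
    rw [← e0] at h
    exact R.adj_range h
  rcases R.pt_cases n with ⟨-, en⟩ | ⟨i, hi, c, hc, -, en⟩ | ⟨v, hv, -, en⟩ <;> rw [en]
  · obtain ⟨n', -, e2⟩ := R.pt_N (show 0 < 10 by norm_num) (show ((0 : Fin 3) : ℕ) < 3 by norm_num)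
    exact ⟨n', by rw [W.f_base.1, e2, R.first_eq]⟩
  · exact hN i c hi hc
  · have hc : qB (lC 0) v < 3 := Nat.mod_lt _ (by norm_num)
    obtain ⟨n1, e1⟩ := hN 0 _ (by norm_num) hc
    have h := (R.adj_D hv).smul W.w
    rw [e1] at h
    exact R.adj_range h

theorem U_range {g : G} (hg : g ∈ W.U) (n : Fin 112) : ∃ n', g • W.pt kk n = W.pt kk n' := by
  suffices h : ∀ n, ∃ n', g • W.pt kk n = W.pt kk n' from h n
  induction hg using Subgroup.closure_induction with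
  | mem x hx =>
    rcases hx with hx | rfl
    · exact R.M_range hx
    · exact R.w_range
  | one => exact fun n => ⟨n, one_smul _ _⟩
  | mul x y _ _ hx hy =>
    intro n
    obtain ⟨n1, e1⟩ := hy n
    obtain ⟨n2, e2⟩ := hx n1
    exact ⟨n2, by rw [mul_smul, e1, e2]⟩
  | inv x _ hx =>
    choose F hF using hx
    have hinj : Function.Injective F := fun a b h => R.pt_inj (MulAction.injective x (show x • W.pt kk a = x • W.pt kk b by rw [hF, hF, h]))
    intro n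
    obtain ⟨m, hm⟩ := (Finite.injective_iff_bijective.1 hinj).2 n
    exact ⟨m, by rw [inv_smul_eq_iff, hF, hm]⟩

theorem orbit_eq : MulAction.orbit ↥W.U (cs H.M 1) = Set.range (W.pt kk) := by
  ext y
  constructor
  · rintro ⟨⟨g, hg⟩, rfl⟩
    obtain ⟨n', e1⟩ := R.U_range hg 0
    rw [R.pt_base] at e1
    exact ⟨n', e1.symm⟩
  · rintro ⟨n, rfl⟩
    rcases R.pt_cases n with ⟨-, en⟩ | ⟨i, hi, c, hc, -, en⟩ | ⟨v, hv, -, en⟩ <;> rw [en]
    · exact MulAction.mem_orbit_self _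
    · exact ⟨⟨C.ev (wL i c) * kk i * W.w, mul_mem (W.M_le_U (R.PN_M hi c)) W.w_U⟩, by
        show (C.ev (wL i c) * kk i * W.w) • cs H.M 1 = _
        rw [mul_smul, W.f_base.1, R.PN_def]⟩
    · exact ⟨⟨C.ev v * W.p, mul_mem (W.M_le_U (H.J_le_M (C.ev_J v))) W.p_U⟩, by
        show (C.ev v * W.p) • cs H.M 1 = _
        rw [mul_smul, cs_smul, mul_one]; rfl⟩

theorem card_U : Nat.card ↥W.U = 3265920 := by
  classical
  have hstab : MulAction.stabilizer ↥W.U (cs H.M 1) = H.M.subgroupOf W.U := by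
    ext g
    exact W.fix_base
  have hidx := MulAction.index_stabilizer ↥W.U (cs H.M 1)
  rw [R.orbit_eq, Set.ncard_range_of_injective R.pt_inj, Nat.card_eq_fintype_card, Fintype.card_fin, hstab] at hidx
  rw [← Subgroup.card_mul_index (H.M.subgroupOf W.U), hidx,
    Nat.card_congr (Subgroup.subgroupOfEquivOfLe W.M_le_U).toEquiv, H.card_M]

theorem adj_NN {i c j d : ℕ} (hi : i < 10) (hc : c < 3) (hj : j < 10) (hd : d < 3) :
    Adj H.M W.w (W.PN kk i c) (W.PN kk j d) ↔ (i = j ∧ c ≠ d) := by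
  set g := C.ev (wL i c) * kk i with hg
  have hg12 : W.PN kk i c = g • cs H.M W.w := R.PN_def i c
  have hgM : g ∈ H.M := R.PN_M hi c
  have himg : ∀ b : Fin 3, b ≠ 0 → ∃ f < 3, f ≠ c ∧ g • W.PN kk 0 b = W.PN kk i f := by
    intro b hb0
    obtain ⟨-, h3, -⟩ := first_codes b
    have h2 : vS (b : ℕ) 3 < 81 := vS_lt _ _
    have hev : g • W.PN kk 0 b = W.PN kk i (qB (lC i) (vA (wL i c) (ap (lineM.getD i 0) (vS b 3)))) := by
      have h := R.trans (show 0 < 10 by norm_num) h2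
      rw [h3, R.zero, one_smul] at h
      rw [← R.trans hi (vA_lt _ _), ← h, C.ev_add, ← (R.act i hi).2 _ h2, ← mul_smul, ← mul_smul, hg]
      congr 1
      group
    refine ⟨qB (lC i) (vA (wL i c) (ap (lineM.getD i 0) (vS b 3))), Nat.mod_lt _ (by norm_num), ?_, hev⟩
    intro hfc
    have h4 : g • W.PN kk 0 b = g • W.PN kk 0 ((0 : Fin 3) : ℕ) := by
      rw [hev, hfc, hg12, R.first_eq]
    exact hb0 (Fin.ext (R.N_eq (by norm_num) b.2 (by norm_num) (by norm_num) ((MulAction.injective g) h4)).2)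
  constructor
  · intro h
    rw [hg12] at h
    have h' := h.smul g⁻¹
    rw [inv_smul_smul] at h'
    rcases R.adj_first h' with h1 | ⟨b, hb0, h1⟩ | ⟨u, hu, h1⟩ <;> rw [inv_smul_eq_iff] at h1
    · rw [W.fix_base.2 hgM] at h1
      exact absurd h1 (R.PN_ne_base hj)
    · obtain ⟨f, hf, hfc, e1⟩ := himg b hb0
      obtain ⟨rfl, rfl⟩ := R.N_eq hj hd hi hf (h1.trans e1)
      exact ⟨rfl, hfc.symm⟩
    · obtain ⟨u', hu', e1⟩ := R.smul_D hgM u
      exact absurd (h1.trans e1) (R.N_ne_D hj)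
  · rintro ⟨rfl, hcd⟩
    obtain ⟨f1, hf1, n1, e1⟩ := himg 1 (by decide)
    obtain ⟨f2, hf2, n2, e2⟩ := himg 2 (by decide)
    have hne : f1 ≠ f2 := fun h => by
      have := R.N_eq (by norm_num) (by norm_num) (by norm_num) (by norm_num)
        ((MulAction.injective g) (e1.trans (h ▸ e2.symm)))
      exact absurd this.2 (by decide)
    have hstep : ∀ b : Fin 3, b ≠ 0 → Adj H.M W.w (W.PN kk i c) (g • W.PN kk 0 b) := by
      intro b hb0
      rw [hg12, R.first]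
      exact (R.adj_step hb0).smul g
    rcases (show d = f1 ∨ d = f2 by omega) with rfl | rfl
    · rw [← e1]; exact hstep 1 (by decide)
    · rw [← e2]; exact hstep 2 (by decide)

theorem adj_ND {i c v : ℕ} (hi : i < 10) (hc : c < 3) (hv : v < 81) :
    Adj H.M W.w (W.PN kk i c) (W.PD v) ↔ qB (lC i) v = c := by
  obtain ⟨hw, ew⟩ := wL_spec i hi c hc
  have hd := Nat.eq_of_beq_eq_true (List.all_eq_true.1 (List.all_eq_true.1 (List.all_eq_true.1 qB_diff i
    (List.mem_range.2 hi)) _ (List.mem_range.2 hw)) v (List.mem_range.2 hv))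
  rw [ew] at hd
  have e1 : (C.ev v)⁻¹ • W.PN kk i c = W.PN kk i ((c + 2 * qB (lC i) v) % 3) := by
    rw [← hd, ← R.trans hi (vA_lt _ _), PN, ← mul_smul (C.ev v)⁻¹, R.ev_sub]
  have hq : qB (lC i) v < 3 := Nat.mod_lt _ (by norm_num)
  have hz : ∀ j < 10, qB (lC j) 0 = 0 := by decide +kernel
  have hev0 : C.ev 0 = 1 := by
    have := C.ev_add 0 0
    rw [show vA 0 0 = 0 from rfl] at this
    exact mul_eq_left.1 this.symm
  have h0 : ∀ j < 10, kk j • cs H.M W.w = W.PN kk j 0 := fun j hj => by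
    have h := R.trans hj (show (0 : ℕ) < 81 by norm_num)
    rwa [hev0, one_smul, hz j hj] at h
  constructor
  · intro h
    have h' := (R.adj_symm h).smul (C.ev v)⁻¹
    rw [e1, PD, inv_smul_smul] at h'
    rcases R.adj_p.1 h' with ⟨j, hj, h1⟩ | ⟨j, hj, h1⟩
    · rw [h0 j hj] at h1
      have := (R.N_eq hi (Nat.mod_lt _ (by norm_num)) hj (by norm_num) h1).2
      omega
    · rcases h1 with h1 | h1
      · exact absurd h1 (R.N_ne_D hi)
      · exact absurd h1 (R.N_ne_D hi)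
  · intro h
    have h1 : Adj H.M W.w (cs H.M W.p) ((C.ev v)⁻¹ • W.PN kk i c) := by
      rw [e1, show (c + 2 * qB (lC i) v) % 3 = 0 by omega, ← h0 i hi]
      exact R.adj_p.2 (Or.inl ⟨i, hi, rfl⟩)
    have h2 := (R.adj_symm h1).smul (C.ev v)
    rwa [smul_inv_smul] at h2

theorem adj_DD {u v : ℕ} (hu : u < 81) (hv : v < 81) :
    Adj H.M W.w (W.PD u) (W.PD v) ↔ ∃ k < 10, vA v (vS 2 u) = lC k ∨ vA v (vS 2 u) = vS 2 (lC k) := by
  have e1 : (C.ev u)⁻¹ • W.PD v = W.PD (vA v (vS 2 u)) := by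
    rw [PD, PD, ← mul_smul, R.ev_sub]
  constructor
  · intro h
    have h' := h.smul (C.ev u)⁻¹
    rw [e1, show W.PD u = C.ev u • cs H.M W.p from rfl, inv_smul_smul] at h'
    rcases R.adj_p.1 h' with ⟨j, hj, h1⟩ | ⟨j, hj, h1⟩
    · exfalso
      obtain ⟨j', hj', d, hd, e2⟩ := R.M_pt (R.kk_M hj)
      exact R.N_ne_D hj' (e2.symm.trans h1.symm)
    · exact ⟨j, hj, h1.imp (R.D_eq (vA_lt _ _) (lineM_spec j hj).2.1) (R.D_eq (vA_lt _ _) (vS_lt _ _))⟩
  · rintro ⟨j, hj, h⟩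
    have h1 : Adj H.M W.w (cs H.M W.p) ((C.ev u)⁻¹ • W.PD v) := by
      rw [e1]
      exact R.adj_p.2 (Or.inr ⟨j, hj, h.imp (congrArg _) (congrArg _)⟩)
    have h2 := h1.smul (C.ev u)
    rwa [smul_inv_smul] at h2

/-- The graph of the orbit is the table. -/
theorem adj_iff (m n : Fin 112) : Adj H.M W.w (W.pt kk m) (W.pt kk n) ↔ adjT m n = true := by
  obtain ⟨a0, aN, aND, aD, asy⟩ := adjT_spec
  have hbase : ∀ m n : Fin 112, m.1 = 0 →
      (Adj H.M W.w (W.pt kk m) (W.pt kk n) ↔ adjT m n = true) := by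
    intro m n hm
    obtain rfl : m = 0 := Fin.ext hm
    rw [a0, R.pt_base, R.adj_base, Bool.and_eq_true, Bool.not_eq_true', Bool.eq_false_iff, Ne, nbeq_iff,
      Nat.blt_eq]
    constructor
    · rintro ⟨i, hi, c, hc, he⟩
      obtain ⟨n', hn', en'⟩ := R.pt_N hi hc
      have := R.pt_inj (he.trans en'.symm)
      subst this
      omega
    · rintro ⟨h1, h2⟩
      rcases R.pt_cases n with ⟨hn, -⟩ | ⟨i, hi, c, hc, -, en⟩ | ⟨v, -, hn, -⟩
      · exact absurd hn h1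
      · exact ⟨i, hi, c, hc, en⟩
      · omega
  have hsymm : ∀ P Q : G ⧸ H.M, Adj H.M W.w P Q ↔ Adj H.M W.w Q P := fun P Q => ⟨R.adj_symm, R.adj_symm⟩
  rcases R.pt_cases m with ⟨hm, em⟩ | ⟨i, hi, c, hc, hm, em⟩ | ⟨u, hu, hm, em⟩
  · exact hbase m n hm
  · rcases R.pt_cases n with ⟨hn, en⟩ | ⟨j, hj, d, hd, hn, en⟩ | ⟨v, hv, hn, en⟩
    · rw [hsymm, asy]; exact hbase n m hn
    · rw [em, en, R.adj_NN hi hc hj hd, aN m (by omega) (by omega) n (by omega) (by omega), Bool.and_eq_true,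
        Bool.not_eq_true', Bool.eq_false_iff, Ne, Ne, nbeq_iff, nbeq_iff]
      omega
    · rw [em, en, R.adj_ND hi hc hv, aND m (by omega) (by omega) n (by omega), nbeq_iff,
        show (m.1 - 1) / 3 = i by omega, show (m.1 - 1) % 3 = c by omega, show n.1 - 31 = v by omega]
  · rcases R.pt_cases n with ⟨hn, en⟩ | ⟨j, hj, d, hd, hn, en⟩ | ⟨v, hv, hn, en⟩
    · rw [hsymm, asy]; exact hbase n m hn
    · rw [hsymm, asy, em, en, R.adj_ND hj hd hu, aND n (by omega) (by omega) m (by omega), nbeq_iff,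
        show (n.1 - 1) / 3 = j by omega, show (n.1 - 1) % 3 = d by omega, show m.1 - 31 = u by omega]
    · rw [em, en, R.adj_DD hu hv, aD m (by omega) n (by omega), List.any_eq_true, show m.1 - 31 = u by omega,
        show n.1 - 31 = v by omega]
      simp only [List.mem_range, Bool.or_eq_true, nbeq_iff]

/-- The permutation representation on the points. -/
theorem exists_perm : ∃ f : ↥W.U →* Equiv.Perm (Fin 112), Function.Injective f ∧
    ∀ g i j, adjT (f g i) (f g j) = adjT i j := by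
  have h : ∀ (g : W.U) (n : Fin 112), ∃ n', (g : G) • W.pt kk n = W.pt kk n' := fun g n => R.U_range g.2 n
  choose F hF using h
  let f : ↥W.U →* Equiv.Perm (Fin 112) := MonoidHom.toHomPerm
    { toFun := fun g => F g
      map_one' := funext fun n => R.pt_inj (by rw [← hF, coe_one, one_smul]; rfl)
      map_mul' := fun a b => funext fun n => R.pt_inj (by
        show W.pt kk (F (a * b) n) = W.pt kk (F a (F b n))
        rw [← hF, ← hF, ← hF, coe_mul, mul_smul]) }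
  have hf : ∀ (g : W.U) n, f g n = F g n := fun _ _ => rfl
  refine ⟨f, (injective_iff_map_eq_one f).2 fun g hg => ?_, fun g i j => ?_⟩
  · have hfix : ∀ g : W.U, f g = 1 → ∀ n, (g : G) • W.pt kk n = W.pt kk n := fun g hg n => by
      rw [hF, ← hf, hg]; rfl
    have hK : ∀ g : W.U, f g = 1 → (g : G) ∈ W.Kst := fun g hg => by
      have h0 := hfix g hg 0
      rw [R.pt_base] at h0
      obtain ⟨n, -, en⟩ := R.pt_D (show (0 : ℕ) < 81 by norm_num)
      have h1 := hfix g hg n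
      have hev0 : C.ev 0 = 1 := by
        have := C.ev_add 0 0
        rw [show vA 0 0 = 0 from rfl] at this
        exact mul_eq_left.1 this.symm
      rw [en, PD, hev0, one_smul, cs_smul, eq_comm, cs_eq, ← mul_assoc] at h1
      exact W.mem_Kst.2 ⟨W.fix_base.1 h0, h1⟩
    have hgM : (g : G) ∈ H.M := (W.mem_Kst.1 (hK g hg)).1
    have hgJ : ∀ a ∈ H.J, (g : G) * a = a * g := by
      intro a ha
      set a' : W.U := ⟨a, W.M_le_U (H.J_le_M ha)⟩
      have hk : f (g * a' * g⁻¹ * a'⁻¹) = 1 := by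
        rw [map_mul, map_mul, map_mul, map_inv, hg, map_inv]; simp
      have hJ : (g : G) * a * (g : G)⁻¹ * a⁻¹ ∈ H.J :=
        mul_mem (((mem_normalizer_iff.1 (H.M_norm hgM)) a).1 ha) (inv_mem ha)
      exact mul_inv_eq_iff_eq_mul.1 (mul_inv_eq_one.1 (W.K_E hJ (hK _ hk)))
    exact Subtype.ext (W.K_E (H.J_self_cent hgJ) (hK g hg))
  · rw [Bool.eq_iff_iff, ← R.adj_iff, ← R.adj_iff, hf, hf, ← hF, ← hF]
    exact ⟨fun h => by have := h.smul (g : G)⁻¹; rwa [inv_smul_smul, inv_smul_smul] at this, fun h => h.smul _⟩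

end Reps

include W in
theorem card_U' : Nat.card ↥W.U = 3265920 := by
  obtain ⟨kk, R⟩ := W.exists_reps
  exact R.card_U

include W in
/-- The subgroup is the unitary group. -/
theorem U_iso : Nonempty (UFourThree.G43 ≃* ↥W.U) := by
  obtain ⟨kk, R⟩ := W.exists_reps
  obtain ⟨f, hf, hadj⟩ := R.exists_perm
  obtain ⟨e⟩ := UFourType.iso_of_graph R.card_U f hf hadj UFourThree.K9 rfl
  obtain ⟨e'⟩ := UFourType.exists_iso UFourThree.K9 rfl
  exact ⟨e'.trans e.symm⟩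

end Wl

end Cfsg.Agent.Spor.McLThree
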