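import Cfsg.Agent.Lib.Spor.McLThree.UBase
import Cfsg.Agent.Lib.Spor.UFourType.Graph

/-!
The 112 points: the base point, thirty points on its ten lines, and 81 opposite points.
-/

set_option autoImplicit false
set_option maxRecDepth 100000
set_option synthInstance.maxSize 4096
set_option linter.unusedSectionVars false

namespace Cfsg.Agent.Spor.McLThree

open Subgroup Cfsg.Agent.Spor.UFourType

universe u

theorem u_codes : (∀ v < 81, vA (vS (qB 4 v) 3) (vA v (vS 2 (vS (qB 4 v) 3))) = v ∧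
      qB 4 (vA v (vS 2 (vS (qB 4 v) 3))) = 0) ∧ 9 ∈ midL ∧ 27 ∈ midL ∧
    (∀ u < 81, ∀ w < 81, vA u w = vA w u) := by
  decide +kernel

theorem line_signs : ∀ i < 10, ∀ A, A = lineM.getD i 0 →
    (vS 1 (ap A 4) = lC i ∧ vS 2 (ap A 4) = vS 2 (lC i)) ∨ (vS 2 (ap A 4) = lC i ∧ vS 1 (ap A 4) = vS 2 (lC i)) := by
  intro i hi A hA
  subst hA
  revert i
  decide +kernel

theorem sign_codes : ∀ v < 81, ∀ k : Fin 3, vS (k : ℕ) (vS 2 v) = vS (2 * (k : ℕ)) v ∧ vS 1 v = v := by decide +kernel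

theorem P8.line_free2 : ∀ c d : Fin 3, P8.norm9 (P8.wP⁻¹ * ((P8.aP c)⁻¹ * P8.aP d) * P8.wP) → c = d := by
  decide +kernel

variable {G : Type u} [Group G] [Finite G] {H : Hyp G}

namespace Wl

variable {C : Sec H} {T : Tt C} {S : Swap T} {O : Co S} (W : Wl O)

/-- The translation along the line. -/
noncomputable def av (_W : Wl O) (c : ℕ) : G := C.ev (vS c 3)

theorem av_M (c : ℕ) : W.av c ∈ H.M := H.J_le_M (C.ev_J _)

theorem av_eq (c : Fin 3) : W.av c = H.z ^ (2 * (c : ℕ)) * C.f ^ (c : ℕ) := by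
  rw [av, (first_codes c).1, C.ev_add, C.ev_smul, C.ev_smul, C.ev_basis.1, C.ev_basis.2.1]

theorem av_K (c : Fin 3) : W.av c ∈ T.K := by
  rw [W.av_eq]; exact T.K.mul_mem (T.K.pow_mem T.z_K _) (T.K.pow_mem T.f_K _)

theorem pav (c : Fin 3) : O.π ⟨W.av c, W.av_K c⟩ = P8.aP c := by
  rw [show (⟨W.av c, W.av_K c⟩ : T.K) = ⟨H.z, T.z_K⟩ ^ (2 * (c : ℕ)) * ⟨C.f, T.f_K⟩ ^ (c : ℕ) from
    Subtype.ext (W.av_eq c), map_mul, map_pow, map_pow, O.pz, O.pf]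
  exact (P8.pow_list c c).1

include W in
theorem pzz (c : Fin 3) : O.π ⟨H.z ^ (2 * (c : ℕ)), T.K.pow_mem T.z_K _⟩ = P8.zP c := by
  rw [show (⟨H.z ^ (2 * (c : ℕ)), T.K.pow_mem T.z_K _⟩ : T.K) = ⟨H.z, T.z_K⟩ ^ (2 * (c : ℕ)) from rfl, map_pow, O.pz]
  exact (P8.pow_list c c).2.1

include W in
/-- Cosets agreeing by the images. -/
theorem cs_K {a b : G} (ha : a ∈ T.K) (hb : b ∈ T.K) (h : (O.π ⟨a, ha⟩)⁻¹ * O.π ⟨b, hb⟩ ∈ P8.nm36) :
    cs H.M a = cs H.M b := by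
  refine cs_eq.2 (O.mem_M (T.K.mul_mem (T.K.inv_mem ha) hb) ?_)
  rwa [show (⟨a⁻¹ * b, T.K.mul_mem (T.K.inv_mem ha) hb⟩ : T.K) = ⟨a, ha⟩⁻¹ * ⟨b, hb⟩ from rfl, map_mul, map_inv]

theorem walk1 {c : Fin 3} (hc : c ≠ 0) : cs H.M (W.av c * W.w) = cs H.M (W.w * W.av c * W.w) := by
  refine W.cs_K (T.K.mul_mem (W.av_K c) W.w_K) (T.K.mul_mem (T.K.mul_mem W.w_K (W.av_K c)) W.w_K) ?_
  rw [show (⟨W.av c * W.w, T.K.mul_mem (W.av_K c) W.w_K⟩ : T.K) = ⟨_, W.av_K c⟩ * ⟨_, W.w_K⟩ from rfl,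
    show (⟨W.w * W.av c * W.w, T.K.mul_mem (T.K.mul_mem W.w_K (W.av_K c)) W.w_K⟩ : T.K) =
      ⟨_, W.w_K⟩ * ⟨_, W.av_K c⟩ * ⟨_, W.w_K⟩ from rfl, map_mul, map_mul, map_mul, W.pav, W.pw]
  exact P8.walks.1 c hc

theorem walk2 (c : Fin 3) : cs H.M (H.z ^ (2 * (c : ℕ)) * W.p) = cs H.M (W.w * S.x * W.av c * W.w) := by
  have hz := T.K.pow_mem T.z_K (2 * (c : ℕ))
  refine W.cs_K (T.K.mul_mem hz W.p_K) (T.K.mul_mem (T.K.mul_mem (T.K.mul_mem W.w_K S.x_K) (W.av_K c)) W.w_K) ?_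
  rw [show (⟨_, T.K.mul_mem hz W.p_K⟩ : T.K) = ⟨_, hz⟩ * ⟨_, W.p_K⟩ from rfl,
    show (⟨_, T.K.mul_mem (T.K.mul_mem (T.K.mul_mem W.w_K S.x_K) (W.av_K c)) W.w_K⟩ : T.K) =
      ⟨_, W.w_K⟩ * ⟨_, S.x_K⟩ * ⟨_, W.av_K c⟩ * ⟨_, W.w_K⟩ from rfl, map_mul, map_mul, map_mul, map_mul, W.pzz, W.pp,
    W.pav, W.pw, O.px_A]
  exact P8.walks.2.1 c

theorem walk3 {c : Fin 3} (hc : c ≠ 0) : cs H.M (H.z ^ (2 * (c : ℕ)) * W.p) = cs H.M (W.p * W.av c * W.w) := by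
  have hz := T.K.pow_mem T.z_K (2 * (c : ℕ))
  refine W.cs_K (T.K.mul_mem hz W.p_K) (T.K.mul_mem (T.K.mul_mem W.p_K (W.av_K c)) W.w_K) ?_
  rw [show (⟨_, T.K.mul_mem hz W.p_K⟩ : T.K) = ⟨_, hz⟩ * ⟨_, W.p_K⟩ from rfl,
    show (⟨_, T.K.mul_mem (T.K.mul_mem W.p_K (W.av_K c)) W.w_K⟩ : T.K) =
      ⟨_, W.p_K⟩ * ⟨_, W.av_K c⟩ * ⟨_, W.w_K⟩ from rfl, map_mul, map_mul, map_mul, W.pzz, W.pp, W.pav, W.pw]
  exact P8.walks.2.2.1 c hc

theorem walk0 : cs H.M W.w = cs H.M (W.p * W.w) := by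
  refine W.cs_K W.w_K (T.K.mul_mem W.p_K W.w_K) ?_
  rw [show (⟨_, T.K.mul_mem W.p_K W.w_K⟩ : T.K) = ⟨_, W.p_K⟩ * ⟨_, W.w_K⟩ from rfl, map_mul, W.pp, W.pw]
  exact P8.walks.2.2.2

include W in
theorem fix_base {g : G} : g • cs H.M 1 = cs H.M 1 ↔ g ∈ H.M := by
  rw [cs_smul, mul_one, cs_eq, mul_one]
  exact inv_mem_iff

theorem f_base : W.w • cs H.M 1 = cs H.M W.w ∧ W.w • cs H.M W.w = cs H.M 1 := by
  refine ⟨by rw [cs_smul, mul_one], ?_⟩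
  rw [cs_smul, W.w_sq]
  exact (cs_eq.2 (by rw [inv_one, one_mul]; exact O.t_M)).symm

theorem w_not_M : W.w ∉ H.M := fun h => by
  have h' := O.norm9_of W.w_K (H.M_norm h)
  rw [W.pw] at h'
  exact P8.u_facts.2.2.2.2.2.2.2.2.2.2.2.1 h'

theorem p_not_M : W.p ∉ H.M := fun h => by
  have h' := O.norm9_of W.p_K (H.M_norm h)
  rw [W.pp] at h'
  exact P8.u_facts.2.2.2.2.2.2.2.2.2.2.2.2.1 h'

/-- Elements of `Q` fix the second point of the line. -/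
theorem R_fix {q : G} (hq : q ∈ H.Q) : q • cs H.M W.w = cs H.M W.w := by
  rw [cs_smul, show q * W.w = W.w * (W.w⁻¹ * q * W.w) by group]
  exact cs_mem (H.S_le_M (H.Q_le_S (W.wi_Q hq)))

include W in
theorem perp_Q {u : ℕ} (hu : u < 81) (h : qB 4 u = 0) : C.ev u ∈ H.Q := by
  obtain ⟨a, -, b, -, c, -, rfl⟩ := four_split u hu h
  rw [C.ev_add, C.ev_add, C.ev_smul, C.ev_smul, C.ev_smul, C.ev_basis.1]
  exact mul_mem (pow_mem H.z_Q _) (mul_mem (pow_mem (C.ev_mid u_codes.2.1) _) (pow_mem (C.ev_mid u_codes.2.2.1) _))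

theorem trans0 {v : ℕ} (hv : v < 81) : C.ev v • cs H.M W.w = cs H.M (W.av (qB 4 v) * W.w) := by
  obtain ⟨e1, e2⟩ := u_codes.1 v hv
  conv_lhs => rw [← e1, C.ev_add, mul_smul, W.R_fix (W.perp_Q (vA_lt _ _) e2)]
  rfl

theorem line_inj {c d : Fin 3} (h : cs H.M (W.av c * W.w) = cs H.M (W.av d * W.w)) : c = d := by
  rw [cs_eq] at h
  have hK : (W.av c * W.w)⁻¹ * (W.av d * W.w) ∈ T.K :=
    T.K.mul_mem (T.K.inv_mem (T.K.mul_mem (W.av_K c) W.w_K)) (T.K.mul_mem (W.av_K d) W.w_K)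
  have h' := O.norm9_of hK (H.M_norm h)
  rw [show (⟨_, hK⟩ : T.K) = (⟨_, W.av_K c⟩ * ⟨_, W.w_K⟩)⁻¹ * (⟨_, W.av_K d⟩ * ⟨_, W.w_K⟩) from rfl, map_mul, map_inv,
    map_mul, map_mul, W.pav, W.pav, W.pw] at h'
  refine P8.line_free2 c d ?_
  rwa [show P8.wP⁻¹ * ((P8.aP c)⁻¹ * P8.aP d) * P8.wP = (P8.aP c * P8.wP)⁻¹ * (P8.aP d * P8.wP) by group]

/-- A member of the stabilizer keeping the first line fixes its point. -/
theorem K_line {k : G} (hk : k ∈ W.Kst) {A : ℕ} (hkA : ActB C.ev k A) (hA : A ∈ gT) (h : ap A 4 = 4 ∨ ap A 4 = 8) :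
    k • cs H.M W.w = cs H.M W.w := by
  obtain ⟨X, hX, D, hD, rfl⟩ := line_stab T.B T.B_mem A hA h
  obtain ⟨y, hy, hyQ, hyA⟩ := W.K_onto_syT hX
  have htw : W.w⁻¹ * T.t * W.w = T.t := by
    rw [← W.w_sq]; group
  obtain ⟨d, hd, hdA, hdw⟩ : ∃ d ∈ W.Kst, ActB C.ev d D ∧ W.w⁻¹ * d * W.w ∈ H.M := by
    have hh : W.w⁻¹ * O.h * W.w ∈ H.M := by
      rcases W.h_w with e | e <;> rw [e]
      exacts [O.h_M, mul_mem O.h_M O.t_M]
    simp only [List.mem_cons, List.not_mem_nil, or_false] at hD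
    rcases hD with rfl | rfl | rfl | rfl
    · exact ⟨1, one_mem _, C.nact_J (one_mem _), by simp⟩
    · exact ⟨T.t, W.t_Kst, T.t_act, htw.symm ▸ O.t_M⟩
    · exact ⟨O.h, W.h_Kst.1, O.h_act, hh⟩
    · refine ⟨T.t * O.h, mul_mem W.t_Kst W.h_Kst.1, C.nact_mul T.t_act O.h_act, ?_⟩
      rw [show W.w⁻¹ * (T.t * O.h) * W.w = (W.w⁻¹ * T.t * W.w) * (W.w⁻¹ * O.h * W.w) by group, htw]
      exact mul_mem O.t_M hh
  have e : k = y * d := W.K_inj hk (mul_mem hy hd) hkA (C.nact_mul hyA hdA)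
  have hfix : d • cs H.M W.w = cs H.M W.w := by
    rw [cs_smul, show d * W.w = W.w * (W.w⁻¹ * d * W.w) by group]
    exact cs_mem hdw
  rw [e, mul_smul, hfix, W.R_fix hyQ]

/-- Representatives for the ten lines. -/
structure Reps (kk : ℕ → G) : Prop where
  mem : ∀ i < 10, kk i ∈ W.Kst
  act : ∀ i < 10, ActB C.ev (kk i) (lineM.getD i 0)
  zero : kk 0 = 1
  form : ∀ i < 10, i ≠ 0 → ∃ y ∈ H.Q, kk i = y * S.x

theorem exists_reps : ∃ kk, W.Reps kk := by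
  have h : ∀ i, ∃ k, (i = 0 → k = 1) ∧ (i < 10 → k ∈ W.Kst ∧ ActB C.ev k (lineM.getD i 0) ∧
      (i ≠ 0 → ∃ y ∈ H.Q, k = y * S.x)) := fun i => by
    by_cases hi : i < 10
    · by_cases h0 : i = 0
      · subst h0
        exact ⟨1, fun _ => rfl, fun _ => ⟨one_mem _, by
          rw [(lineM_spec 0 (by norm_num)).2.2.2.1 rfl]; exact C.nact_J (one_mem _), fun h => absurd rfl h⟩⟩
      · obtain ⟨X, hX, hXW⟩ := (lineM_spec i hi).2.2.2.2 h0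
        obtain ⟨y, hy, hyQ, hyA⟩ := W.K_onto_syT hX
        exact ⟨y * S.x, fun h => absurd h h0, fun _ => ⟨mul_mem hy W.x_Kst.1, hXW ▸ C.nact_mul hyA S.x_act,
          fun _ => ⟨y, hyQ, rfl⟩⟩⟩
    · exact ⟨1, fun _ => rfl, fun h => absurd h hi⟩
  choose kk hkk using h
  exact ⟨kk, fun i hi => ((hkk i).2 hi).1, fun i hi => ((hkk i).2 hi).2.1, (hkk 0).1 rfl,
    fun i hi => ((hkk i).2 hi).2.2⟩

/-- The points on the lines through the base point. -/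
noncomputable def PN (kk : ℕ → G) (i c : ℕ) : G ⧸ H.M := C.ev (wL i c) • kk i • cs H.M W.w

/-- The opposite points. -/
noncomputable def PD (v : ℕ) : G ⧸ H.M := C.ev v • cs H.M W.p

theorem K_fix {k : G} (hk : k ∈ W.Kst) : k • cs H.M W.p = cs H.M W.p := by
  rw [cs_smul, show k * W.p = W.p * (W.p⁻¹ * k * W.p) by group]
  exact cs_mem (W.mem_Kst.1 hk).2

theorem M_D {m : G} (hm : m ∈ H.M) : ∃ v < 81, m • cs H.M W.p = W.PD v := by
  obtain ⟨v, hv, k, hk, rfl⟩ := (W.M_split hm).1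
  exact ⟨v, hv, by rw [mul_smul, W.K_fix hk, PD]⟩

namespace Reps

variable {W} {kk : ℕ → G} (R : W.Reps kk)
include R

theorem kk_M {i : ℕ} (hi : i < 10) : kk i ∈ H.M := (W.mem_Kst.1 (R.mem i hi)).1

theorem pull {i : ℕ} (hi : i < 10) {u : ℕ} (hu : u < 81) : ∃ v < 81, ap (lineM.getD i 0) v = u ∧
    C.ev u * kk i = kk i * C.ev v := by
  obtain ⟨B, hB⟩ := C.exists_act (inv_mem (H.M_norm (R.kk_M hi)))
  refine ⟨ap B u, ap_lt _ _, ?_, ?_⟩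
  · refine C.ev_inj (ap_lt _ _) hu ?_
    rw [← (R.act i hi).2 _ (ap_lt _ _), ← hB.2 u hu]; group
  · rw [← hB.2 u hu]; group

theorem perp_fix {i : ℕ} (hi : i < 10) {u : ℕ} (hu : u < 81) (h : qB (lC i) u = 0) :
    C.ev u • kk i • cs H.M W.w = kk i • cs H.M W.w := by
  obtain ⟨v, hv, e1, e2⟩ := R.pull hi hu
  have h4 : qB 4 v = 0 := by
    have := lineM_perp i hi v hv
    rw [e1, h] at this
    exact Nat.eq_of_beq_eq_true this.symm
  rw [← mul_smul, e2, mul_smul, W.R_fix (W.perp_Q hv h4)]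

theorem trans {i : ℕ} (hi : i < 10) {u : ℕ} (hu : u < 81) :
    C.ev u • kk i • cs H.M W.w = W.PN kk i (qB (lC i) u) := by
  have hc : qB (lC i) u < 3 := Nat.mod_lt _ (by norm_num)
  obtain ⟨hw, ew⟩ := wL_spec i hi _ hc
  set w := wL i (qB (lC i) u) with hwdef
  have hd := List.all_eq_true.1 (List.all_eq_true.1 (List.all_eq_true.1 qB_diff i (List.mem_range.2 hi)) u
    (List.mem_range.2 hu)) w (List.mem_range.2 hw)
  have h0 : qB (lC i) (vA u (vS 2 w)) = 0 := by rw [Nat.eq_of_beq_eq_true hd, ew]; omega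
  rw [PN, ← hwdef]
  have e : C.ev u = C.ev w * C.ev (vA u (vS 2 w)) := by
    rw [C.ev_add, C.ev_smul, sq, three_sq (H.J_cube _ (C.ev_J w)), H.J_comm _ (C.ev_J u) _ (inv_mem (C.ev_J w))]
    group
  rw [e, mul_smul, R.perp_fix hi (vA_lt _ _) h0]

theorem first {c : Fin 3} : W.PN kk 0 c = cs H.M (W.av c * W.w) := by
  obtain ⟨-, h3, -⟩ := first_codes c
  have h := R.trans (show 0 < 10 by norm_num) (u := vS c 3) (vS_lt _ _)
  rw [h3, R.zero, one_smul, cs_smul] at h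
  exact h.symm

theorem perp_conv {i : ℕ} (hi : i < 10) {u : ℕ} (hu : u < 81)
    (h : C.ev u • kk i • cs H.M W.w = kk i • cs H.M W.w) : qB (lC i) u = 0 := by
  obtain ⟨v, hv, e1, e2⟩ := R.pull hi hu
  rw [← mul_smul, e2, mul_smul] at h
  have h' := MulAction.injective (kk i) h
  rw [W.trans0 hv] at h'
  have h0 : cs H.M W.w = cs H.M (W.av ((0 : Fin 3) : ℕ) * W.w) := by
    rw [show W.av ((0 : Fin 3) : ℕ) = 1 by rw [W.av_eq]; simp, one_mul]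
  have hc := W.line_inj (c := ⟨qB 4 v, Nat.mod_lt _ (by norm_num)⟩) (d := 0) (h'.trans h0)
  have hc' : qB 4 v = 0 := congrArg Fin.val hc
  have := lineM_perp i hi v hv
  rw [e1, hc'] at this
  exact Nat.eq_of_beq_eq_true this

theorem conj_line {i : ℕ} (hi : i < 10) (k : Fin 3) :
    kk i * H.z ^ (k : ℕ) * (kk i)⁻¹ = C.ev (vS k (ap (lineM.getD i 0) 4)) := by
  rw [C.ev_smul, ← (R.act i hi).2 4 (by norm_num), C.ev_basis.1]
  exact conj_pow.symm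

/-- A member of the stabilizer carries the first line to one of the ten. -/
theorem K_pt {k : G} (hk : k ∈ W.Kst) : ∃ i < 10, k • cs H.M W.w = kk i • cs H.M W.w ∧
    (k * H.z * k⁻¹ = C.ev (lC i) ∨ k * H.z * k⁻¹ = C.ev (vS 2 (lC i))) := by
  have hkM : k ∈ H.M := (W.mem_Kst.1 hk).1
  set A := C.mat (C.θ ⟨k, hkM⟩)
  have hkA : ActB C.ev k A := C.nact_M hkM
  obtain ⟨i, hi, hl⟩ := gT_line A (C.mat_mem _)
  have hkz : k * H.z * k⁻¹ = C.ev (lC i) ∨ k * H.z * k⁻¹ = C.ev (vS 2 (lC i)) := by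
    rw [← C.ev_basis.1, hkA.2 4 (by norm_num)]
    exact hl.imp (congrArg _) (congrArg _)
  refine ⟨i, hi, ?_, hkz⟩
  set k' := (kk i)⁻¹ * k with hk'
  have hk'K : k' ∈ W.Kst := mul_mem (inv_mem (R.mem i hi)) hk
  have hk'M : k' ∈ H.M := (W.mem_Kst.1 hk'K).1
  set A' := C.mat (C.θ ⟨k', hk'M⟩)
  have hA' : ActB C.ev k' A' := C.nact_M hk'M
  obtain ⟨j, hj⟩ : ∃ j : Fin 3, (j : ℕ) ≠ 0 ∧ kk i * H.z ^ (j : ℕ) * (kk i)⁻¹ = k * H.z * k⁻¹ := by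
    simp only [R.conj_line hi]
    rcases line_signs i hi _ rfl with ⟨a, b⟩ | ⟨a, b⟩ <;> rcases hkz with h | h <;> rw [h]
    · exact ⟨1, by decide, congrArg _ a⟩
    · exact ⟨2, by decide, congrArg _ b⟩
    · exact ⟨2, by decide, congrArg _ a⟩
    · exact ⟨1, by decide, congrArg _ b⟩
  have h4 : ap A' 4 = vS j 4 := by
    refine C.ev_inj (ap_lt _ _) (vS_lt _ _) ?_
    rw [← hA'.2 4 (by norm_num), C.ev_smul, C.ev_basis.1, hk',
      show (kk i)⁻¹ * k * H.z * ((kk i)⁻¹ * k)⁻¹ = (kk i)⁻¹ * (k * H.z * k⁻¹) * kk i by group, ← hj.2]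
    group
  have hfix := W.K_line hk'K hA' (C.mat_mem _) (h4 ▸ codes j hj.1)
  calc k • cs H.M W.w = kk i • k' • cs H.M W.w := by rw [← mul_smul, hk', mul_inv_cancel_left]
    _ = _ := by rw [hfix]
where
  codes : ∀ j : Fin 3, (j : ℕ) ≠ 0 → vS (j : ℕ) 4 = 4 ∨ vS (j : ℕ) 4 = 8 := by decide +kernel

/-- The images of the point of the first line under `M`. -/
theorem M_pt {m : G} (hm : m ∈ H.M) : ∃ i < 10, ∃ c < 3, m • cs H.M W.w = W.PN kk i c := by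
  obtain ⟨u, hu, k, hk, rfl⟩ := (W.M_split hm).1
  obtain ⟨i, hi, e1, -⟩ := R.K_pt hk
  exact ⟨i, hi, qB (lC i) u, Nat.mod_lt _ (by norm_num), by rw [mul_smul, e1, R.trans hi hu]⟩

theorem PN_def (i c : ℕ) : W.PN kk i c = (C.ev (wL i c) * kk i) • cs H.M W.w := (mul_smul _ _ _).symm

theorem PN_M {i : ℕ} (hi : i < 10) (c : ℕ) : C.ev (wL i c) * kk i ∈ H.M :=
  mul_mem (H.J_le_M (C.ev_J _)) (R.kk_M hi)

theorem adj_symm {P Q : G ⧸ H.M} (h : Adj H.M W.w P Q) : Adj H.M W.w Q P := by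
  obtain ⟨g, h1, h2⟩ := h
  exact ⟨g * W.w, by rw [mul_smul, W.f_base.1, h2], by rw [mul_smul, W.f_base.2, h1]⟩

/-- The neighbours of the base point. -/
theorem adj_base {y : G ⧸ H.M} : Adj H.M W.w (cs H.M 1) y ↔ ∃ i < 10, ∃ c < 3, y = W.PN kk i c := by
  constructor
  · rintro ⟨g, h1, rfl⟩
    exact R.M_pt (W.fix_base.1 h1)
  · rintro ⟨i, hi, c, -, rfl⟩
    exact ⟨_, W.fix_base.2 (R.PN_M hi c), (R.PN_def i c).symm⟩

/-- The neighbours of the point of the first line. -/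
theorem adj_first {y : G ⧸ H.M} (h : Adj H.M W.w (cs H.M W.w) y) :
    y = cs H.M 1 ∨ (∃ c : Fin 3, c ≠ 0 ∧ y = W.PN kk 0 c) ∨ ∃ v < 81, y = W.PD v := by
  obtain ⟨g, h1, rfl⟩ := h
  have hm : W.w⁻¹ * g ∈ H.M := W.fix_base.1 (by rw [mul_smul, h1, inv_smul_eq_iff, W.f_base.1])
  set m := W.w⁻¹ * g with hmdef
  rw [show g = W.w * m by rw [hmdef, mul_inv_cancel_left], mul_smul]
  obtain ⟨i, hi, c, hc, e1⟩ := R.M_pt hm
  rw [e1]
  by_cases hi0 : i = 0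
  · subst hi0
    rw [R.first (c := ⟨c, hc⟩), cs_smul, ← mul_assoc]
    by_cases hc0 : c = 0
    · left
      subst hc0
      rw [show W.av (((⟨0, hc⟩ : Fin 3)) : ℕ) = 1 by rw [W.av_eq]; simp, mul_one, ← cs_smul _ W.w W.w]
      exact W.f_base.2
    · right; left
      exact ⟨⟨c, hc⟩, fun h => hc0 (congrArg Fin.val h), by
        rw [← W.walk1 (fun h => hc0 (congrArg Fin.val h)), R.first]⟩
  · right; right
    obtain ⟨y, hy, hky⟩ := R.form i hi hi0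
    obtain ⟨v, hv, -, e2⟩ := R.pull hi (wL_spec i hi c hc).1
    rw [PN, ← mul_smul (C.ev _), e2, mul_smul, W.trans0 hv, hky, cs_smul, cs_smul]
    set q : Fin 3 := ⟨qB 4 v, Nat.mod_lt _ (by norm_num)⟩
    rw [show W.w * (y * S.x * (W.av (qB 4 v) * W.w)) = (W.w * y * W.w⁻¹) * (W.w * S.x * W.av q * W.w) by
      show _ = W.w * y * W.w⁻¹ * (W.w * S.x * W.av (qB 4 v) * W.w)
      group, ← cs_smul, ← W.walk2, ← cs_smul, ← mul_smul]
    exact W.M_D (mul_mem (H.S_le_M (H.Q_le_S (W.w_Q hy))) (pow_mem (H.J_le_M H.z_J) _))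

theorem adj_step {c : Fin 3} (hc : c ≠ 0) : Adj H.M W.w (cs H.M W.w) (cs H.M (W.av c * W.w)) := by
  refine ⟨W.w * W.av c, ?_, ?_⟩
  · rw [mul_smul, W.fix_base.2 (W.av_M _), W.f_base.1]
  · rw [cs_smul, W.walk1 hc]

theorem adj_opp : Adj H.M W.w (cs H.M W.w) (cs H.M W.p) := by
  refine ⟨W.w * S.x, ?_, rfl⟩
  rw [mul_smul, W.fix_base.2 O.x_M, W.f_base.1]

/-- The neighbours of the opposite point. -/
theorem adj_p {y : G ⧸ H.M} : Adj H.M W.w (cs H.M W.p) y ↔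
    (∃ i < 10, y = kk i • cs H.M W.w) ∨ ∃ i < 10, y = W.PD (lC i) ∨ y = W.PD (vS 2 (lC i)) := by
  constructor
  · rintro ⟨g, h1, rfl⟩
    have hm : W.p⁻¹ * g ∈ H.M := W.fix_base.1 (by
      rw [mul_smul, h1, inv_smul_eq_iff, cs_smul, mul_one])
    obtain ⟨v, hv, k, hk, he⟩ := (W.M_split hm).2
    have hk' : W.p * k * W.p⁻¹ ∈ W.Kst := by
      refine W.mem_Kst.2 ⟨?_, by simpa [mul_assoc] using (W.mem_Kst.1 hk).1⟩
      rw [show W.p * k * W.p⁻¹ = (W.p * W.p) * (W.p⁻¹ * k * W.p) * (W.p * W.p)⁻¹ by group]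
      exact mul_mem (mul_mem W.p_sq (W.mem_Kst.1 hk).2) (inv_mem W.p_sq)
    set k' := W.p * k * W.p⁻¹ with hk'e
    rw [show g = k' * (W.p * C.ev v) by rw [show g = W.p * (W.p⁻¹ * g) by group, he, hk'e]; group, mul_smul k',
      mul_smul W.p, W.trans0 hv, cs_smul _ W.p, ← mul_assoc]
    by_cases hc0 : qB 4 v = 0
    · left
      rw [hc0, show W.av 0 = 1 by rw [show (0 : ℕ) = ((0 : Fin 3) : ℕ) from rfl, W.av_eq]; simp, mul_one, ← W.walk0]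
      obtain ⟨i, hi, e, -⟩ := R.K_pt hk'
      exact ⟨i, hi, e⟩
    · right
      set q : Fin 3 := ⟨qB 4 v, Nat.mod_lt _ (by norm_num)⟩
      rw [show W.p * W.av (qB 4 v) * W.w = W.p * W.av q * W.w from rfl,
        ← W.walk3 (c := q) (fun h => hc0 (congrArg Fin.val h))]
      obtain ⟨i, hi, -, hz⟩ := R.K_pt hk'
      refine ⟨i, hi, ?_⟩
      have e : k' • cs H.M (H.z ^ (2 * (q : ℕ)) * W.p) = (k' * H.z * k'⁻¹) ^ (2 * (q : ℕ)) • cs H.M W.p := by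
        rw [conj_pow, mul_smul _ k'⁻¹, inv_smul_eq_iff.2 (W.K_fix hk').symm, mul_smul k' (H.z ^ _), cs_smul _ (H.z ^ _) W.p]
      rw [e, PD, PD]
      have hq : (q : ℕ) = 1 ∨ (q : ℕ) = 2 := by
        have := q.2
        have : (q : ℕ) ≠ 0 := hc0
        omega
      have hcube : ∀ u, C.ev u ^ 4 = C.ev u := fun u => by rw [pow_succ, H.J_cube _ (C.ev_J u), one_mul]
      rcases hq with hq | hq <;> rw [hq] <;> rcases hz with h | h <;> rw [h]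
      · right; rw [C.ev_smul]
      · left; rw [C.ev_smul, ← pow_mul, hcube]
      · left; rw [hcube]
      · right; rw [hcube]
  · intro h
    have hfix : ∀ i < 10, kk i • cs H.M W.p = cs H.M W.p := fun i hi => W.K_fix (R.mem i hi)
    rcases h with ⟨i, hi, rfl⟩ | ⟨i, hi, h⟩
    · have := (R.adj_symm R.adj_opp).smul (kk i)
      rwa [hfix i hi] at this
    · have hp : ∀ c : Fin 3, c ≠ 0 →
          Adj H.M W.w (cs H.M W.p) (W.PD (vS (2 * (c : ℕ)) (ap (lineM.getD i 0) 4))) := by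
        intro c hc
        have h0 : Adj H.M W.w (cs H.M W.p) (cs H.M (H.z ^ (2 * (c : ℕ)) * W.p)) :=
          ⟨W.p * W.av c, by rw [mul_smul, W.fix_base.2 (W.av_M _), cs_smul, mul_one],
            by rw [cs_smul, ← W.walk3 hc]⟩
        have h1 := h0.smul (kk i)
        rw [hfix i hi] at h1
        convert h1 using 1
        rw [PD, C.ev_smul, ← (R.act i hi).2 4 (by norm_num), C.ev_basis.1, conj_pow]
        conv_lhs => rw [← hfix i hi, ← mul_smul, inv_mul_cancel_right]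
        rw [mul_smul, cs_smul]
      have h42 : ∀ v < 81, vS (2 * (2 : ℕ)) v = vS 1 v := by decide +kernel
      have g1 := hp 1 (by decide)
      have g2 := hp 2 (by decide)
      rw [show (2 : ℕ) * ((1 : Fin 3) : ℕ) = 2 from rfl] at g1
      rw [show (((2 : Fin 3)) : ℕ) = 2 from rfl, h42 _ (ap_lt _ _)] at g2
      rcases line_signs i hi _ rfl with ⟨a, b⟩ | ⟨a, b⟩ <;> rcases h with rfl | rfl <;>
        first
          | (rw [← a]; assumption)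
          | (rw [← b]; assumption)

end Reps

end Wl

end Cfsg.Agent.Spor.McLThree
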