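import Cfsg.Agent.Lib.Spor.McLThree.Fix

/-!
`J` is the only abelian subgroup of order `81` of its Sylow group; the involution over the centre of `SL₂(5)`
inverts `Q` modulo its centre.
-/

set_option autoImplicit false
set_option linter.unusedSectionVars false

namespace Cfsg.Agent.Spor.McLThree

open Subgroup

universe u

namespace Hyp

variable {G : Type u} [Group G] [Finite G] (H : Hyp G)

theorem fixQ_J {j : G} (hj : j ∈ H.J) (hjQ : j ∉ H.Q) : H.fixQ j = H.J ⊓ H.Q := by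
  have hle : H.J ⊓ H.Q ≤ H.fixQ j := fun a ha => H.mem_fixQ.2 ⟨ha.2, by
    rw [H.J_comm a ha.1 j hj]; simp⟩
  have hjL := H.S_le_L (H.J_le_S hj)
  refine (eq_of_le_of_card_ge hle ?_).symm
  rw [H.card_JQ]
  refine H.fix_le hjL ?_ fun h => hjQ ((H.ψ_ker _).1 h)
  rw [← map_mul, ← map_mul, ← map_one H.ψ]
  exact congrArg H.ψ (Subtype.ext (show j * j * j = 1 by rw [← H.J_cube j hj, pow_succ, sq]))

theorem abel81_unique {A : Subgroup G} (hA : A ≤ H.S) (hc : ∀ a ∈ A, ∀ b ∈ A, a * b = b * a)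
    (h81 : Nat.card A = 81) : A = H.J := by
  obtain ⟨-, h27⟩ := H.z_mem_abelian hA hc h81
  obtain ⟨e, heA, heQ⟩ : ∃ e ∈ A, e ∉ H.Q := by
    by_contra h
    push Not at h
    have := H.abelian_le (show A ≤ H.Q from h) hc
    omega
  obtain ⟨j, hj, q0, hq0, rfl⟩ := H.mem_S (hA heA)
  have hjQ : j ∉ H.Q := fun h => heQ (mul_mem h hq0)
  have hjz := H.S_cz _ (H.J_le_S hj)
  have hle : A ⊓ H.Q ≤ H.fixQ j := fun a ha => by
    obtain ⟨i, hi⟩ := H.Q_comm a ha.2 q0 hq0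
    have hcm : a * (j * q0) = j * q0 * a := hc a ha.1 _ heA
    refine H.mem_fixQ.2 ⟨ha.2, -i, ?_⟩
    show H.z ^ (-i) = _
    have hji : j * H.z ^ i * j⁻¹ = H.z ^ i := by
      rw [((show Commute j H.z from hjz).zpow_right i).eq, mul_inv_cancel_right]
    calc H.z ^ (-i) = (j * H.z ^ i * j⁻¹)⁻¹ := by rw [hji, zpow_neg]
      _ = (j * (a * q0 * a⁻¹ * q0⁻¹) * j⁻¹)⁻¹ := by rw [show H.z ^ i = a * q0 * a⁻¹ * q0⁻¹ from hi]
      _ = (j * q0) * a * q0⁻¹ * a⁻¹ * j⁻¹ := by group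
      _ = a * j * a⁻¹ * j⁻¹ := by rw [← hcm]; group
  rw [H.fixQ_J hj hjQ] at hle
  have heq := eq_of_le_of_card_ge hle (by rw [h27, H.card_JQ])
  have hq0J : q0 ∈ H.J ⊓ H.Q := H.cent_JQ hq0 fun a ha => by
    have ha' : a ∈ A ⊓ H.Q := heq.symm ▸ ha
    have h1 := hc _ heA a ha'.1
    have h2 := H.J_comm j hj a ha.1
    rw [mul_assoc, ← mul_assoc a, ← h2, mul_assoc] at h1
    exact mul_left_cancel h1
  refine eq_of_le_of_card_ge (fun a ha => ?_) (by rw [h81, H.J_card])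
  obtain ⟨j', hj', q, hq, rfl⟩ := H.mem_S (hA ha)
  refine mul_mem hj' (H.cent_JQ hq fun b hb => ?_).1
  have hb' : b ∈ A ⊓ H.Q := heq.symm ▸ hb
  have h1 := hc _ ha b hb'.1
  have h2 := H.J_comm j' hj' b hb.1
  rw [mul_assoc, ← mul_assoc b, ← h2, mul_assoc] at h1
  exact mul_left_cancel h1

/-- An element normalising `S` normalises `J`. -/
theorem norm_J_of_norm_S {g : G} (hg : ∀ s ∈ H.S, g * s * g⁻¹ ∈ H.S) :
    g ∈ normalizer (H.J : Set G) := by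
  have h := H.abel81_unique (A := H.J.map (MulAut.conj g).toMonoidHom)
    (by rintro _ ⟨a, ha, rfl⟩; exact hg a (H.J_le_S ha))
    (by rintro _ ⟨a, ha, rfl⟩ _ ⟨b, hb, rfl⟩; rw [← map_mul, ← map_mul, H.J_comm a ha b hb])
    (by rw [card_map_of_injective (MulAut.conj g).injective, H.J_card])
  refine Subgroup.mem_normalizer_fintype fun a ha => ?_
  exact h ▸ ⟨a, ha, rfl⟩

theorem S_norm_J : H.S ≤ normalizer (H.J : Set G) := fun _ hs =>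
  H.norm_J_of_norm_S fun _ ht => mul_mem (mul_mem hs ht) (inv_mem hs)

theorem JQ_comm {a s : G} (ha : a ∈ H.J ⊓ H.Q) (hs : s ∈ H.S) : a * s * a⁻¹ * s⁻¹ ∈ zpowers H.z := by
  obtain ⟨j, hj, q, hq, rfl⟩ := H.mem_S hs
  obtain ⟨i, hi⟩ := H.Q_comm a ha.2 q hq
  have hji : j * H.z ^ i * j⁻¹ = H.z ^ i := by
    rw [((show Commute j H.z from H.S_cz _ (H.J_le_S hj)).zpow_right i).eq, mul_inv_cancel_right]
  refine ⟨i, ?_⟩
  show H.z ^ i = _
  calc H.z ^ i = j * H.z ^ i * j⁻¹ := hji.symm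
    _ = j * (a * q * a⁻¹ * q⁻¹) * j⁻¹ := by rw [show H.z ^ i = a * q * a⁻¹ * q⁻¹ from hi]
    _ = (j * a) * q * a⁻¹ * q⁻¹ * j⁻¹ := by group
    _ = _ := by rw [← H.J_comm a ha.1 j hj]; group

/-- The centre of `S` is generated by `z`. -/
theorem center_S {s : G} (hs : s ∈ H.S) (h : ∀ x ∈ H.S, s * x = x * s) : s ∈ zpowers H.z := by
  have hJ : s ∈ H.J := H.J_self_cent fun a ha => h a (H.J_le_S ha)
  by_cases hQ : s ∈ H.Q
  · exact H.Q_cen s hQ fun b hb => h b (H.Q_le_S hb)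
  · exfalso
    have hle : H.Q ≤ H.fixQ s := fun q hq => H.mem_fixQ.2 ⟨hq, by rw [← h q (H.Q_le_S hq)]; simp⟩
    rw [H.fixQ_J hJ hQ] at hle
    have := card_le_of_le hle
    rw [H.card_JQ, H.Q_card] at this
    omega

theorem exists_invol : ∃ t : G, ∃ ht : t ∈ H.L, t * t = 1 ∧ H.ψ ⟨t, ht⟩ = -1 := by
  obtain ⟨g, hg, hψ⟩ := H.psi_lift (-1)
  have h2 : g * g ∈ H.Q := (H.ψ_ker ⟨g * g, mul_mem hg hg⟩).1 (by
    rw [show (⟨g * g, mul_mem hg hg⟩ : H.L) = ⟨g, hg⟩ * ⟨g, hg⟩ from rfl, map_mul, hψ, sl5_neg.1])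
  refine ⟨g ^ 3, pow_mem hg 3, ?_, ?_⟩
  · rw [← pow_add, show 3 + 3 = 2 * 3 from rfl, pow_mul, sq, H.Q_cube _ h2]
  · rw [show (⟨g ^ 3, pow_mem hg 3⟩ : H.L) = ⟨g, hg⟩ ^ 3 from rfl, map_pow, hψ, pow_succ, sq, sl5_neg.1, one_mul]

/-- The involution over the centre of `SL₂(5)` fixes only the centre of `Q`, modulo the centre. -/
theorem invol_fix {t : G} (ht : t ∈ H.L) (ht2 : t * t = 1) (hψ : H.ψ ⟨t, ht⟩ = -1) {q : G} (hq : q ∈ H.Q)
    (h : t * q * t⁻¹ * q⁻¹ ∈ zpowers H.z) : q ∈ zpowers H.z := by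
  haveI : Fact (Nat.Prime 5) := ⟨by norm_num⟩
  obtain ⟨⟨u, huL⟩, hu5⟩ := exists_prime_orderOf_dvd_card' (G := H.L) 5 (by rw [H.card_L]; norm_num)
  rw [Subgroup.orderOf_mk] at hu5
  have htz := H.L_cz ht
  have hfix : ∀ a ∈ H.fixQ t, u * a * u⁻¹ ∈ H.fixQ t := by
    intro a ha
    have h1 := H.conj_fixQ (H.L_cz huL) ha
    obtain ⟨q0, hq0, hut⟩ : ∃ q0 ∈ H.Q, u * t * u⁻¹ = t * q0 := by
      refine ⟨t⁻¹ * (u * t * u⁻¹), ?_, by group⟩
      refine (H.ψ_ker ⟨_, mul_mem (inv_mem ht) (mul_mem (mul_mem huL ht) (inv_mem huL))⟩).1 ?_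
      rw [show (⟨_, mul_mem (inv_mem ht) (mul_mem (mul_mem huL ht) (inv_mem huL))⟩ : H.L) =
        (⟨t, ht⟩ : H.L)⁻¹ * (⟨u, huL⟩ * ⟨t, ht⟩ * (⟨u, huL⟩ : H.L)⁻¹) from rfl, map_mul, map_inv, map_mul, map_mul,
        map_inv, hψ, sl5_neg.2.2, mul_inv_cancel_right, inv_mul_cancel]
    rw [hut] at h1
    obtain ⟨hb, i, hi⟩ := H.mem_fixQ.1 h1
    obtain ⟨k, hk⟩ := H.Q_comm _ hb q0 hq0
    generalize u * a * u⁻¹ = b at hb hi hk ⊢
    refine H.mem_fixQ.2 ⟨hb, i - k, ?_⟩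
    show H.z ^ (i - k) = _
    have htk : t * H.z ^ k * t⁻¹ = H.z ^ k := by
      rw [((show Commute t H.z from htz).zpow_right k).eq, mul_inv_cancel_right]
    calc H.z ^ (i - k) = H.z ^ i * (t * H.z ^ k * t⁻¹)⁻¹ := by rw [htk, zpow_sub]
      _ = b * (t * q0) * b⁻¹ * (t * q0)⁻¹ * (t * (b * q0 * b⁻¹ * q0⁻¹) * t⁻¹)⁻¹ := by
        rw [show H.z ^ i = b * (t * q0) * b⁻¹ * (t * q0)⁻¹ from hi,
          show H.z ^ k = b * q0 * b⁻¹ * q0⁻¹ from hk]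
      _ = _ := by group
  have hqf : q ∈ H.fixQ t := H.mem_fixQ.2 ⟨hq, by
    have := inv_mem h
    rwa [show (t * q * t⁻¹ * q⁻¹)⁻¹ = q * t * q⁻¹ * t⁻¹ by group] at this⟩
  rcases H.five_invariant huL hu5 (A := H.fixQ t) inf_le_left (H.z_fixQ htz) hfix with e | e
  · rwa [e] at hqf
  exfalso
  have htQ : t ∈ H.Q := H.cent_Q t fun a ha => by
    have ha' : a ∈ H.fixQ t := e.symm ▸ ha
    obtain ⟨-, i, hi⟩ := H.mem_fixQ.1 ha'
    have hz : Commute t (H.z ^ i) := (show Commute t H.z from htz).zpow_right i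
    have hti : t⁻¹ = t := inv_eq_of_mul_eq_one_right ht2
    have h1 : t * a * t⁻¹ = (H.z ^ i)⁻¹ * a := by
      rw [show H.z ^ i = a * t * a⁻¹ * t⁻¹ from hi]; group
    have h2 : a = (H.z ^ i)⁻¹ * ((H.z ^ i)⁻¹ * a) := by
      have e1 : t * (t * a * t⁻¹) * t⁻¹ = a := by
        rw [hti, ← mul_assoc, ← mul_assoc, ht2, one_mul, mul_assoc, ht2, mul_one]
      conv_lhs => rw [← e1, h1]
      rw [show t * ((H.z ^ i)⁻¹ * a) * t⁻¹ = t * (H.z ^ i)⁻¹ * t⁻¹ * (t * a * t⁻¹) by group, h1,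
        hz.inv_right.eq, mul_inv_cancel_right]
    have h3 : H.z ^ i = 1 := by
      have h4 : (H.z ^ i)⁻¹ * (H.z ^ i)⁻¹ = 1 := by
        rw [← mul_assoc] at h2
        exact mul_eq_right.1 h2.symm
      have h5 : (H.z ^ i) ^ 3 = 1 := by
        rw [← zpow_natCast, ← zpow_mul, mul_comm, zpow_mul, zpow_natCast, H.z_cube, one_zpow]
      have h6 : (H.z ^ i) * (H.z ^ i) = 1 := by
        rw [← mul_inv_rev, inv_eq_one] at h4; exact h4
      rwa [pow_succ, sq, h6, one_mul] at h5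
    rw [h3, inv_one, one_mul] at h1
    exact mul_inv_eq_iff_eq_mul.1 h1
  have := (H.ψ_ker ⟨t, ht⟩).2 htQ
  rw [hψ] at this
  exact sl5_neg.2.1 this

end Hyp

end Cfsg.Agent.Spor.McLThree
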